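import Cfsg.Agent.H92.ExcSL2

/-!
# Some element orders of the Chevalley groups
-/

set_option autoImplicit false

namespace Cfsg.Agent.H92.ExcOrd

open Cfsg Cfsg.Lie Cfsg.Agent.H92.KTools Cfsg.Agent.H92.ExcSL2
  Cfsg.Agent.ChevalleyStructure Cfsg.Agent.ChevalleyStructure.Elts Cfsg.Agent.ChevalleyStructure.SL2Hom

universe u

variable {D : ChevalleyDatum} {F : Type u} [Field F]

theorem orderOf_xG (hD : InList D) {r : ℕ} (hr : r < D.nroots) (p : ℕ) [Fact p.Prime] [CharP F p] :
    orderOf (xG hD r (1 : F)) = p := by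
  have hpr : p.Prime := Fact.out
  have key : ∀ n : ℕ, (xG hD r (1 : F)) ^ n = xG hD r (n : F) := by
    intro n
    induction n with
    | zero => rw [pow_zero, Nat.cast_zero, xG_zero]
    | succ n ih => rw [pow_succ, ih, xG_add, Nat.cast_succ]
  apply orderOf_eq_prime
  · rw [key, CharP.cast_eq_zero, xG_zero]
  · rw [Ne, xG_eq_one_iff hD hr]
    exact one_ne_zero

/-- `x_r(1) x_s(1)` has order four in characteristic two if `r + s` is a root and `r, s` span `A₂`. -/
theorem orderOf_four (hD : InList D) {r s k : ℕ} (hr : r < D.nroots) (hs : s < D.nroots) (hk : k < D.nroots)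
    (h1 : s ≠ r) (h2 : s ≠ D.neg r) {c : ℤ} (hc : D.commTerms r s = [(k, c, 1, 1)]) (hodd : Odd c)
    (hor : OrthB D s k = true) (hF : (2 : F) = 0) :
    orderOf (xG hD r (1 : F) * xG hD s 1) = 4 := by
  have sq : ∀ {j : ℕ} (t : F), xG hD j t * xG hD j t = 1 := by
    intro j t
    rw [xG_add, ← two_mul, hF, zero_mul, xG_zero]
  have hneg : (-1 : F) = 1 := by linear_combination -hF
  have hc1 : (c : F) = 1 := by
    obtain ⟨m, rfl⟩ := hodd
    push_cast
    linear_combination (m : F) * hF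
  have h3 := UnipProd.xG_comm hD hr hs h1 h2 (1 : F) 1
  have h4 : D.commWord F r s 1 1 = [(k, 1)] := by
    unfold ChevalleyDatum.commWord
    rw [hc]
    simp [hc1, hneg]
  rw [h4, wordG_cons, wordG_nil, mul_one] at h3
  simp only at h3
  have h5 : (xG hD r (1 : F) * xG hD s 1) ^ 2 = xG hD k 1 := by
    have hcm := xG_commute hD hs hk hor (1 : F) 1
    rw [pow_two]
    calc xG hD r (1 : F) * xG hD s 1 * (xG hD r 1 * xG hD s 1)
        = xG hD r 1 * (xG hD s 1 * xG hD r 1) * xG hD s 1 := by group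
      _ = xG hD r 1 * (xG hD r 1 * xG hD s 1 * xG hD k 1) * xG hD s 1 := by rw [h3]
      _ = (xG hD r 1 * xG hD r 1) * (xG hD s 1 * (xG hD k 1 * xG hD s 1)) := by group
      _ = (xG hD s 1 * xG hD s 1) * xG hD k 1 := by rw [sq, ← hcm.eq]; group
      _ = _ := by rw [sq, one_mul]
  have : Fact (Nat.Prime 2) := ⟨Nat.prime_two⟩
  refine orderOf_eq_prime_pow (p := 2) (n := 1) ?_ ?_
  · rw [pow_one, h5, xG_eq_one_iff hD hk]
    exact one_ne_zero
  · rw [pow_succ, pow_one, pow_mul, h5, pow_two, sq]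

theorem coe_orderOf {x : ↥(D.group F)} : orderOf (x : GL D.Idx F) = orderOf x :=
  orderOf_injective (D.group F).subtype (D.group F).subtype_injective x

/-- odd characteristic -/
theorem ords_odd (hD : InList D) {i s r : ℕ} (hi : i < D.rank) (hr : D.simple i < D.nroots)
    (hs : s < D.nroots) (hodd : Odd (D.cartan i s)) (hr2 : r < D.nroots) (hor : Orth4 D (D.simple i) r = true)
    (p : ℕ) [hp : Fact p.Prime] [CharP F p] (h2 : p ≠ 2) :
    HasOrd (D.group F) 4 ∧ HasOrd (D.group F) (2 * p) ∧ HasOrd (D.group F) (4 * p) := by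
  have hF : (2 : F) ≠ 0 := by
    intro h
    have h3 : ((2 : ℕ) : F) = 0 := by exact_mod_cast h
    rw [CharP.cast_eq_zero_iff F p] at h3
    exact h2 ((Nat.prime_dvd_prime_iff_eq hp.out Nat.prime_two).1 h3)
  have h4 : orderOf (ph (F := F) hD hr (wel 1 one_ne_zero)) = 4 := by
    rw [orderOf_injective _ (ph_injective hD hi hr hs hodd), orderOf_wel hF]
  have h5 : orderOf (ph (F := F) hD hr2 (up 1)) = p := by
    rw [← coe_orderOf, coe_ph, phi_up hD hr2, orderOf_xG hD hr2 p]
  have hcop : Nat.Coprime 4 p := by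
    rw [show 4 = 2 ^ 2 by norm_num]
    exact Nat.Coprime.pow_left 2 ((Nat.coprime_primes Nat.prime_two hp.out).2 (Ne.symm h2))
  have h6 : HasOrd (D.group F) (4 * p) := HasOrd.mul_of_commute h4 h5 (ph_commute hD hr hr2 hor _ _) hcop
  refine ⟨⟨_, h4⟩, ?_, h6⟩
  exact h6.of_dvd ⟨2, by ring⟩ (by have := hp.out.pos; omega)

/-- characteristic two -/
theorem ords_two (hD : InList D) {r s k j : ℕ} (hr : r < D.nroots) (hs : s < D.nroots) (hk : k < D.nroots)
    (hj : j < D.nroots)
    (h1 : s ≠ r) (h2 : s ≠ D.neg r) {c : ℤ} (hc : D.commTerms r s = [(k, c, 1, 1)]) (hodd : Odd c)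
    (hor : OrthB D s k = true) (h3 : Orth4 D j r = true) (h4 : Orth4 D j s = true) (hF : (2 : F) = 0) :
    HasOrd (D.group F) 4 ∧ HasOrd (D.group F) 6 ∧ HasOrd (D.group F) 12 := by
  have h5 : orderOf (ph (F := F) hD hj (thr F)) = 3 := by
    rw [orderOf_ph hD hj _ (by rw [orderOf_thr]; decide), orderOf_thr]
  have h6 : orderOf (ph (F := F) hD hr (up 1) * ph (F := F) hD hs (up 1)) = 4 := by
    rw [← coe_orderOf, Subgroup.coe_mul, coe_ph, coe_ph, phi_up hD hr, phi_up hD hs]
    exact orderOf_four hD hr hs hk h1 h2 hc hodd hor hF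
  have h7 : HasOrd (D.group F) (3 * 4) := HasOrd.mul_of_commute h5 h6
    ((ph_commute hD hj hr h3 _ _).mul_right (ph_commute hD hj hs h4 _ _)) (by norm_num)
  exact ⟨⟨_, h6⟩, h7.of_dvd (by norm_num) (by norm_num), h7⟩

/-! ### the tables -/

theorem e6_odd (p : ℕ) [hp : Fact p.Prime] [CharP F p] (h2 : p ≠ 2) :
    HasOrd (chevE6.group F) 4 ∧ HasOrd (chevE6.group F) (2 * p) ∧ HasOrd (chevE6.group F) (4 * p) :=
  ords_odd (D := chevE6) (by simp) (i := 0) (s := chevE6.simple 2) (r := chevE6.simple 1) (by decide) (by decide)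
    (by decide) (by decide) (by decide) (by decide) p h2

theorem e6_two (hF : (2 : F) = 0) :
    HasOrd (chevE6.group F) 4 ∧ HasOrd (chevE6.group F) 6 ∧ HasOrd (chevE6.group F) 12 :=
  ords_two (D := chevE6) (by simp) (r := 46) (s := 39) (k := 47) (j := 56) (c := -1) (by decide) (by decide)
    (by decide) (by decide) (by decide) (by decide) (by decide) (by decide) (by decide) (by decide) (by decide) hF

theorem f4_odd (p : ℕ) [hp : Fact p.Prime] [CharP F p] (h2 : p ≠ 2) :
    HasOrd (chevF4.group F) 4 ∧ HasOrd (chevF4.group F) (2 * p) ∧ HasOrd (chevF4.group F) (4 * p) :=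
  ords_odd (D := chevF4) (by simp) (i := 0) (s := 27) (r := 24) (by decide) (by decide)
    (by decide) (by decide) (by decide) (by decide) p h2

theorem f4_two (hF : (2 : F) = 0) :
    HasOrd (chevF4.group F) 4 ∧ HasOrd (chevF4.group F) 6 ∧ HasOrd (chevF4.group F) 12 :=
  ords_two (D := chevF4) (by simp) (r := 33) (s := 27) (k := 34) (j := 24) (c := -1) (by decide) (by decide)
    (by decide) (by decide) (by decide) (by decide) (by decide) (by decide) (by decide) (by decide) (by decide) hF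

/-- three composite orders: `4, 2p, 4p` or `4, 6, 12` -/
theorem three_ords {X : Type u} [Group X] {F : Type u} [Field F] [Finite F]
    (h1 : ∀ p : ℕ, Fact p.Prime → CharP F p → p ≠ 2 → HasOrd X 4 ∧ HasOrd X (2 * p) ∧ HasOrd X (4 * p))
    (h2 : (2 : F) = 0 → HasOrd X 4 ∧ HasOrd X 6 ∧ HasOrd X 12) :
    ∃ C : Finset ℕ, C.card = 3 ∧ ∀ n ∈ C, HasOrd X n ∧ ¬ n.Prime ∧ n ≠ 1 := by
  obtain ⟨p, hp⟩ := CharP.exists F
  have hpr : p.Prime := CharP.char_is_prime F p
  have hf : Fact p.Prime := ⟨hpr⟩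
  by_cases hp2 : p = 2
  · subst hp2
    obtain ⟨a, b, c⟩ := h2 (by exact_mod_cast CharP.cast_eq_zero F 2)
    refine ⟨{4, 6, 12}, by decide, ?_⟩
    simp only [Finset.mem_insert, Finset.mem_singleton, forall_eq_or_imp, forall_eq]
    exact ⟨⟨a, by decide, by decide⟩, ⟨b, by decide, by decide⟩, ⟨c, by decide, by decide⟩⟩
  · obtain ⟨a, b, c⟩ := h1 p hf hp hp2
    have h3 := hpr.two_le
    have hnp : ∀ k, 2 ≤ k → ¬ (k * p).Prime := fun k hk => Nat.not_prime_mul (by omega) hpr.ne_one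
    refine ⟨{4, 2 * p, 4 * p}, ?_, ?_⟩
    · rw [Finset.card_insert_of_notMem, Finset.card_pair]
      · omega
      · simp only [Finset.mem_insert, Finset.mem_singleton, not_or]
        omega
    · simp only [Finset.mem_insert, Finset.mem_singleton, forall_eq_or_imp, forall_eq]
      exact ⟨⟨a, by decide, by decide⟩, ⟨b, hnp 2 le_rfl, by omega⟩, ⟨c, hnp 4 (by norm_num), by omega⟩⟩

end Cfsg.Agent.H92.ExcOrd
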