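import Cfsg.Agent.H92.ExcG2
import Cfsg.Agent.ChevalleyStructure.FieldIso

/-!
# `F₄(3)` and `G₂(3)` have at least twelve classes
-/

set_option autoImplicit false

namespace Cfsg.Agent.H92.ExcThree

open Cfsg Cfsg.Lie Cfsg.Agent.H92.KTools Cfsg.Agent.H92.ExcSL2 Cfsg.Agent.H92.ExcOrd Cfsg.Agent.H92.ExcCount
  Cfsg.Agent.H92.ExcG2 Cfsg.Agent.H436 Cfsg.Agent.OrdDiv
  Cfsg.Agent.ChevalleyStructure Cfsg.Agent.ChevalleyStructure.Elts Cfsg.Agent.ChevalleyStructure.SL2Hom

universe u v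

variable {D : ChevalleyDatum} {F : Type u} [Field F]

theorem three_eq_zero [CharP F 3] : (3 : F) = 0 := by exact_mod_cast CharP.cast_eq_zero F 3

/-- an element of order eight in characteristic three -/
theorem orderOf_eight [CharP F 3] (hD : InList D) {i j t : ℕ} (hi : i < D.rank) (hj : j < D.rank)
    (hri : D.simple i < D.nroots) (hrj : D.simple j < D.nroots) (hn : D.neg (D.simple j) < D.nroots)
    (ht : t < D.nroots) (h1 : Odd (D.cartan i (D.simple j))) (h2 : Odd (D.cartan i (D.neg (D.simple j))))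
    (h3 : Odd (D.cartan j t)) :
    orderOf (xG hD (D.simple j) (1 : F) * xG hD (D.neg (D.simple j)) 1 * hG hD (D.simple i) (-1)) = 8 := by
  have hch : (3 : F) = 0 := three_eq_zero
  have h20 : (2 : F) ≠ 0 := fun h => one_ne_zero (α := F) (by linear_combination hch - h)
  set φ := phi (SL2All.good_of_mem D hD (D.simple j) hrj) F with hφ
  set z := xG hD (D.simple j) (1 : F) * xG hD (D.neg (D.simple j)) 1 with hz
  set h := hG hD (D.simple i) (-1 : F) with hh
  have hhh : h * h = 1 := by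
    rw [hh, ← phi_neg_one hD hri, ← map_mul, neg_mul_neg, one_mul, map_one]
  have e1 : h * z * h⁻¹ = xG hD (D.simple j) (-1 : F) * xG hD (D.neg (D.simple j)) (-1) := by
    have e2 := BruhatSplit.hG_simple_conj (F := F) hD hi hrj (c := -1) (by simp) 1
    have e3 := BruhatSplit.hG_simple_conj (F := F) hD hi hn (c := -1) (by simp) 1
    rw [h1.neg_one_zpow, mul_one] at e2
    rw [h2.neg_one_zpow, mul_one] at e3
    rw [← e2, ← e3, hz, hh]
    group
  have e4 : (z * h) ^ 2 = φ (wel (-1) (by simp)) := by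
    have e5 : (z * h) ^ 2 = z * (h * z * h⁻¹) * (h * h) := by rw [sq]; group
    rw [e5, hhh, mul_one, e1, hz, ← phi_up hD hrj, ← phi_lo hD hrj, ← phi_up hD hrj, ← phi_lo hD hrj, ← map_mul,
      ← map_mul, ← map_mul]
    congr 1
    apply Subtype.ext
    show (up 1).1 * (lo 1).1 * ((up (-1)).1 * (lo (-1)).1) = !![(0 : F), -1; -(-1)⁻¹, 0]
    ext a b
    fin_cases a <;> fin_cases b <;> simp [up, lo]
    · linear_combination hch
  have e6 : (z * h) ^ (2 ^ 2) = φ (-1) := by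
    rw [pow_succ, pow_one, pow_mul, e4, sq, ← map_mul, wel_sq]
  have : Fact (Nat.Prime 2) := ⟨Nat.prime_two⟩
  refine orderOf_eq_prime_pow (p := 2) (n := 2) ?_ ?_
  · rw [e6]
    intro e7
    have e8 := ph_injective (F := F) hD hj hrj ht h3 (a₁ := -1) (a₂ := 1) (by
      apply Subtype.ext
      rw [coe_ph, map_one]
      exact e7)
    have e9 := congrArg (fun g : SL2 F => g.1 0 0) e8
    simp at e9
    exact h20 (by linear_combination -e9)
  · rw [show 2 ^ (2 + 1) = 2 ^ 2 * 2 by norm_num, pow_mul, e6, sq, ← map_mul, neg_mul_neg, one_mul, map_one]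

/-- elements with `(x - 1)²` of rank one -/
theorem not_isConj_of_rank {ι : Type} [Fintype ι] [DecidableEq ι] {X Y : GL ι F} {u v : ι → F}
    (hX : ((X : Matrix ι ι F) - 1) * ((X : Matrix ι ι F) - 1) = Matrix.vecMulVec u v) {M : Matrix ι ι F}
    (hM : ((Y : Matrix ι ι F) - 1) * ((Y : Matrix ι ι F) - 1) = M) {i j k l : ι}
    (hY : M i j * M k l ≠ M i l * M k j) : ¬ IsConj X Y := by
  intro h
  obtain ⟨c, hc⟩ := isConj_iff.1 h
  have h1 : (Y : Matrix ι ι F) = (c : Matrix ι ι F) * (X : Matrix ι ι F) * ((c⁻¹ : GL ι F) : Matrix ι ι F) := by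
    rw [← hc]; simp
  have h2 : (c : Matrix ι ι F) * ((c⁻¹ : GL ι F) : Matrix ι ι F) = 1 := by
    rw [← Units.val_mul, mul_inv_cancel, Units.val_one]
  have h2' : ((c⁻¹ : GL ι F) : Matrix ι ι F) * (c : Matrix ι ι F) = 1 := by
    rw [← Units.val_mul, inv_mul_cancel, Units.val_one]
  have h3 : (Y : Matrix ι ι F) - 1 = (c : Matrix ι ι F) * ((X : Matrix ι ι F) - 1) * ((c⁻¹ : GL ι F) : Matrix ι ι F) := by
    rw [h1, mul_sub, sub_mul, mul_one, h2]
  have h4 : M = Matrix.vecMulVec ((c : Matrix ι ι F).mulVec u) (Matrix.vecMul v ((c⁻¹ : GL ι F) : Matrix ι ι F)) := by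
    rw [← hM, h3]
    calc (c : Matrix ι ι F) * ((X : Matrix ι ι F) - 1) * ((c⁻¹ : GL ι F) : Matrix ι ι F) *
          ((c : Matrix ι ι F) * ((X : Matrix ι ι F) - 1) * ((c⁻¹ : GL ι F) : Matrix ι ι F))
        = (c : Matrix ι ι F) * ((X : Matrix ι ι F) - 1) * (((c⁻¹ : GL ι F) : Matrix ι ι F) * (c : Matrix ι ι F)) *
          ((X : Matrix ι ι F) - 1) * ((c⁻¹ : GL ι F) : Matrix ι ι F) := by simp only [mul_assoc]
      _ = (c : Matrix ι ι F) * (((X : Matrix ι ι F) - 1) * ((X : Matrix ι ι F) - 1)) *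
          ((c⁻¹ : GL ι F) : Matrix ι ι F) := by rw [h2', mul_one]; simp only [mul_assoc]
      _ = _ := by rw [hX, Matrix.mul_vecMulVec, Matrix.vecMulVec_mul]
  apply hY
  rw [h4]
  simp only [Matrix.vecMulVec_apply]
  ring

/-! ### `G₂(3)` -/

theorem hG2 : InList chevG2 := by simp

/-- index type in normal form -/
abbrev J : Type := Fin 2 ⊕ Fin 12

def XL : Matrix J J (ZMod 3) := chevG2.xMat (ZMod 3) ⟨11, by decide⟩ 1
def XS : Matrix J J (ZMod 3) := chevG2.xMat (ZMod 3) ⟨9, by decide⟩ 1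
def MS : Matrix J J (ZMod 3) := (XS - 1) * (XS - 1)
def uL : J → ZMod 3 := Pi.single (.inr 11) 1
def vL : J → ZMod 3 := Pi.single (.inr 0) 1

set_option maxRecDepth 100000 in
theorem XL_check : ∀ i j : J, ((XL - 1) * (XL - 1)) i j = uL i * vL j := by decide +kernel

set_option maxRecDepth 100000 in
theorem XS_check : MS (.inr 7) (.inr 0) * MS (.inr 8) (.inr 1) ≠ MS (.inr 7) (.inr 1) * MS (.inr 8) (.inr 0) := by
  decide +kernel

/-- long and short root elements of `G₂(3)` are not conjugate -/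
theorem long_short : ¬ IsConj (xG hG2 11 (1 : ZMod 3)) (xG hG2 9 (1 : ZMod 3)) := by
  refine not_isConj_of_rank (F := ZMod 3) (u := uL) (v := vL) (M := MS) (i := (.inr 7 : J)) (j := (.inr 0 : J))
    (k := (.inr 8 : J)) (l := (.inr 1 : J)) ?_ ?_ XS_check
  · rw [coe_xG, x_of_lt (by decide)]
    ext i j
    exact XL_check i j
  · rw [coe_xG, x_of_lt (by decide)]
    rfl

theorem pow_four_aux {X : Type*} [Group X] {a t : X} (h : Commute a t) (ha : orderOf a = 3) (ht : orderOf t = 4) :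
    (a * t) ^ 4 = a := by
  rw [h.mul_pow, show t ^ 4 = 1 by rw [← ht]; exact pow_orderOf_eq_one t, mul_one, pow_succ,
    show a ^ 3 = 1 by rw [← ha]; exact pow_orderOf_eq_one a, one_mul]

theorem count {T : Type*} [Group T] [Finite T] {a b t s : T} (ha : orderOf a = 3) (hb : orderOf b = 3)
    (ht : orderOf t = 4) (hs : orderOf s = 4) (hat : Commute a t) (hbs : Commute b s) (hab : ¬ IsConj a b)
    (h7 : HasOrd T 7) (h13 : HasOrd T 13) (h8 : HasOrd T 8) : 12 ≤ Nat.card (ConjClasses T) := by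
  have e1 : orderOf (a * t) = 12 := by
    rw [hat.orderOf_mul_eq_mul_orderOf_of_coprime (by rw [ha, ht]; decide), ha, ht]
  have e2 : orderOf (b * s) = 12 := by
    rw [hbs.orderOf_mul_eq_mul_orderOf_of_coprime (by rw [hb, hs]; decide), hb, hs]
  have f1 : orderOf ((a * t) ^ 2) = 6 := by rw [orderOf_pow, e1]; decide
  have f2 : orderOf ((b * s) ^ 2) = 6 := by rw [orderOf_pow, e2]; decide
  have g1 : (a * t) ^ 4 = a := pow_four_aux hat ha ht
  have g2 : (b * s) ^ 4 = b := pow_four_aux hbs hb hs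
  have n1 : ¬ IsConj (a * t) (b * s) := fun h => hab (by have := h.pow 4; rwa [g1, g2] at this)
  have n2 : ¬ IsConj ((a * t) ^ 2) ((b * s) ^ 2) := fun h => hab (by
    have := h.pow 2
    rwa [← pow_mul, ← pow_mul, g1, g2] at this)
  have one : ∀ {n : ℕ}, HasOrd T n → ¬ (n = 3 ∨ n = 6 ∨ n = 12) → ∃ l : List T,
      l.length = (if n = 3 ∨ n = 6 ∨ n = 12 then 2 else 1) ∧ (∀ x ∈ l, orderOf x = n) ∧
        l.Pairwise fun x y => ¬ IsConj x y := by
    rintro n ⟨x, hx⟩ hn
    exact ⟨[x], by simp [hn], by simpa using hx, by simp⟩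
  have two : ∀ {n : ℕ} {x y : T}, orderOf x = n → orderOf y = n → ¬ IsConj x y → (n = 3 ∨ n = 6 ∨ n = 12) →
      ∃ l : List T, l.length = (if n = 3 ∨ n = 6 ∨ n = 12 then 2 else 1) ∧ (∀ x ∈ l, orderOf x = n) ∧
        l.Pairwise fun x y => ¬ IsConj x y := by
    intro n x y hx hy hxy hn
    refine ⟨[x, y], by simp [hn], ?_, by simpa using hxy⟩
    intro z hz
    simp only [List.mem_cons, List.not_mem_nil, or_false] at hz
    rcases hz with rfl | rfl
    · exact hx
    · exact hy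
  have h4 : HasOrd T 4 := ⟨t, ht⟩
  have h := sum_le (G := T) {1, 2, 3, 4, 6, 7, 8, 12, 13} (fun n => if n = 3 ∨ n = 6 ∨ n = 12 then 2 else 1) (by
    simp only [Finset.mem_insert, Finset.mem_singleton, forall_eq_or_imp, forall_eq]
    exact ⟨one (hasOrd_one _) (by norm_num), one (h4.of_dvd (by norm_num) (by norm_num)) (by norm_num),
      two ha hb hab (by norm_num), one h4 (by norm_num), two f1 f2 n2 (by norm_num), one h7 (by norm_num),
      one h8 (by norm_num), two e1 e2 n1 (by norm_num), one h13 (by norm_num)⟩)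
  refine le_trans ?_ h
  decide

theorem fact3 : Fact (Nat.Prime 3) := ⟨Nat.prime_three⟩

attribute [local instance] fact3

/-- the same for elements of a subgroup of a group -/
theorem count' {L : Type*} [Group L] (G : Subgroup L) [Finite G] {a b t s w : L} (haG : a ∈ G) (hbG : b ∈ G)
    (htG : t ∈ G) (hsG : s ∈ G) (hwG : w ∈ G) (ha : orderOf a = 3) (hb : orderOf b = 3)
    (ht : orderOf t = 4) (hs : orderOf s = 4) (hw : orderOf w = 8) (hat : Commute a t) (hbs : Commute b s)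
    (hab : ¬ IsConj a b) (h7 : 7 ∣ Nat.card G) (h13 : 13 ∣ Nat.card G) : 12 ≤ Nat.card (ConjClasses G) := by
  have key : ∀ (x : L) (hx : x ∈ G), orderOf (⟨x, hx⟩ : G) = orderOf x := fun x hx =>
    (orderOf_injective G.subtype G.subtype_injective ⟨x, hx⟩).symm
  exact count (a := ⟨a, haG⟩) (b := ⟨b, hbG⟩) (t := ⟨t, htG⟩) (s := ⟨s, hsG⟩) ((key _ _).trans ha)
    ((key _ _).trans hb) ((key _ _).trans ht) ((key _ _).trans hs) (Subtype.ext hat) (Subtype.ext hbs)
    (fun h => hab (G.subtype.map_isConj h)) (hasOrd_prime (by norm_num) h7) (hasOrd_prime (by norm_num) h13)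
    ⟨⟨w, hwG⟩, (key _ _).trans hw⟩

theorem ord_wel {r i t : ℕ} (hi : i < chevG2.rank) (hr : chevG2.simple i < chevG2.nroots) (ht : t < chevG2.nroots)
    (ho : Odd (chevG2.cartan i t)) (e : chevG2.simple i = r) :
    orderOf (nG hG2 r (1 : ZMod 3)) = 4 := by
  subst e
  have h2 : (2 : ZMod 3) ≠ 0 := by decide
  rw [← phi_wel hG2 hr 1 one_ne_zero, ← coe_ph hG2 hr, coe_orderOf,
    orderOf_injective _ (ph_injective hG2 hi hr ht ho), orderOf_wel h2]

theorem com_wel {r s : ℕ} (hr : r < chevG2.nroots) (hs : s < chevG2.nroots) (h : Orth4 chevG2 r s = true) :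
    Commute (xG hG2 r (1 : ZMod 3)) (nG hG2 s (1 : ZMod 3)) := by
  have := phi_commute (F := ZMod 3) hG2 hr hs h (up 1) (wel 1 one_ne_zero)
  rwa [phi_up hG2 hr, phi_wel hG2 hs] at this

theorem k_g2_three (h7 : 7 ∣ Nat.card ↥(chevG2.group (ZMod 3))) (h13 : 13 ∣ Nat.card ↥(chevG2.group (ZMod 3))) :
    12 ≤ Nat.card (ConjClasses ↥(chevG2.group (ZMod 3))) :=
  count' (chevG2.group (ZMod 3)) (a := xG hG2 11 1) (b := xG hG2 9 1) (t := nG hG2 7 1) (s := nG hG2 6 1)
    (w := xG hG2 (chevG2.simple 1) (1 : ZMod 3) * xG hG2 (chevG2.neg (chevG2.simple 1)) 1 *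
      hG hG2 (chevG2.simple 0) (-1)) (xG_mem_group hG2 _ _) (xG_mem_group hG2 _ _) (nG_mem_group hG2 _ _)
    (nG_mem_group hG2 _ _) (mul_mem (mul_mem (xG_mem_group hG2 _ _) (xG_mem_group hG2 _ _))
        (hG_mem_group hG2 _ _)) (orderOf_xG hG2 (by decide) 3) (orderOf_xG hG2 (by decide) 3)
    (ord_wel (i := 0) (t := 6) (by decide) (by decide) (by decide) (by decide) rfl)
    (ord_wel (i := 1) (t := 7) (by decide) (by decide) (by decide) (by decide) rfl)
    (orderOf_eight hG2 (i := 0) (j := 1) (t := 7) (by decide) (by decide) (by decide) (by decide) (by decide)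
      (by decide) (by decide) (by decide) (by decide))
    (com_wel (by decide) (by decide) (by decide)) (com_wel (by decide) (by decide) (by decide)) long_short h7 h13

/-- **`G₂(3)`** -/
theorem g2_three' {G : Type u} [Group G] [Finite G] (he : den (.g2 3) * Nat.card G = num (.g2 3)) {F : Type v}
    [Field F] [Finite F] (hF : Nat.card F = 3) (e : G ≃* chevG2.group F) : 12 ≤ Nat.card (ConjClasses G) := by
  have := Fintype.ofFinite F
  have h : Fintype.card F = Fintype.card (ZMod 3) := by rw [← Nat.card_eq_fintype_card, hF, ZMod.card]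
  have e2 : F ≃+* ZMod 3 := FiniteField.ringEquivOfCardEq h
  have e3 := e.trans (ChevalleyStructure.FieldIso.groupEquiv chevG2 e2)
  rw [card_classes_congr e3]
  have h1 : 1 * Nat.card G = 3 ^ 6 * ((3 ^ 2 - 1) * (3 ^ 6 - 1)) := he
  rw [one_mul, Nat.card_congr e3.toEquiv] at h1
  exact k_g2_three (by rw [h1]; norm_num) (by rw [h1]; norm_num)

/-- **`F₄(3)`** -/
theorem f4_three {G : Type u} [Group G] [Finite G]
    (he : den (.f4 3) * Nat.card G = num (.f4 3)) {F : Type} [Field F] [Finite F] [CharP F 3]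
    (e : G ≃* chevF4.group F) : 12 ≤ Nat.card (ConjClasses G) := by
  have hD : InList chevF4 := by simp
  have h1 : 1 * Nat.card G = 3 ^ 24 * ((3 ^ 2 - 1) * (3 ^ 6 - 1) * (3 ^ 8 - 1) * (3 ^ 12 - 1)) := he
  have hm : 3 * (3 ^ 2 - 1) ∣ Nat.card G := mq_dvd (B := 1) h1 one_pos (dvd_pow_self 3 (by norm_num))
    (by rw [mul_one]; exact ⟨(3 ^ 6 - 1) * (3 ^ 8 - 1) * (3 ^ 12 - 1), by ring⟩) dvd_rfl
  rw [one_mul] at h1
  have d8 : 3 ^ 8 - 1 ∣ Nat.card G := by
    rw [h1]; exact ⟨3 ^ 24 * ((3 ^ 2 - 1) * (3 ^ 6 - 1) * (3 ^ 12 - 1)), by ring⟩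
  have d12 : 3 ^ 12 - 1 ∣ Nat.card G := by
    rw [h1]; exact ⟨3 ^ 24 * ((3 ^ 2 - 1) * (3 ^ 6 - 1) * (3 ^ 8 - 1)), by ring⟩
  have key : ∀ e r n, e ∣ n → 3 ^ n - 1 ∣ Nat.card G → Prim 3 e r → r ∣ Nat.card G :=
    fun e r n hen hd hr => (hr.dvd hen).trans hd
  obtain ⟨o4, o6, o12⟩ := ExcOrd.f4_odd (F := F) 3 (by norm_num)
  have h8 : HasOrd ↥(chevF4.group F) 8 := by
    refine ⟨⟨xG hD (chevF4.simple 1) (1 : F) * xG hD (chevF4.neg (chevF4.simple 1)) 1 *
      hG hD (chevF4.simple 0) (-1), mul_mem (mul_mem (xG_mem_group hD _ _) (xG_mem_group hD _ _))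
        (hG_mem_group hD _ _)⟩, ?_⟩
    rw [← coe_orderOf]
    exact orderOf_eight hD (i := 0) (j := 1) (t := 33) (by decide) (by decide) (by decide) (by decide) (by decide)
      (by decide) (by decide) (by decide) (by decide)
  refine classes_ge (q := 3) (m := 12) (by norm_num) hm {3, 4, 6, 8, 12} (by simp) ?_ {4, 6, 12, 8} ?_ ?_
  · simp only [Finset.mem_insert, Finset.mem_singleton, forall_eq_or_imp, forall_eq]
    exact ⟨fun r => key 3 r 12 (by norm_num) d12, fun r => key 4 r 12 (by norm_num) d12,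
      fun r => key 6 r 12 (by norm_num) d12, fun r => key 8 r 8 (by norm_num) d8,
      fun r => key 12 r 12 (by norm_num) d12⟩
  · simp only [Finset.mem_insert, Finset.mem_singleton, forall_eq_or_imp, forall_eq]
    exact ⟨⟨o4.of_equiv e.symm, by norm_num, by norm_num⟩, ⟨o6.of_equiv e.symm, by norm_num, by norm_num⟩,
      ⟨o12.of_equiv e.symm, by norm_num, by norm_num⟩, ⟨h8.of_equiv e.symm, by norm_num, by norm_num⟩⟩
  · have : (3 * (3 ^ 2 - 1)).primeFactors = {2, 3} := by decide +kernel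
    rw [this]
    decide

end Cfsg.Agent.H92.ExcThree
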