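import Mathlib
import Cfsg.Agent.H93.PReg.Base
import Cfsg.Prelude.Def_KGroupFacts

/-!
# Isolated cyclic tori and orbits of `Aut S` (helper92, for S4883)

`T ≤ S` cyclic of order `t`, containing the centralisers of its elements of order `r` for all primes `r ∣ N`, where
`N ∣ t`; `w₀` with `|S| / t ≡ w₀` modulo some prime `r ∣ N`. Then the elements of `T` whose order has a common factor
with `N` are in `≥ # / (w₀ |Out S|)` orbits of `Aut S`.
-/

set_option autoImplicit false

namespace Cfsg.Agent.H92.PRegT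

open Cfsg.Agent.H93.PReg

universe u

variable {S : Type u} [Group S]

/-- `T` contains the centralisers of its elements of prime order dividing `N`. -/
structure IsoT (T : Subgroup S) (t N : ℕ) : Prop where
  cyc : IsCyclic ↥T
  card : Nat.card ↥T = t
  dvd : N ∣ t
  cent : ∀ r : ℕ, r.Prime → r ∣ N → ∀ y ∈ T, orderOf y = r → Subgroup.centralizer {y} ≤ T

/-- an isolated cyclic torus of order `t`, good for the primes dividing `N` -/
def Iso (S : Type u) [Group S] (t N : ℕ) : Prop := ∃ T : Subgroup S, IsoT T t N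

theorem le_cent {T : Subgroup S} (h : IsCyclic ↥T) {y : S} (hy : y ∈ T) : T ≤ Subgroup.centralizer {y} := by
  intro z hz
  rw [Subgroup.mem_centralizer_singleton_iff]
  have := (IsCyclic.commGroup (α := T)).mul_comm ⟨z, hz⟩ ⟨y, hy⟩
  exact congrArg Subtype.val this

/-- the good elements -/
def Good (T : Subgroup S) (N : ℕ) (y : S) : Prop := y ∈ T ∧ ¬ (orderOf y).Coprime N

variable {T : Subgroup S} {t N : ℕ}

theorem IsoT.centralizer [Finite S] (h : IsoT T t N) {y : S} (hy : Good T N y) : Subgroup.centralizer {y} = T := by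
  obtain ⟨r, hr, h1, h2⟩ := Nat.Prime.not_coprime_iff_dvd.1 hy.2
  refine le_antisymm ?_ (le_cent h.cyc hy.1)
  have h0 : orderOf y ≠ 0 := (orderOf_pos y).ne'
  have h3 : orderOf (y ^ (orderOf y / r)) = r := orderOf_pow_orderOf_div h0 h1
  refine le_trans ?_ (h.cent r hr h2 _ (T.pow_mem hy.1 _) h3)
  intro z hz
  rw [Subgroup.mem_centralizer_singleton_iff] at hz ⊢
  exact (Commute.pow_right (show Commute z y from hz) _)

theorem map_centralizer (a : MulAut S) (y : S) :
    (Subgroup.centralizer {y}).map a.toMonoidHom = Subgroup.centralizer {a y} := by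
  ext z
  rw [Subgroup.mem_centralizer_singleton_iff, Subgroup.mem_map]
  constructor
  · rintro ⟨x, hx, rfl⟩
    rw [Subgroup.mem_centralizer_singleton_iff] at hx
    have := congrArg a hx
    simpa using this
  · intro hz
    refine ⟨a.symm z, ?_, by simp⟩
    rw [Subgroup.mem_centralizer_singleton_iff]
    apply a.injective
    simpa using hz

theorem Good.aut {y : S} (h : Good T N y) (a : MulAut S) (ha : a y ∈ T) : Good T N (a y) :=
  ⟨ha, by rw [orderOf_aut]; exact h.2⟩

theorem IsoT.map_eq [Finite S] (h : IsoT T t N) {y : S} (hy : Good T N y) (a : MulAut S) (ha : a y ∈ T) :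
    T.map a.toMonoidHom = T := by
  have h1 := h.centralizer (hy.aut a ha)
  rw [← map_centralizer, h.centralizer hy] at h1
  exact h1

theorem IsoT.mem_normalizer [Finite S] (h : IsoT T t N) {y g : S} (hy : Good T N y) (ha : g * y * g⁻¹ ∈ T) :
    g ∈ Subgroup.normalizer (T : Set S) := by
  have h1 := h.map_eq hy (MulAut.conj g) (by rw [MulAut.conj_apply]; exact ha)
  rw [Subgroup.mem_normalizer_iff]
  intro x
  constructor
  · intro hx
    rw [← h1]
    exact ⟨x, hx, rfl⟩
  · intro hx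
    rw [← h1] at hx
    obtain ⟨z, hz, hz2⟩ := hx
    have : z = x := by
      have h3 : g * z * g⁻¹ = g * x * g⁻¹ := hz2
      simpa using h3
    exact this ▸ hz

/-- the relative Weyl number -/
noncomputable def wn (T : Subgroup S) : ℕ := T.relIndex (Subgroup.normalizer (T : Set S))

/-- a set of elements conjugate to `y` under the normaliser -/
theorem IsoT.card_fibre [Finite S] (h : IsoT T t N) {y : S} (hy : Good T N y) (Z : Finset S)
    (hZ : ∀ z ∈ Z, z ∈ T ∧ ∃ g : S, g * y * g⁻¹ = z) : Z.card ≤ wn T := by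
  classical
  choose! hZT g hg using hZ
  have hgN : ∀ z ∈ Z, g z ∈ Subgroup.normalizer (T : Set S) := fun z hz =>
    h.mem_normalizer hy (by rw [hg z hz]; exact hZT z hz)
  let N' := Subgroup.normalizer (T : Set S)
  let φ : ↥Z → ↥N' ⧸ T.subgroupOf N' := fun z => QuotientGroup.mk ⟨g z.1, hgN z.1 z.2⟩
  have hφ : Function.Injective φ := by
    intro z z' hzz
    have h1 := QuotientGroup.eq.1 hzz
    rw [Subgroup.mem_subgroupOf] at h1
    have h2 : (g z.1)⁻¹ * g z'.1 ∈ T := h1
    have h3 := le_cent h.cyc hy.1 h2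
    rw [Subgroup.mem_centralizer_singleton_iff] at h3
    apply Subtype.ext
    rw [← hg z.1 z.2, ← hg z'.1 z'.2]
    have h4 : g z'.1 = g z.1 * ((g z.1)⁻¹ * g z'.1) := by group
    rw [h4]
    generalize (g z.1)⁻¹ * g z'.1 = c at h3
    have h5 : c * y * c⁻¹ = y := by rw [h3]; group
    calc g z.1 * y * (g z.1)⁻¹ = g z.1 * (c * y * c⁻¹) * (g z.1)⁻¹ := by rw [h5]
      _ = _ := by group
  have := Nat.card_le_card_of_injective φ hφ
  rw [Nat.card_eq_fintype_card, Fintype.card_coe] at this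
  exact this

/-- the orbits of `Aut S` on the good elements -/
theorem IsoT.card_orbit [Finite S] (h : IsoT T t N) {x : S} (Y : Finset S) (hY : ∀ y ∈ Y, Good T N y)
    (hY2 : ∀ y ∈ Y, ∃ a : MulAut S, a x = y) : Y.card ≤ wn T * Nat.card (Cfsg.Out S) := by
  classical
  have hfin : Finite (MulAut S) := inferInstance
  have : Finite (Cfsg.Out S) := inferInstance
  have := Fintype.ofFinite (Cfsg.Out S)
  choose! a ha using hY2
  let c : S → Cfsg.Out S := fun y => QuotientGroup.mk (a y)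
  have h1 := Finset.card_le_mul_card_image (f := c) Y (wn T) (by
    intro b hb
    obtain ⟨y, hy, hyb⟩ := Finset.mem_image.1 hb
    refine h.card_fibre (hY y hy) _ fun z hz => ?_
    obtain ⟨hz1, hz2⟩ := Finset.mem_filter.1 hz
    refine ⟨(hY z hz1).1, ?_⟩
    have h3 : (QuotientGroup.mk (a y) : Cfsg.Out S) = QuotientGroup.mk (a z) := by
      rw [show (QuotientGroup.mk (a z) : Cfsg.Out S) = b from hz2]; exact hyb
    rw [QuotientGroup.eq] at h3
    have h4 : a z * (a y)⁻¹ ∈ Cfsg.Inn S := by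
      have h5 := (Cfsg.innNormal S).conj_mem _ h3 (a y)
      have h6 : a y * ((a y)⁻¹ * a z) * (a y)⁻¹ = a z * (a y)⁻¹ := by group
      rwa [h6] at h5
    obtain ⟨g, hg⟩ := h4
    refine ⟨g, ?_⟩
    have h7 : MulAut.conj g y = (a z * (a y)⁻¹) y := by rw [hg]
    rw [MulAut.conj_apply] at h7
    rw [h7, MulAut.mul_apply]
    have h8 : (a y)⁻¹ y = x := by
      conv_lhs => rw [← ha y hy]
      rw [ha y hy]
      conv_rhs => rw [← MulAut.inv_apply_self S (a y) x, ha y hy]
    rw [h8, ha z hz1])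
  refine h1.trans (Nat.mul_le_mul le_rfl ?_)
  rw [Nat.card_eq_fintype_card]
  exact Finset.card_le_univ _

/-! ### the relative Weyl number -/

/-- elements of order `r` in a cyclic group -/
theorem exists_order [Finite S] {r : ℕ} (hr : r.Prime) (hrt : r ∣ Nat.card ↥T) :
    ∃ y ∈ T, orderOf y = r := by
  have := Fact.mk hr
  obtain ⟨y, hy⟩ := exists_prime_orderOf_dvd_card' r hrt
  exact ⟨y.1, y.2, by rw [Subgroup.orderOf_coe]; exact hy⟩

theorem IsoT.wn_lt [Finite S] (h : IsoT T t N) {r : ℕ} (hr : r.Prime) (hrN : r ∣ N) : wn T < r := by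
  classical
  have hrt : r ∣ Nat.card ↥T := h.card ▸ hrN.trans h.dvd
  obtain ⟨y, hyT, hy⟩ := exists_order hr hrt
  have hg : Good T N y := ⟨hyT, by
    rw [hy]; intro hc'
    exact hr.one_lt.ne' (Nat.dvd_one.1 (hc' ▸ Nat.dvd_gcd dvd_rfl hrN))⟩
  let N' := Subgroup.normalizer (T : Set S)
  have := Fintype.ofFinite ↥T
  have hcent : ∀ c : ↥N', c ∈ T.subgroupOf N' ↔ c.1 * y = y * c.1 := by
    intro c
    rw [Subgroup.mem_subgroupOf, ← h.centralizer hg, Subgroup.mem_centralizer_singleton_iff]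
  let φ : ↥N' ⧸ T.subgroupOf N' → {z : ↥T // orderOf z = r} := fun c =>
    ⟨⟨c.out.1 * y * c.out.1⁻¹, (Subgroup.mem_normalizer_iff.1 c.out.2 y).1 hyT⟩, by
      rw [← Subgroup.orderOf_coe]
      exact (orderOf_aut (MulAut.conj c.out.1) y).trans hy⟩
  have hφ : Function.Injective φ := by
    intro c c' hcc
    have h1 : c.out.1 * y * c.out.1⁻¹ = c'.out.1 * y * c'.out.1⁻¹ :=
      congrArg (fun z : {z : ↥T // orderOf z = r} => z.1.1) hcc
    have h2 : (c.out)⁻¹ * c'.out ∈ T.subgroupOf N' := by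
      rw [hcent]
      change (c.out.1)⁻¹ * c'.out.1 * y = y * ((c.out.1)⁻¹ * c'.out.1)
      have h3 : c'.out.1 * y = c.out.1 * y * c.out.1⁻¹ * c'.out.1 := by rw [h1]; group
      rw [mul_assoc, h3]; group
    have h3 := QuotientGroup.eq.2 h2
    rw [QuotientGroup.out_eq', QuotientGroup.out_eq'] at h3
    exact h3
  have h1 := Nat.card_le_card_of_injective φ hφ
  have h2 : Nat.card {z : ↥T // orderOf z = r} = r - 1 := by
    rw [Nat.card_eq_fintype_card, Fintype.card_subtype]
    have := h.cyc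
    rw [IsCyclic.card_orderOf_eq_totient (by rwa [← Nat.card_eq_fintype_card]), Nat.totient_prime hr]
  rw [h2] at h1
  have h3 : wn T = Nat.card (↥N' ⧸ T.subgroupOf N') := rfl
  have := hr.one_lt
  omega

theorem card_normalizer [Finite S] : Nat.card ↥(Subgroup.normalizer (T : Set S)) = wn T * Nat.card ↥T := by
  have h1 := Subgroup.card_eq_card_quotient_mul_card_subgroup (T.subgroupOf (Subgroup.normalizer (T : Set S)))
  rw [h1]
  congr 1
  exact Nat.card_congr (Subgroup.subgroupOfEquivOfLe Subgroup.le_normalizer).toEquiv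

/-- a good subgroup of order `r` fixes exactly one conjugate -/
theorem IsoT.index_modEq [Finite S] (h : IsoT T t N) {r : ℕ} (hr : r.Prime) (hrN : r ∣ N) :
    (Subgroup.normalizer (T : Set S)).index ≡ 1 [MOD r] := by
  classical
  have := Fact.mk hr
  have hrt : r ∣ Nat.card ↥T := h.card ▸ hrN.trans h.dvd
  obtain ⟨y, hyT, hy⟩ := exists_order hr hrt
  have hgen : ∀ z : S, orderOf z = r → z ∈ T → Good T N z := fun z hz hzT => ⟨hzT, by
    rw [hz]; intro hc
    exact hr.one_lt.ne' (Nat.dvd_one.1 (hc ▸ Nat.dvd_gcd dvd_rfl hrN))⟩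
  have hg := hgen y hy hyT
  let N' := Subgroup.normalizer (T : Set S)
  have hP : IsPGroup r ↥(Subgroup.zpowers y) := IsPGroup.of_card (n := 1) (by rw [Nat.card_zpowers, hy, pow_one])
  have h1 := hP.card_modEq_card_fixedPoints (S ⧸ N')
  have h2 : Nat.card ↥(MulAction.fixedPoints ↥(Subgroup.zpowers y) (S ⧸ N')) = 1 := by
    rw [Nat.card_eq_one_iff_unique]
    have hfix : ∀ c : S ⧸ N', c ∈ MulAction.fixedPoints ↥(Subgroup.zpowers y) (S ⧸ N') → c = QuotientGroup.mk 1 := by
      intro c hc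
      obtain ⟨g, rfl⟩ := QuotientGroup.mk_surjective c
      have h3 := hc ⟨y, Subgroup.mem_zpowers y⟩
      have h4 : (QuotientGroup.mk (y * g) : S ⧸ N') = QuotientGroup.mk g := h3
      have h5 := QuotientGroup.eq.1 h4.symm
      -- `y' = g⁻¹ y g` normalises `T`, of order `r`
      have h6 : g⁻¹ * y * g ∈ N' := by rwa [← mul_assoc] at h5
      have hy' : orderOf (g⁻¹ * y * g) = r := by
        have := orderOf_aut (MulAut.conj g⁻¹) y
        rw [MulAut.conj_apply, inv_inv] at this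
        rw [this, hy]
      -- the fixed points of `y'` on `zpowers y`
      have h7 : g⁻¹ * y * g ∈ T := by
        have hn : (T.subgroupOf N').Normal := Subgroup.normal_in_normalizer
        have h8 : (⟨g⁻¹ * y * g, h6⟩ : ↥N') ^ Nat.gcd r (wn T) ∈ T.subgroupOf N' := by
          rw [← QuotientGroup.eq_one_iff, QuotientGroup.mk_pow]
          refine pow_gcd_eq_one.2 ⟨?_, ?_⟩
          · rw [← QuotientGroup.mk_pow]
            have h10 : (⟨g⁻¹ * y * g, h6⟩ : ↥N') ^ r = 1 := by
              apply Subtype.ext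
              have := pow_orderOf_eq_one (g⁻¹ * y * g)
              rwa [hy'] at this
            rw [h10]; rfl
          · have h10 : wn T = Nat.card (↥N' ⧸ T.subgroupOf N') := rfl
            rw [h10]
            exact pow_card_eq_one'
        have h9 : Nat.gcd r (wn T) = 1 := by
          refine (Nat.Prime.coprime_iff_not_dvd hr).2 fun hd => ?_
          have h10 : 0 < wn T := Nat.pos_of_ne_zero (Subgroup.index_ne_zero_of_finite)
          exact absurd (Nat.le_of_dvd h10 hd) (not_le.2 (h.wn_lt hr hrN))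
        rw [h9, pow_one, Subgroup.mem_subgroupOf] at h8
        exact h8
      have h8 : g⁻¹ * y * g⁻¹⁻¹ ∈ T := by rwa [inv_inv]
      have h9 := h.mem_normalizer hg h8
      rw [QuotientGroup.eq]
      simpa using h9
    refine ⟨⟨fun a b => Subtype.ext ((hfix a.1 a.2).trans (hfix b.1 b.2).symm)⟩, ⟨⟨QuotientGroup.mk 1, ?_⟩⟩⟩
    intro z
    have h3 : (QuotientGroup.mk (z.1 * 1) : S ⧸ N') = QuotientGroup.mk 1 := by
      rw [QuotientGroup.eq, mul_one, mul_one]
      refine N'.inv_mem (Subgroup.le_normalizer ?_)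
      have := z.2
      exact (Subgroup.zpowers_le.2 hyT) this
    exact h3
  rw [h2] at h1
  exact h1

theorem IsoT.wn_le [Finite S] (h : IsoT T t N) {r : ℕ} (hr : r.Prime) (hrN : r ∣ N) {w : ℕ}
    (hw : Nat.card S / t ≡ w [MOD r]) : wn T ≤ w := by
  have h1 := (Subgroup.normalizer (T : Set S)).card_mul_index
  rw [card_normalizer, h.card] at h1
  have ht : 0 < t := h.card ▸ Nat.card_pos
  have h2 : Nat.card S / t = wn T * (Subgroup.normalizer (T : Set S)).index := by
    rw [← h1]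
    exact Nat.div_eq_of_eq_mul_right ht (by ring)
  rw [h2] at hw
  have h3 : wn T ≡ w [MOD r] := by
    have h4 := (h.index_modEq hr hrN).mul_left (wn T)
    rw [mul_one] at h4
    exact h4.symm.trans hw
  have h4 : wn T % r = wn T := Nat.mod_eq_of_lt (h.wn_lt hr hrN)
  have h5 : wn T % r = w % r := h3
  rw [← h4, h5]
  exact Nat.mod_le _ _

/-- **the torus lemma**: `t'` is a `p'`-divisor of `t` with `N' ∣ gcd(t', N)` -/
theorem IsoT.mo [Finite S] (h : IsoT T t N) {r : ℕ} (hr : r.Prime) (hrN : r ∣ N) {w : ℕ}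
    (hw : Nat.card S / t ≡ w [MOD r]) {o : ℕ} (ho : Nat.card (Cfsg.Out S) ≤ o) {t' N' n : ℕ} (ht' : t' ∣ t)
    (hN' : N' ∣ t') (hN : N' ∣ N) (hlt : (n - 1) * (w * o) < t' - t' / N') :
    MO {k | k ∣ t' ∧ ¬ k.Coprime N'} n S := by
  classical
  have := Fintype.ofFinite S
  have ht0 : 0 < t := h.card ▸ Nat.card_pos
  have ht0' : 0 < t' := Nat.pos_of_dvd_of_pos ht' ht0
  have hN0 : 0 < N' := Nat.pos_of_dvd_of_pos hN' ht0'
  obtain ⟨g, hgT, hg⟩ : ∃ g ∈ T, orderOf g = t := by
    have := h.cyc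
    obtain ⟨g, hg⟩ := IsCyclic.exists_generator (α := ↥T)
    refine ⟨g.1, g.2, ?_⟩
    rw [Subgroup.orderOf_coe, orderOf_eq_card_of_forall_mem_zpowers hg, h.card]
  let K : Subgroup S := Subgroup.zpowers (g ^ (t / t'))
  have hK : Nat.card ↥K = t' := by
    rw [Nat.card_zpowers, orderOf_pow_of_dvd (Nat.div_pos (Nat.le_of_dvd ht0 ht') ht0').ne'
      (by rw [hg]; exact Nat.div_dvd_of_dvd ht'), hg, Nat.div_div_self ht' ht0.ne']
  have hKT : K ≤ T := Subgroup.zpowers_le.2 (T.pow_mem hgT _)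
  have hKc : IsCyclic ↥K := inferInstance
  have := Fintype.ofFinite ↥K
  let X0 : Finset ↥K := Finset.univ.filter fun y => ¬ y ^ (t' / N') = 1
  let X : Finset S := X0.map ⟨Subtype.val, Subtype.val_injective⟩
  have hX : ∀ y ∈ X, y ∈ K ∧ orderOf y ∣ t' ∧ ¬ (orderOf y).Coprime N' := by
    intro y hy
    obtain ⟨z, hz, rfl⟩ := Finset.mem_map.1 hy
    have hz2 := (Finset.mem_filter.1 hz).2
    have h1 : orderOf (z : S) ∣ t' := by
      rw [Subgroup.orderOf_coe, ← hK]
      exact orderOf_dvd_natCard z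
    refine ⟨z.2, h1, fun hc => hz2 ?_⟩
    have h2 : orderOf (z : S) ∣ t' / N' := by
      refine hc.dvd_of_dvd_mul_left ?_
      rwa [Nat.mul_div_cancel' hN']
    rw [Subgroup.orderOf_coe] at h2
    exact orderOf_dvd_iff_pow_eq_one.1 h2
  have hcard : t' - t' / N' ≤ X.card := by
    rw [Finset.card_map]
    have h1 := Finset.card_filter_add_card_filter_not (s := (Finset.univ : Finset ↥K)) (fun y => y ^ (t' / N') = 1)
    have h2 : (Finset.univ.filter fun y : ↥K => y ^ (t' / N') = 1).card ≤ t' / N' :=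
      IsCyclic.card_pow_eq_one_le (Nat.div_pos (Nat.le_of_dvd ht0' hN') hN0)
    rw [Finset.card_univ, ← Nat.card_eq_fintype_card, hK] at h1
    have h3 : X0.card = (Finset.univ.filter fun y : ↥K => ¬ y ^ (t' / N') = 1).card := rfl
    omega
  refine MO.of_count X (fun y hy => (hX y hy).2) (w * o) (fun x hx Y hYX hY => ?_) (lt_of_lt_of_le hlt hcard)
  refine (h.card_orbit Y (fun y hy => ?_) hY).trans (Nat.mul_le_mul (h.wn_le hr hrN hw) ho)
  have h1 := hX y (hYX hy)
  exact ⟨hKT h1.1, fun hc => h1.2.2 (Nat.Coprime.coprime_dvd_right hN hc)⟩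

theorem Iso.mo [Finite S] (h : Iso S t N) {w : ℕ} (hw : Nat.card S / t ≡ w [MOD N]) {o : ℕ}
    (ho : Nat.card (Cfsg.Out S) ≤ o) {t' N' n : ℕ} (ht' : t' ∣ t)
    (hN' : N' ∣ t') (hN : N' ∣ N) (hlt : (n - 1) * (w * o) < t' - t' / N') :
    MO {k | k ∣ t' ∧ ¬ k.Coprime N'} n S := by
  obtain ⟨T, hT⟩ := h
  have hN1 : N' ≠ 1 := by
    rintro rfl
    rw [Nat.div_one, Nat.sub_self] at hlt
    omega
  obtain ⟨r, hr, hrN⟩ := Nat.exists_prime_and_dvd hN1
  exact hT.mo hr (hrN.trans hN) (hw.of_dvd (hrN.trans hN)) ho ht' hN' hN hlt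

/-- the case `N' = t'` -/
theorem Iso.mo' [Finite S] (h : Iso S t N) {w : ℕ} (hw : Nat.card S / t ≡ w [MOD N]) {o : ℕ}
    (ho : Nat.card (Cfsg.Out S) ≤ o) {m n : ℕ} (hm : m ∣ N) (hlt : (n - 1) * (w * o) < m - 1) :
    MO {k | k ∣ m ∧ k ≠ 1} n S := by
  obtain ⟨T, hT⟩ := id h
  have hm0 : 0 < m := by omega
  have h1 := h.mo hw ho (hm.trans hT.dvd) dvd_rfl hm (n := n) (by rw [Nat.div_self hm0]; exact hlt)
  refine h1.mono (fun k hk => ⟨hk.1, fun h1 => hk.2 ?_⟩) le_rfl
  rw [h1]; exact Nat.coprime_one_left _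

theorem Iso.congr {S' : Type*} [Group S'] (e : S ≃* S') (h : Iso S t N) : Iso S' t N := by
  obtain ⟨T, hT⟩ := h
  refine ⟨T.map e.toMonoidHom, (T.equivMapOfInjective e.toMonoidHom e.injective).isCyclic.1 hT.cyc, ?_, hT.dvd, ?_⟩
  · rw [Nat.card_congr (T.equivMapOfInjective e.toMonoidHom e.injective).symm.toEquiv]
    exact hT.card
  · rintro r hr hrN _ ⟨y, hy, rfl⟩ hyr z hz
    rw [Subgroup.mem_centralizer_singleton_iff] at hz
    have ho : orderOf y = r := by
      rw [← hyr]
      exact (orderOf_injective e.toMonoidHom e.injective y).symm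
    refine ⟨e.symm z, hT.cent r hr hrN y hy ho ?_, by simp⟩
    rw [Subgroup.mem_centralizer_singleton_iff]
    apply e.injective
    simpa using hz

theorem Iso.mono {N' : ℕ} (h : Iso S t N) (hN : N' ∣ N) : Iso S t N' := by
  obtain ⟨T, hT⟩ := h
  exact ⟨T, hT.cyc, hT.card, hN.trans hT.dvd, fun r hr hrN => hT.cent r hr (hrN.trans hN)⟩

end Cfsg.Agent.H92.PRegT
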