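import Cfsg.Agent.H92.PRegE8

/-!
# `E₈(q)`: the row (helper92, for S4883)
-/

set_option autoImplicit false
set_option linter.unusedSectionVars false

namespace Cfsg.Agent.H92.PRegE8

open Cfsg.Agent.H93.PReg Cfsg.Agent.H92.PRegT Cfsg.Agent.H92.KTools Cfsg.Agent.H92.PRegNum

theorem coprime_24_30 {x P : ℤ} (hP : Prime P) (h1 : P ∣ 1 - x ^ 4 + x ^ 8) (h2 : P ∣ 1 + x - x ^ 3 - x ^ 4 - x ^ 5 + x ^ 7 + x ^ 8) : False := by
  have h9 := dvd_add (h1.mul_right (1 + x + x ^ 2 - x ^ 5 - x ^ 6 - x ^ 7)) (h2.mul_right (-x + x ^ 5 + x ^ 7))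
  rw [show (1 - x ^ 4 + x ^ 8) * (1 + x + x ^ 2 - x ^ 5 - x ^ 6 - x ^ 7) + (1 + x - x ^ 3 - x ^ 4 - x ^ 5 + x ^ 7 + x ^ 8) * (-x + x ^ 5 + x ^ 7) = 1 by ring] at h9
  exact hP.not_dvd_one h9

variable {S : Type*} [Group S] [Finite S]

theorem modw {q N w : ℕ} {x : ℤ} (hq : x = q) (hN0 : 0 < N) (hcard : (Nat.card S : ℤ) = P8 q)
    (h : ∃ M : ℤ, P8 x = (N : ℤ) * M ∧ (N : ℤ) ∣ M - w) : Nat.card S / N ≡ w [MOD N] := by
  obtain ⟨M, h1, h2⟩ := h
  subst hq
  exact modEq_of_int (M := M) hN0 (by rw [hcard, h1]) h2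

/-- `E₈(2)` -/
theorem two (hcard : (Nat.card S : ℤ) = P8 2) (hout : Nat.card (Cfsg.Out S) = 1)
    (h24 : Iso S 241 241) (h30 : Iso S 331 331) (h15 : Iso S 151 151) : Row S := by
  have hc : Nat.card S = 337804753143634806261388190614085595079991692242467651576160959909068800000 := by
    have : ((Nat.card S : ℕ) : ℤ) = ((337804753143634806261388190614085595079991692242467651576160959909068800000 : ℕ) : ℤ) := by rw [hcard]; norm_num [P8]
    exact_mod_cast this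
  have t24 : MO {k | k ∣ 241 ∧ k ≠ 1} 10 S :=
    h24.mo' (modw (q := 2) (x := 2) rfl (by norm_num) (by exact_mod_cast hcard) (by
      obtain ⟨M, h1, h2⟩ := w24 2
      norm_num at h1 h2 ⊢
      exact ⟨M, h1, h2⟩)) hout.le dvd_rfl (by norm_num)
  have t30 : MO {k | k ∣ 331 ∧ k ≠ 1} 11 S :=
    h30.mo' (modw (q := 2) (x := 2) rfl (by norm_num) (by exact_mod_cast hcard) (by
      obtain ⟨M, h1, h2⟩ := w30 2
      norm_num at h1 h2 ⊢
      exact ⟨M, h1, h2⟩)) hout.le dvd_rfl (by norm_num)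
  have t15 : MO {k | k ∣ 151 ∧ k ≠ 1} 5 S :=
    h15.mo' (modw (q := 2) (x := 2) rfl (by norm_num) (by exact_mod_cast hcard) (by
      obtain ⟨M, h1, h2⟩ := w15 2
      norm_num at h1 h2 ⊢
      exact ⟨M, h1, h2⟩)) hout.le dvd_rfl (by norm_num)
  intro p hp h5 hd
  have hP : Prime (p : ℤ) := Nat.prime_iff_prime_int.1 hp
  have hd' : (p : ℤ) ^ 2 ∣ P8 2 := by rw [← hcard]; exact_mod_cast hd
  have hb : p ≤ 31 := by
    have := bound le_rfl hP hd'
    norm_num at this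
    exact_mod_cast this
  have hne : ∀ k : ℕ, k.Prime → 31 < k → ¬ p ∣ k := fun k hk hlt h => by
    have := (Nat.prime_dvd_prime_iff_eq hp hk).1 h
    omega
  by_cases h21 : p ≤ 21
  · exact reg_add2 (by norm_num) (hne _ (by norm_num) (by norm_num)) (hne _ (by norm_num) (by norm_num)) t24 t30 ∅
      (by simp) (by simp) (by simp) (by simp) (by simpa using h21)
  · have h31 : p = 31 := by
      rw [hc] at hd
      interval_cases p
      · exact absurd hp (by norm_num)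
      · exact absurd hd (by norm_num)
      · exact absurd hp (by norm_num)
      · exact absurd hp (by norm_num)
      · exact absurd hp (by norm_num)
      · exact absurd hp (by norm_num)
      · exact absurd hp (by norm_num)
      · exact absurd hd (by norm_num)
      · exact absurd hp (by norm_num)
      · rfl
    subst h31
    have hL : ∀ k ∈ ({1, 2, 3, 7, 13} : Finset ℕ), HasOrd S k := ords hc _ (by
      simp only [Finset.mem_insert, Finset.mem_singleton, forall_eq_or_imp, forall_eq]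
      norm_num)
    have m1 : MO ({k | k ∣ 241 ∧ k ≠ 1} ∪ {k | k ∣ 331 ∧ k ≠ 1}) 21 S := MO.add (by
      rw [Set.disjoint_left]
      intro k hk hk2
      exact hk.2 (Nat.dvd_one.1 ((show Nat.gcd 241 331 = 1 by norm_num) ▸ Nat.dvd_gcd hk.1 hk2.1))) t24 t30
    have m3 : MO {k | ¬ 31 ∣ k ∧ k ∈ ({1, 2, 3, 7, 13} : Finset ℕ)} 5 S :=
      (MO.of_finset (A := {k | ¬ 31 ∣ k ∧ k ∈ ({1, 2, 3, 7, 13} : Finset ℕ)}) {1, 2, 3, 7, 13} hL
        (fun k hk => ⟨by revert k; decide, hk⟩)).mono (fun _ h => h) (by decide)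
    have m2 : MO ({k | k ∣ 151 ∧ k ≠ 1} ∪ {k | ¬ 31 ∣ k ∧ k ∈ ({1, 2, 3, 7, 13} : Finset ℕ)}) 10 S := MO.add (by
      rw [Set.disjoint_left]
      intro k hk hk2
      have h1 := hk2.2
      have h2 := hk.1
      have h3 := hk.2
      simp only [Finset.mem_insert, Finset.mem_singleton] at h1
      rcases h1 with rfl | rfl | rfl | rfl | rfl
      · exact h3 rfl
      all_goals exact absurd h2 (by norm_num)) t15 m3
    refine (MO.add ?_ m1 m2).mono ?_ (by norm_num)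
    · rw [Set.disjoint_left]
      rintro k (hk | hk) (hk2 | hk2)
      · exact hk.2 (Nat.dvd_one.1 ((show Nat.gcd 241 151 = 1 by norm_num) ▸ Nat.dvd_gcd hk.1 hk2.1))
      · have h1 := hk2.2
        have h2 := hk.1
        have h3 := hk.2
        simp only [Finset.mem_insert, Finset.mem_singleton] at h1
        rcases h1 with rfl | rfl | rfl | rfl | rfl
        · exact h3 rfl
        all_goals exact absurd h2 (by norm_num)
      · exact hk.2 (Nat.dvd_one.1 ((show Nat.gcd 331 151 = 1 by norm_num) ▸ Nat.dvd_gcd hk.1 hk2.1))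
      · have h1 := hk2.2
        have h2 := hk.1
        have h3 := hk.2
        simp only [Finset.mem_insert, Finset.mem_singleton] at h1
        rcases h1 with rfl | rfl | rfl | rfl | rfl
        · exact h3 rfl
        all_goals exact absurd h2 (by norm_num)
    · rintro k ((hk | hk) | (hk | hk))
      · exact fun hd => absurd (hd.trans hk.1) (by norm_num)
      · exact fun hd => absurd (hd.trans hk.1) (by norm_num)
      · exact fun hd => absurd (hd.trans hk.1) (by norm_num)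
      · exact hk.1

/-- **the row of `E₈(q)`** -/
theorem row {q ℓ f N24 N30 N15 : ℕ} (hℓ : ℓ.Prime) (hf : 1 ≤ f) (hq : q = ℓ ^ f)
    (hcard : (Nat.card S : ℤ) = P8 q) (hout : Nat.card (Cfsg.Out S) = f)
    (hN24 : (N24 : ℤ) = 1 - (q : ℤ) ^ 4 + (q : ℤ) ^ 8) (hN30 : (N30 : ℤ) = 1 + (q : ℤ) - (q : ℤ) ^ 3 - (q : ℤ) ^ 4 - (q : ℤ) ^ 5 + (q : ℤ) ^ 7 + (q : ℤ) ^ 8)
    (hN15 : (N15 : ℤ) = 1 - (q : ℤ) + (q : ℤ) ^ 3 - (q : ℤ) ^ 4 + (q : ℤ) ^ 5 - (q : ℤ) ^ 7 + (q : ℤ) ^ 8)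
    (h24 : Iso S N24 N24) (h30 : Iso S N30 N30) (h15 : Iso S N15 N15) : Row S := by
  have hq2 := two_le_of hℓ hf hq
  have hfq : 2 ^ f ≤ q := by rw [hq]; exact Nat.pow_le_pow_left hℓ.two_le f
  have hfq' : f + 1 ≤ q := (lt_two_pow' f).trans hfq
  by_cases h2 : q = 2
  · subst h2
    have hf1 : f = 1 := by omega
    subst hf1
    have e1 : N24 = 241 := by
      have : (N24 : ℤ) = 241 := by rw [hN24]; norm_num
      exact_mod_cast this
    have e2 : N30 = 331 := by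
      have : (N30 : ℤ) = 331 := by rw [hN30]; norm_num
      exact_mod_cast this
    have e3 : N15 = 151 := by
      have : (N15 : ℤ) = 151 := by rw [hN15]; norm_num
      exact_mod_cast this
    subst e1 e2 e3
    exact two (by exact_mod_cast hcard) hout h24 h30 h15
  have hq3 : 3 ≤ q := by omega
  have h27 : 27 ≤ q ^ 3 := by
    calc 27 = 3 ^ 3 := by norm_num
      _ ≤ q ^ 3 := Nat.pow_le_pow_left hq3 3
  have h9 : 9 ≤ q ^ 2 := by
    calc 9 = 3 ^ 2 := by norm_num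
      _ ≤ q ^ 2 := Nat.pow_le_pow_left hq3 2
  have h58 : 27 * q ^ 5 ≤ q ^ 8 := by
    calc 27 * q ^ 5 ≤ q ^ 3 * q ^ 5 := by gcongr
      _ = q ^ 8 := by ring
  have h57 : 9 * q ^ 5 ≤ q ^ 7 := by
    calc 9 * q ^ 5 ≤ q ^ 2 * q ^ 5 := by gcongr
      _ = q ^ 7 := by ring
  have h45 : 3 * q ^ 4 ≤ q ^ 5 := by
    calc 3 * q ^ 4 ≤ q * q ^ 4 := by gcongr
      _ = q ^ 5 := by ring
  have h34 : 3 * q ^ 3 ≤ q ^ 4 := by
    calc 3 * q ^ 3 ≤ q * q ^ 3 := by gcongr
      _ = q ^ 4 := by ring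
  have hpos : 0 < q ^ 3 := by positivity
  have hmul : (q ^ 4 + q ^ 3 + q ^ 2 + q) * f + q ≤ q ^ 5 := by
    obtain ⟨a, rfl⟩ : ∃ a, q = a + 1 := ⟨q - 1, by omega⟩
    have hfa : f ≤ a := by omega
    calc _ ≤ ((a + 1) ^ 4 + (a + 1) ^ 3 + (a + 1) ^ 2 + (a + 1)) * a + (a + 1) := by gcongr
      _ = _ := by ring
  have e24 : N24 + q ^ 4 = q ^ 8 + 1 := by
    have : ((N24 + q ^ 4 : ℕ) : ℤ) = ((q ^ 8 + 1 : ℕ) : ℤ) := by push_cast; rw [hN24]; ring
    exact_mod_cast this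
  have e30 : N30 + q ^ 5 + q ^ 4 + q ^ 3 = q ^ 8 + q ^ 7 + q + 1 := by
    have : ((N30 + q ^ 5 + q ^ 4 + q ^ 3 : ℕ) : ℤ) = ((q ^ 8 + q ^ 7 + q + 1 : ℕ) : ℤ) := by
      push_cast; rw [hN30]; ring
    exact_mod_cast this
  have p24 : 0 < N24 := by omega
  have p30 : 0 < N30 := by omega
  intro p hp h5 hd
  have hP : Prime (p : ℤ) := Nat.prime_iff_prime_int.1 hp
  have hd' : (p : ℤ) ^ 2 ∣ P8 q := by rw [← hcard]; exact_mod_cast hd
  have hb : p ≤ q ^ 4 + q ^ 3 + q ^ 2 + q + 1 := by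
    have := bound (by exact_mod_cast hq2) hP hd'
    exact_mod_cast this
  have hb' : (p - 1) * f ≤ (q ^ 4 + q ^ 3 + q ^ 2 + q) * f := Nat.mul_le_mul_right f (by omega)
  by_cases h : p ∣ N24
  · have h' : ¬ p ∣ N30 := fun h' => coprime_24_30 hP (by rw [← hN24]; exact_mod_cast h)
      (by rw [← hN30]; exact_mod_cast h')
    refine reg_of_torus h' (h30.mo' (w := 30) (modw (q := q) rfl p30 hcard (by
      obtain ⟨M, h1, h2⟩ := w30 q
      rw [← hN30] at h1 h2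
      exact ⟨M, h1, h2⟩)) hout.le dvd_rfl ?_)
    have : (p - 1) * (30 * f) = 30 * ((p - 1) * f) := by ring
    rw [this]
    omega
  · refine reg_of_torus h (h24.mo' (w := 24) (modw (q := q) rfl p24 hcard (by
      obtain ⟨M, h1, h2⟩ := w24 q
      rw [← hN24] at h1 h2
      exact ⟨M, h1, h2⟩)) hout.le dvd_rfl ?_)
    have : (p - 1) * (24 * f) = 24 * ((p - 1) * f) := by ring
    rw [this]
    omega

end Cfsg.Agent.H92.PRegE8
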