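import Mathlib
import Cfsg.Agent.H902.Facts
import Cfsg.Agent.OrdDiv.Main
import Cfsg.Agent.H365.Near

/-!
# The order of `²F₄(q)`, `q ≥ 8`, against the orders of almost simple groups (helper92, for S3582)
-/

set_option autoImplicit false

namespace Cfsg.Agent.H92.TCTF4

open Cfsg.Agent.H902 Cfsg.Agent.H902.Art Cfsg.Agent.OrdDiv

/-! ### the odd parts -/

theorem zdvd {t n : ℕ} : t ∣ n ↔ (n : ZMod t) = 0 := (ZMod.natCast_eq_zero_iff n t).symm

theorem num_eq {q : ℕ} (hq : 2 ≤ q) : num .TF4 q =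
    ((q - 1) * (q - 1)) * ((q ^ 3 + 1) * (q + 1)) * ((q ^ 2 + 1) * (q ^ 2 + 1)) * (q ^ 4 - q ^ 2 + 1) := by
  show (q - 1) * (q ^ 3 + 1) * (q ^ 4 - 1) * (q ^ 6 + 1) = _
  obtain ⟨x, rfl⟩ : ∃ x, q = x + 1 := ⟨q - 1, by omega⟩
  have e1 : (x + 1) ^ 4 - 1 = x * (x + 2) * ((x + 1) ^ 2 + 1) := by
    apply Nat.sub_eq_of_eq_add; ring
  have e2 : (x + 1) ^ 4 - (x + 1) ^ 2 + 1 = (x + 1) ^ 2 * (x * (x + 2)) + 1 := by
    have : (x + 1) ^ 4 = (x + 1) ^ 2 * (x * (x + 2)) + (x + 1) ^ 2 := by ring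
    rw [this, Nat.add_sub_cancel]
  rw [e1, e2, Nat.add_sub_cancel]
  ring

theorem P_num_le {t q : ℕ} (ht : t.Prime) (ht2 : t ≠ 2) (hq : 2 ≤ q) : P t (num .TF4 q) ≤ 2 * q ^ 4 := by
  have htf := Fact.mk ht
  have hA0 : q - 1 ≠ 0 := by omega
  have hB0 : q ^ 3 + 1 ≠ 0 := by omega
  have hC0 : q + 1 ≠ 0 := by omega
  have hD0 : q ^ 2 + 1 ≠ 0 := by omega
  have hE0 : q ^ 4 - q ^ 2 + 1 ≠ 0 := by omega
  rw [num_eq hq, P_mul (by positivity) hE0, P_mul (by positivity) (by positivity), P_mul (by positivity) (by positivity),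
    P_mul hA0 hA0, P_mul hB0 hC0, P_mul hD0 hD0]
  have h24 : q ^ 2 ≤ q ^ 4 := Nat.pow_le_pow_right (by omega) (by norm_num)
  have h22 : 2 * q ^ 2 ≤ q ^ 3 := by rw [pow_succ' q 2]; exact Nat.mul_le_mul_right _ hq
  have h33 : 2 * q ^ 3 ≤ q ^ 4 := by rw [pow_succ' q 3]; exact Nat.mul_le_mul_right _ hq
  have h11 : 2 * q ≤ q ^ 2 := by rw [sq]; exact Nat.mul_le_mul_right _ hq
  have two : (2 : ZMod t) ≠ 0 := by
    intro h
    have h1 : t ∣ 2 := zdvd.2 (by exact_mod_cast h)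
    exact ht2 ((Nat.prime_dvd_prime_iff_eq ht Nat.prime_two).1 h1)
  set x : ZMod t := (q : ZMod t) with hx
  have cA : t ∣ q - 1 ↔ x = 1 := by
    rw [zdvd, Nat.cast_sub (by omega), Nat.cast_one, sub_eq_zero]
  have cB : t ∣ q ^ 3 + 1 ↔ x ^ 3 + 1 = 0 := by rw [zdvd]; push_cast; rfl
  have cC : t ∣ q + 1 ↔ x + 1 = 0 := by rw [zdvd]; push_cast; rfl
  have cD : t ∣ q ^ 2 + 1 ↔ x ^ 2 + 1 = 0 := by rw [zdvd]; push_cast; rfl
  have cE : t ∣ q ^ 4 - q ^ 2 + 1 ↔ x ^ 4 - x ^ 2 + 1 = 0 := by rw [zdvd]; push_cast [Nat.cast_sub h24]; rfl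
  by_cases hA : t ∣ q - 1
  · have h1 := cA.1 hA
    have nB : ¬ t ∣ q ^ 3 + 1 := by rw [cB, h1]; intro h; apply two; rw [← h]; norm_num
    have nC : ¬ t ∣ q + 1 := by rw [cC, h1]; intro h; apply two; rw [← h]; norm_num
    have nD : ¬ t ∣ q ^ 2 + 1 := by rw [cD, h1]; intro h; apply two; rw [← h]; norm_num
    have nE : ¬ t ∣ q ^ 4 - q ^ 2 + 1 := by rw [cE, h1]; intro h; norm_num at h
    rw [P_eq_one nB, P_eq_one nC, P_eq_one nD, P_eq_one nE]
    have h2 : P t (q - 1) ≤ q - 1 := P_le hA0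
    have h3 : P t (q - 1) * P t (q - 1) ≤ q * q := Nat.mul_le_mul (by omega) (by omega)
    rw [← sq q] at h3
    omega
  · have nA := hA
    rw [P_eq_one nA]
    by_cases hD : t ∣ q ^ 2 + 1
    · have key : ∀ y : ZMod 3, y ^ 2 + 1 = 0 → False := by decide
      have h1 := cD.1 hD
      have nB : ¬ t ∣ q ^ 3 + 1 := by
        rw [cB]
        intro h
        apply hA
        rw [cA]
        linear_combination x * h1 - h
      have nC : ¬ t ∣ q + 1 := by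
        intro h
        exact nB (h.trans ⟨q ^ 2 - q + 1, by
          have : q ≤ q ^ 2 := by omega
          zify [this]; ring⟩)
      have nE : ¬ t ∣ q ^ 4 - q ^ 2 + 1 := by
        rw [cE]
        intro h
        have h3 : (3 : ZMod t) = 0 := by linear_combination h - (x ^ 2 - 2) * h1
        have h4 : t ∣ 3 := zdvd.2 (by exact_mod_cast h3)
        have h5 := (Nat.prime_dvd_prime_iff_eq ht Nat.prime_three).1 h4
        subst h5
        exact key x h1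
      rw [P_eq_one nB, P_eq_one nC, P_eq_one nE]
      have h2 : P t (q ^ 2 + 1) ≤ q ^ 2 + 1 := P_le hD0
      have h3 : P t (q ^ 2 + 1) * P t (q ^ 2 + 1) ≤ (q ^ 2 + 1) * (q ^ 2 + 1) := Nat.mul_le_mul h2 h2
      have h4 : (q ^ 2 + 1) * (q ^ 2 + 1) ≤ 2 * q ^ 4 := by
        have e : (q ^ 2 + 1) * (q ^ 2 + 1) = q ^ 4 + 2 * q ^ 2 + 1 := by ring
        have h5 : 4 * q ^ 2 ≤ q ^ 4 := by omega
        have h6 : 4 ≤ q ^ 2 := by nlinarith
        omega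
      omega
    · rw [P_eq_one hD]
      by_cases hB : t ∣ q ^ 3 + 1
      · have h1 := cB.1 hB
        have nE : ¬ t ∣ q ^ 4 - q ^ 2 + 1 := by
          rw [cE]
          intro h
          apply two
          linear_combination (x ^ 2 + 1) * h - (x ^ 3 - 1) * h1
        rw [P_eq_one nE]
        have h2 : P t (q ^ 3 + 1) ≤ q ^ 3 + 1 := P_le hB0
        have h3 : P t (q + 1) ≤ q + 1 := P_le hC0
        have h4 : P t (q ^ 3 + 1) * P t (q + 1) ≤ (q ^ 3 + 1) * (q + 1) := Nat.mul_le_mul h2 h3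
        have e : (q ^ 3 + 1) * (q + 1) = q ^ 4 + q ^ 3 + q + 1 := by ring
        omega
      · have nC : ¬ t ∣ q + 1 := by
          intro h
          exact hB (h.trans ⟨q ^ 2 - q + 1, by
            have : q ≤ q ^ 2 := by omega
            zify [this]; ring⟩)
        rw [P_eq_one hB, P_eq_one nC]
        have h2 : P t (q ^ 4 - q ^ 2 + 1) ≤ q ^ 4 - q ^ 2 + 1 := P_le hE0
        omega

/-! ### sizes -/

variable {f M : ℕ}

theorem q_ge (h : Art.Real .TF4 2 f M) : 3 ≤ f ∧ 8 ≤ 2 ^ f := by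
  have h1 : 3 ≤ f := h.ok.2.2
  exact ⟨h1, by calc 8 = 2 ^ 3 := by norm_num
    _ ≤ 2 ^ f := Nat.pow_le_pow_right (by norm_num) h1⟩

theorem M_eq (h : Art.Real .TF4 2 f M) : M = (2 ^ f) ^ 12 * num .TF4 (2 ^ f) := by
  have := h.eq
  have h2 : dd .TF4 (2 ^ f) = 1 := rfl
  rw [h2, one_mul] at this
  exact this

theorem num_ge {q : ℕ} (hq : 8 ≤ q) : q ^ 13 ≤ num .TF4 q := by
  show _ ≤ (q - 1) * (q ^ 3 + 1) * (q ^ 4 - 1) * (q ^ 6 + 1)
  have h4 : 2 ≤ q ^ 4 := by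
    calc 2 ≤ 8 ^ 4 := by norm_num
      _ ≤ q ^ 4 := Nat.pow_le_pow_left hq 4
  have h1 : q * q ^ 3 * q ^ 4 * q ^ 6 ≤ (2 * (q - 1)) * (q ^ 3 + 1) * (2 * (q ^ 4 - 1)) * (q ^ 6 + 1) :=
    Nat.mul_le_mul (Nat.mul_le_mul (Nat.mul_le_mul (by omega) (by omega)) (by omega)) (by omega)
  have h2 : q * q ^ 3 * q ^ 4 * q ^ 6 = q * q ^ 13 := by ring
  have h3 : (2 * (q - 1)) * (q ^ 3 + 1) * (2 * (q ^ 4 - 1)) * (q ^ 6 + 1) =
      4 * ((q - 1) * (q ^ 3 + 1) * (q ^ 4 - 1) * (q ^ 6 + 1)) := by ring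
  rw [h2, h3] at h1
  have h5 : 8 * q ^ 13 ≤ q * q ^ 13 := Nat.mul_le_mul_right _ hq
  omega

theorem num_le {q : ℕ} (hq : 8 ≤ q) : num .TF4 q ≤ q ^ 15 := by
  show (q - 1) * (q ^ 3 + 1) * (q ^ 4 - 1) * (q ^ 6 + 1) ≤ _
  have h1 : (q - 1) * (q ^ 3 + 1) ≤ q ^ 4 := by
    have h1 : (q - 1) * (q ^ 3 + 1) + q ^ 3 + 1 = q ^ 4 + q := by
      have : 1 ≤ q := by omega
      zify [this]; ring
    have h2 : q ^ 1 ≤ q ^ 3 := Nat.pow_le_pow_right (by omega) (by norm_num)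
    rw [pow_one] at h2
    omega
  have h2 : q ^ 6 + 1 ≤ q ^ 7 := by
    have h3 : 8 * q ^ 6 ≤ q * q ^ 6 := Nat.mul_le_mul_right _ hq
    have h4 : q ^ 7 = q * q ^ 6 := by ring
    have h5 : 1 ≤ q ^ 6 := Nat.one_le_pow _ _ (by omega)
    omega
  calc (q - 1) * (q ^ 3 + 1) * (q ^ 4 - 1) * (q ^ 6 + 1) ≤ q ^ 4 * q ^ 4 * q ^ 7 :=
        Nat.mul_le_mul (Nat.mul_le_mul h1 (Nat.sub_le _ _)) h2
    _ = q ^ 15 := by ring

theorem M_ge (h : Art.Real .TF4 2 f M) : (2 ^ f) ^ 25 ≤ M := by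
  rw [M_eq h]
  calc (2 ^ f) ^ 25 = (2 ^ f) ^ 12 * (2 ^ f) ^ 13 := by rw [← pow_add]
    _ ≤ _ := Nat.mul_le_mul_left _ (num_ge (q_ge h).2)

theorem M_le (h : Art.Real .TF4 2 f M) : M ≤ (2 ^ f) ^ 27 := by
  rw [M_eq h]
  calc (2 ^ f) ^ 12 * num .TF4 (2 ^ f) ≤ (2 ^ f) ^ 12 * (2 ^ f) ^ 15 := Nat.mul_le_mul_left _ (num_le (q_ge h).2)
    _ = _ := by rw [← pow_add]

theorem pow_dvd_le {t a n : ℕ} (ht : t.Prime) (hn : n ≠ 0) (h : t ^ a ∣ n) : t ^ a ≤ P t n :=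
  Nat.pow_le_pow_right ht.pos ((ht.pow_dvd_iff_le_factorization hn).1 h)

/-- the prime powers in the order -/
theorem pow_le_M (h : Art.Real .TF4 2 f M) {t a : ℕ} (ht : t.Prime) (ht2 : t ≠ 2) (hd : t ^ a ∣ M) :
    t ^ a ≤ 2 * (2 ^ f) ^ 4 :=
  (pow_dvd_le ht h.M_ne hd).trans ((h.P_other_le ht ht2).trans (P_num_le ht ht2 h.q_ge))

theorem fact_two (h : Art.Real .TF4 2 f M) : M.factorization 2 = 12 * f := by
  have h1 := h.P_self
  have h2 : NN .TF4 = 12 := rfl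
  rw [← pow_mul, h2, mul_comm] at h1
  exact Nat.pow_right_injective (le_refl 2) h1

/-! ### alternating groups -/

theorem factorial_ge {n : ℕ} (hn : 8 ≤ n) : 8 ^ (n - 8) * 2 ^ 15 ≤ n.factorial := by
  induction n, hn using Nat.le_induction with
  | base => decide
  | succ n hn ih =>
    have h1 : n + 1 - 8 = (n - 8) + 1 := by omega
    rw [h1, pow_succ, Nat.factorial_succ]
    calc 8 ^ (n - 8) * 8 * 2 ^ 15 = 8 * (8 ^ (n - 8) * 2 ^ 15) := by ring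
      _ ≤ (n + 1) * n.factorial := Nat.mul_le_mul (by omega) ih

theorem alt_false (h : Art.Real .TF4 2 f M) {n c : ℕ} (hc : c ∣ 4) (e : n.factorial * c = 2 * M) : False := by
  have hf := (q_ge h).1
  have htwo : Fact (Nat.Prime 2) := ⟨Nat.prime_two⟩
  have hM := h.M_ne
  have h1 : 2 ^ (12 * f) ∣ M := (Nat.prime_two.pow_dvd_iff_le_factorization hM).2 (fact_two h).ge
  have h2 : 2 ^ (12 * f + 1) ∣ n.factorial * 4 := by
    have h3 : 2 ^ (12 * f + 1) ∣ n.factorial * c := by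
      rw [e, pow_succ, mul_comm]
      exact Nat.mul_dvd_mul_left 2 h1
    exact h3.trans (Nat.mul_dvd_mul_left _ hc)
  have h3 : 2 ^ (12 * f - 1) ∣ n.factorial := by
    have h4 : 2 ^ (12 * f + 1) = 2 ^ (12 * f - 1) * 4 := by
      have : 12 * f + 1 = (12 * f - 1) + 2 := by omega
      rw [this, pow_add]; norm_num
    rw [h4] at h2
    exact Nat.dvd_of_mul_dvd_mul_right (by norm_num) h2
  have h4 : 12 * f - 1 ≤ n := by
    have h5 := (padicValNat_dvd_iff_le (p := 2) (Nat.factorial_ne_zero n)).1 h3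
    have h6 := sub_one_mul_padicValNat_factorial (p := 2) n
    omega
  have h5 := factorial_ge (n := n) (by omega)
  have hc0 : c ≠ 0 := by
    rintro rfl
    rw [mul_zero] at e
    omega
  have h6 : n.factorial ≤ 2 * (2 ^ f) ^ 27 := by
    calc n.factorial ≤ n.factorial * c := Nat.le_mul_of_pos_right _ (by omega)
      _ = 2 * M := e
      _ ≤ _ := Nat.mul_le_mul_left _ (M_le h)
  have h7 : 2 ^ (36 * f - 12) ≤ 2 ^ (27 * f + 1) := by
    calc 2 ^ (36 * f - 12) ≤ 2 ^ (3 * (n - 8) + 15) := Nat.pow_le_pow_right (by norm_num) (by omega)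
      _ = 8 ^ (n - 8) * 2 ^ 15 := by rw [pow_add, pow_mul]; norm_num
      _ ≤ 2 * (2 ^ f) ^ 27 := h5.trans h6
      _ = 2 ^ (27 * f + 1) := by rw [← pow_mul, pow_succ, mul_comm f 27]; ring
  have h8 := (Nat.pow_le_pow_iff_right (by norm_num : 1 < 2)).1 h7
  omega

/-- the exponent bound for a group of bounded order -/
theorem small_false (h : Art.Real .TF4 2 f M) {N c : ℕ} (hN : N ≤ 2 ^ 9) (hpow : 2 ^ c ≤ N ^ 3) (e : N * c = M) :
    False := by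
  have hf := (q_ge h).1
  have h1 : 2 ^ c ≤ 2 ^ 27 := hpow.trans ((Nat.pow_le_pow_left hN 3).trans (by norm_num))
  have h2 := (Nat.pow_le_pow_iff_right (by norm_num : 1 < 2)).1 h1
  have h3 : M ≤ 2 ^ 9 * 27 := by rw [← e]; exact Nat.mul_le_mul hN h2
  have h4 : 8 ^ 25 ≤ M := (Nat.pow_le_pow_left (q_ge h).2 25).trans (M_ge h)
  norm_num at h3 h4
  omega

/-! ### sporadic groups -/

theorem spor_le : ∀ x ∈ spor, x.2 ≤ 2 ^ 180 := by decide +kernel

theorem spor_f : ∀ f ∈ [3, 5, 7], ∀ x ∈ spor, x.2 ∣ (2 ^ f) ^ 12 * num .TF4 (2 ^ f) →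
    ¬ (2 ^ f) ^ 12 * num .TF4 (2 ^ f) ≤ x.2 * 540 := by decide +kernel

theorem spor_false (h : Art.Real .TF4 2 f M) {c : ℕ} {x : Grp × ℕ} (hx : x ∈ spor) (hpow : 2 ^ c ≤ x.2 ^ 3)
    (e : x.2 * c = M) : False := by
  have hf := (q_ge h).1
  have hc : c ≤ 540 := by
    have h1 : 2 ^ c ≤ 2 ^ 540 := by
      refine hpow.trans ((Nat.pow_le_pow_left (spor_le x hx) 3).trans ?_)
      rw [← pow_mul]
    exact (Nat.pow_le_pow_iff_right (by norm_num : 1 < 2)).1 h1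
  have h1 : 2 ^ (25 * f) < 2 ^ 190 := by
    calc 2 ^ (25 * f) = (2 ^ f) ^ 25 := by rw [← pow_mul, mul_comm]
      _ ≤ M := M_ge h
      _ = x.2 * c := e.symm
      _ ≤ 2 ^ 180 * 540 := Nat.mul_le_mul (spor_le x hx) hc
      _ < 2 ^ 180 * 2 ^ 10 := Nat.mul_lt_mul_of_pos_left (by norm_num) (by positivity)
      _ = 2 ^ 190 := by rw [← pow_add]
  have h2 := (Nat.pow_lt_pow_iff_right (by norm_num : 1 < 2)).1 h1
  have h3 : Odd f := h.ok.2.1
  have h4 : f ∈ [3, 5, 7] := by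
    obtain ⟨k, hk⟩ := h3
    have : k = 1 ∨ k = 2 ∨ k = 3 := by omega
    rcases this with rfl | rfl | rfl <;> subst hk <;> simp
  refine spor_f f h4 x hx ?_ ?_
  · rw [← M_eq h, ← e]; exact Dvd.intro _ rfl
  · rw [← M_eq h, ← e]; exact Nat.mul_le_mul_left _ hc

/-! ### groups of Lie type -/

theorem lt_two_pow' {f : ℕ} (hf : 3 ≤ f) : 9 + 36 * f < 2 ^ (12 * f) := by
  induction f, hf using Nat.le_induction with
  | base => norm_num
  | succ f hf ih =>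
    have h1 : 12 * (f + 1) = 12 * f + 12 := by ring
    rw [h1, pow_add]
    omega

theorem cross_false (h : Art.Real .TF4 2 f M) {X : Sh} {t k N c : ℕ} (hX : Art.Real X t k N) (ht : t ≠ 2)
    (hpow : 2 ^ c ≤ N ^ 3) (e : N * c = M) : False := by
  have hf := (q_ge h).1
  have hq := (q_ge h).2
  have hN : N < 8 * (2 ^ f) ^ 12 := by
    have h1 := hX.lt_cube
    have h2 : P t N ≤ 2 * (2 ^ f) ^ 4 :=
      (P_mono hX.hp h.M_ne ⟨c, e.symm⟩).trans ((h.P_other_le hX.hp ht).trans (P_num_le hX.hp ht h.q_ge))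
    calc N < P t N ^ 3 := h1
      _ ≤ (2 * (2 ^ f) ^ 4) ^ 3 := Nat.pow_le_pow_left h2 3
      _ = 8 * (2 ^ f) ^ 12 := by ring
  have hc : (2 ^ f) ^ 12 ≤ c := by
    have h1 : (2 ^ f) ^ 25 ≤ 8 * (2 ^ f) ^ 12 * c := by
      calc (2 ^ f) ^ 25 ≤ M := M_ge h
        _ = N * c := e.symm
        _ ≤ _ := Nat.mul_le_mul_right _ hN.le
    have h2 : (8 * (2 ^ f) ^ 12) * (2 ^ f) ^ 12 ≤ (2 ^ f) ^ 25 := by
      calc (8 * (2 ^ f) ^ 12) * (2 ^ f) ^ 12 ≤ (2 ^ f * (2 ^ f) ^ 12) * (2 ^ f) ^ 12 :=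
            Nat.mul_le_mul_right _ (Nat.mul_le_mul_right _ hq)
        _ = _ := by ring
    exact Nat.le_of_mul_le_mul_left (h2.trans h1) (by positivity)
  have h3 : 2 ^ c ≤ 2 ^ (9 + 36 * f) := by
    calc 2 ^ c ≤ N ^ 3 := hpow
      _ ≤ (8 * (2 ^ f) ^ 12) ^ 3 := Nat.pow_le_pow_left hN.le 3
      _ = 2 ^ (9 + 36 * f) := by
        have e1 : (8 * (2 ^ f) ^ 12) ^ 3 = 2 ^ 9 * (2 ^ f) ^ 36 := by ring
        rw [e1, ← pow_mul, ← pow_add, mul_comm f 36]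
  have h4 := (Nat.pow_le_pow_iff_right (by norm_num : 1 < 2)).1 h3
  have h5 := lt_two_pow' hf
  have h6 : 2 ^ (12 * f) = (2 ^ f) ^ 12 := by rw [← pow_mul, mul_comm]
  omega

/-! ### the same characteristic -/

theorem dd_cases {X : Sh} {g N : ℕ} (hX : Art.Real X 2 g N) {t : ℕ} (ht5 : 5 ≤ t) (h : t ∣ dd X (2 ^ g)) :
    (orderOf (2 : ZMod t) ∣ g ∧ ∃ n, X = .L n) ∨ (orderOf (2 : ZMod t) ∣ 2 * g ∧ ∃ n, X = .U n) := by
  have hl4 : ∀ {a : ℕ}, t ∣ Nat.gcd 4 a → False := fun {a} h => by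
    have := Nat.le_of_dvd (by norm_num) (h.trans (Nat.gcd_dvd_left _ _)); omega
  have hl3 : ∀ {a : ℕ}, t ∣ Nat.gcd 3 a → False := fun {a} h => by
    have := Nat.le_of_dvd (by norm_num) (h.trans (Nat.gcd_dvd_left _ _)); omega
  have hl2 : ∀ {a : ℕ}, t ∣ Nat.gcd 2 a → False := fun {a} h => by
    have := Nat.le_of_dvd (by norm_num) (h.trans (Nat.gcd_dvd_left _ _)); omega
  have hl1 : t ∣ 1 → False := fun h => by have := Nat.le_of_dvd (by norm_num) h; omega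
  have h1g : 1 ≤ 2 ^ g := Nat.one_le_pow _ _ (by norm_num)
  cases X with
  | L n =>
    left
    have h1 : t ∣ 2 ^ g - 1 := Nat.dvd_trans h (Nat.gcd_dvd_right _ _)
    refine ⟨orderOf_dvd_of_pow_eq_one ?_, n, rfl⟩
    have h2 := (ZMod.natCast_eq_zero_iff _ _).2 h1
    rw [Nat.cast_sub h1g, sub_eq_zero] at h2
    exact_mod_cast h2
  | U n =>
    right
    have h1 : t ∣ 2 ^ g + 1 := Nat.dvd_trans h (Nat.gcd_dvd_right _ _)
    refine ⟨orderOf_dvd_of_pow_eq_one ?_, n, rfl⟩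
    have h2 := (ZMod.natCast_eq_zero_iff _ _).2 h1
    push_cast at h2
    have h3 : (2 : ZMod t) ^ g = -1 := eq_neg_of_add_eq_zero_left h2
    rw [mul_comm, pow_mul, h3]
    norm_num
  | C n => exact (hl2 h).elim
  | D n => exact (hl4 h).elim
  | DD n => exact (hl4 h).elim
  | G2 => exact (hl1 h).elim
  | F4 => exact (hl1 h).elim
  | E6 => exact (hl3 h).elim
  | E7 => exact (hl2 h).elim
  | E8 => exact (hl1 h).elim
  | TE6 => exact (hl3 h).elim
  | TD4 => exact (hl1 h).elim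
  | Sz => exact (hl1 h).elim
  | Ree => exact (hl1 h).elim
  | TF4 => exact (hl1 h).elim

theorem two_dvd_iff {r j : ℕ} : r ∣ 2 ^ j - 1 ↔ orderOf (2 : ZMod r) ∣ j := by
  have h1 : 1 ≤ 2 ^ j := Nat.one_le_pow _ _ (by norm_num)
  rw [orderOf_dvd_iff_pow_eq_one, ← ZMod.natCast_eq_zero_iff, Nat.cast_sub h1, sub_eq_zero]
  push_cast
  rfl

theorem ord_lt {r : ℕ} (hr : r.Prime) (h2 : r ≠ 2) : orderOf (2 : ZMod r) < r := by
  have := Fact.mk hr
  have hne : (2 : ZMod r) ≠ 0 := by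
    intro h
    have h1 : r ∣ 2 := zdvd.2 (by exact_mod_cast h)
    exact h2 ((Nat.prime_dvd_prime_iff_eq hr Nat.prime_two).1 h1)
  have h1 := ZMod.orderOf_dvd_card_sub_one hne
  have h3 := Nat.le_of_dvd (by have := hr.two_le; omega) h1
  have := hr.two_le
  omega

/-- `e * DM X ≤ 12 f` -/
theorem le_DM {X : Sh} {g N : ℕ} (hX : Art.Real X 2 g N) (hY : Art.Real .TF4 2 f M) (hdvd : N ∣ M) :
    g * DM X ≤ 12 * f := by
  have hf := (q_ge hY).1
  by_contra hcon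
  push Not at hcon
  obtain ⟨t, ht, ho⟩ := Cfsg.Agent.Lib.Zsigmondy.exists_prime_orderOf (a := 2) (n := g * DM X) (by norm_num) (by omega)
    (fun h => by omega) (by omega)
  have h1 : t ∣ N := hX.dvd_of_order_DM ht ho (by omega)
  have htp : t ≠ 2 := ne_of_order ht (by omega) ho
  rcases hY.order_cases ht htp (h1.trans hdvd) with h2 | ⟨e, he1, he2, h2⟩
  · rw [ho, show DM .TF4 = 12 from rfl] at h2
    have h3 := Nat.le_of_dvd (by omega) h2
    omega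
  · rw [ho] at h2
    have h4 := Nat.le_of_dvd (Nat.mul_pos (by omega) he1) h2
    have h5 : BM .TF4 = 6 := rfl
    rw [h5] at he2
    have h6 : f * e ≤ f * 6 := Nat.mul_le_mul_left _ he2
    omega

/-- the data of an outer automorphism group -/
def OutC (X : Sh) (g c : ℕ) : Prop := ∃ c', c ∣ c' * g ∧ c' ∣ 24 * dd X (2 ^ g) ∧ c' ∣ 6 * dd X (2 ^ g)

theorem not_dvd_c {X : Sh} {g N : ℕ} (hX : Art.Real X 2 g N) (hY : Art.Real .TF4 2 f M) (hdvd : N ∣ M) {c : ℕ}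
    (hI : OutC X g c) {r : ℕ} (hr : r.Prime) (hro : orderOf ((2 : ℕ) : ZMod r) = 12 * f) : ¬ r ∣ c := by
  intro hrc
  have hf := (q_ge hY).1
  have hg := hX.hf
  have hle := le_DM hX hY hdvd
  have hge := DM_ge hX
  have hDX : g * 2 ≤ g * DM X := Nat.mul_le_mul_left _ hge.1
  have hr2 : r ≠ 2 := ne_of_order hr (by omega) hro
  have hlt := ord_lt hr hr2
  have hro' : orderOf (2 : ZMod r) = 12 * f := by exact_mod_cast hro
  rw [hro'] at hlt
  obtain ⟨c', h1, h2, -⟩ := hI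
  rcases hr.dvd_mul.1 (hrc.trans h1) with h3 | h3
  · rcases hr.dvd_mul.1 (h3.trans h2) with h4 | h4
    · have h5 : r ∣ 2 ^ 3 * 3 := h4
      rcases hr.dvd_mul.1 h5 with h6 | h6
      · have := Nat.le_of_dvd (by norm_num) (hr.dvd_of_dvd_pow h6); omega
      · have := Nat.le_of_dvd (by norm_num) h6; omega
    · rcases dd_cases hX (by omega) h4 with ⟨h, -⟩ | ⟨h, n, rfl⟩
      · rw [hro'] at h
        have := Nat.le_of_dvd (by omega) h
        omega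
      · rw [hro'] at h
        have h1 := Nat.le_of_dvd (by omega) h
        have h3 : g * 3 ≤ g * DM (.U n) := Nat.mul_le_mul_left _ (hge.2 ⟨n, rfl⟩)
        omega
  · have := Nat.le_of_dvd (by omega) h3
    omega

/-- **Equal characteristic.** -/
theorem same {X : Sh} {g N c : ℕ} (hX : Art.Real X 2 g N) (hY : Art.Real .TF4 2 f M) (heq : N * c = M)
    (hI : OutC X g c) : X = .TF4 ∧ g = f := by
  have hf := (q_ge hY).1
  have hg := hX.hf
  have hp := hY.hp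
  have hM := hY.M_ne
  have hN := hX.M_ne
  have hc0 : c ≠ 0 := by rintro rfl; apply hM; rw [← heq]; ring
  have hdvd : N ∣ M := Dvd.intro _ heq
  have hDM : f * DM .TF4 = 12 * f := mul_comm _ _
  obtain ⟨r, hr, hro⟩ := Cfsg.Agent.Lib.Zsigmondy.exists_prime_orderOf (a := 2) (n := f * DM .TF4) (by norm_num)
    (by omega) (fun h => by omega) (by omega)
  have hrM : r ∣ M := hY.dvd_of_order_DM hr hro (by omega)
  have hrN : r ∣ N := by
    rw [← heq] at hrM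
    exact (hr.dvd_mul.1 hrM).resolve_right (not_dvd_c hX hY hdvd hI hr (by rw [← hDM]; exact hro))
  have hfN : N.factorization 2 = g * NN X := by
    have h1 := hX.P_self
    rw [← pow_mul] at h1
    exact Nat.pow_right_injective hp.two_le h1
  have hfM : M.factorization 2 = f * NN .TF4 := by
    have h1 := hY.P_self
    rw [← pow_mul] at h1
    exact Nat.pow_right_injective hp.two_le h1
  have hδ : f * NN .TF4 - g * NN X = c.factorization 2 := by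
    rw [← hfN, ← hfM, ← heq, Nat.factorization_mul hN hc0, Finsupp.add_apply]
    omega
  have hpd : 2 ^ c.factorization 2 ∣ c := Nat.ordProj_dvd _ _
  obtain ⟨c', h3, h4, h5⟩ := hI
  have hcop : Nat.Coprime (2 ^ c.factorization 2) (dd X (2 ^ g)) :=
    Nat.Coprime.pow_left _ ((Nat.Prime.coprime_iff_not_dvd hp).2 hX.not_dvd_dd)
  have h24 : 2 ^ (f * NN .TF4 - g * NN X) ∣ 24 * g := by
    rw [hδ]
    have h1 : 2 ^ c.factorization 2 ∣ dd X (2 ^ g) * (24 * g) := by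
      refine (hpd.trans h3).trans ?_
      rw [show dd X (2 ^ g) * (24 * g) = (24 * dd X (2 ^ g)) * g by ring]
      exact Nat.mul_dvd_mul_right h4 g
    exact hcop.dvd_of_dvd_mul_left h1
  have h6' : 2 ^ (f * NN .TF4 - g * NN X) ∣ 6 * g := by
    rw [hδ]
    have h1 : 2 ^ c.factorization 2 ∣ dd X (2 ^ g) * (6 * g) := by
      refine (hpd.trans h3).trans ?_
      rw [show dd X (2 ^ g) * (6 * g) = (6 * dd X (2 ^ g)) * g by ring]
      exact Nat.mul_dvd_mul_right h5 g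
    exact hcop.dvd_of_dvd_mul_left h1
  rcases H365.Near.near_out hX hY hdvd hr hro (by omega) hrN h24 (fun _ => h6') with h | h
  · exact h
  · exfalso
    unfold H365.Near.Exc at h
    rcases h with ⟨-, h, -⟩ | ⟨-, h, -⟩ | ⟨n, -, -, h, -⟩ | ⟨-, h, -⟩ | ⟨-, h, -⟩ | ⟨-, h, -⟩ | ⟨-, h, -⟩ |
      ⟨-, h, -⟩ <;> cases h

end Cfsg.Agent.H92.TCTF4
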