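import Cfsg.Agent.H541.PRegTF4
import Cfsg.Agent.H129.CycT
import Cfsg.Agent.H92.TCTF4Num

/-!
# The isolated torus of order `q² + √(2q³) + q + √(2q) + 1` of `²F₄(q)` (helper92, for S3582)
-/

set_option autoImplicit false

namespace Cfsg.Agent.H92.TCTF4

open Subgroup Cfsg Cfsg.Lie Cfsg.Agent.H541 Cfsg.Agent.H541.PRegTF4 Cfsg.Agent.H493 Cfsg.Agent.H129.CycT

universe u

variable {b q P N : ℕ}

/-- `q² + 1 < P ≤ 2 q²` -/
theorem P_bd (D : Par b q P N) : q ^ 2 + 1 < P ∧ P ≤ 2 * q ^ 2 := by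
  have hP := D.P_eq
  have hq := D.q_eq
  have hb : (2 : ℤ) ≤ b := by exact_mod_cast D.b_le
  unfold PGF4T.fP at hP
  have b2 : 2 * (b : ℤ) ≤ b ^ 2 := by nlinarith
  have b3 : 2 * (b : ℤ) ^ 2 ≤ b ^ 3 := by nlinarith [mul_nonneg (sq_nonneg (b : ℤ)) (by linarith : (0 : ℤ) ≤ b - 2)]
  have b4 : 2 * (b : ℤ) ^ 3 ≤ b ^ 4 := by
    nlinarith [mul_nonneg (pow_nonneg (by linarith : (0 : ℤ) ≤ b) 3) (by linarith : (0 : ℤ) ≤ b - 2)]
  have e1 : (q : ℤ) ^ 2 = 4 * (b : ℤ) ^ 4 := by rw [hq]; ring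
  constructor
  · zify
    rw [hP, e1]
    nlinarith
  · zify
    rw [hP, e1]
    nlinarith

theorem P_odd (D : Par b q P N) : ¬ 2 ∣ P := by
  intro h
  have h1 : (2 : ℤ) ∣ (P : ℤ) := by exact_mod_cast h
  rw [D.P_eq] at h1
  unfold PGF4T.fP at h1
  have h2 : (2 : ℤ) ∣ 1 := by
    have h3 : (2 : ℤ) ∣ 2 * (2 * (b : ℤ) ^ 4 + 2 * b ^ 3 + b ^ 2 + b) := dvd_mul_right _ _
    have h4 := dvd_sub h1 h3
    have h5 : 4 * (b : ℤ) ^ 4 + 4 * b ^ 3 + 2 * b ^ 2 + 2 * b + 1 - 2 * (2 * (b : ℤ) ^ 4 + 2 * b ^ 3 + b ^ 2 + b) = 1 := by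
      ring
    rwa [h5] at h4
  norm_num at h2

/-- `P ∣ q⁶ + 1` -/
theorem P_dvd_six (D : Par b q P N) : P ∣ q ^ 6 + 1 := by
  have h1 := D.mul_eq
  have h2 : ((P * (N * (q ^ 2 + 1)) : ℕ) : ℤ) = ((q ^ 6 + 1 : ℕ) : ℤ) := by
    rw [← mul_assoc, Nat.cast_mul, h1]
    push_cast
    ring
  exact ⟨N * (q ^ 2 + 1), (by exact_mod_cast h2.symm)⟩

/-- **The order of 2 modulo `P`** -/
theorem exp_dvd {f : ℕ} (hf : Odd f) (hq : q = 2 ^ f) (D : Par b q P N) {a : ℕ} (h : P ∣ 2 ^ a - 1) : 12 * f ∣ a := by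
  have hP := P_bd D
  have hodd := P_odd D
  have hP1 : 1 < P := by omega
  have six : P ∣ 2 ^ (6 * f) + 1 := by
    have := P_dvd_six D
    rw [hq, ← pow_mul, mul_comm f 6] at this
    exact this
  have z6 : (2 : ZMod P) ^ (6 * f) = -1 := by
    have h1 := (ZMod.natCast_eq_zero_iff _ _).2 six
    push_cast at h1
    exact eq_neg_of_add_eq_zero_left h1
  have z12 : (2 : ZMod P) ^ (12 * f) = 1 := by
    have h1 : 12 * f = 6 * f * 2 := by ring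
    rw [h1, pow_mul, z6]; norm_num
  have za : (2 : ZMod P) ^ a = 1 := by
    have h1 := (ZMod.natCast_eq_zero_iff _ _).2 h
    have h2 : 1 ≤ 2 ^ a := Nat.one_le_pow _ _ (by norm_num)
    rw [Nat.cast_sub h2, sub_eq_zero] at h1
    exact_mod_cast h1
  set d := orderOf (2 : ZMod P) with hd
  have hd12 : d ∣ 12 * f := orderOf_dvd_of_pow_eq_one z12
  have hda : d ∣ a := orderOf_dvd_of_pow_eq_one za
  have hn6 : ¬ d ∣ 6 * f := by
    intro h1
    have h2 := orderOf_dvd_iff_pow_eq_one.1 h1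
    rw [z6] at h2
    have h3 : (2 : ZMod P) = 0 := by linear_combination -h2
    have h4 : P ∣ 2 := (ZMod.natCast_eq_zero_iff 2 P).1 (by exact_mod_cast h3)
    have h5 := (Nat.dvd_prime Nat.prime_two).1 h4
    rcases h5 with h5 | h5
    · omega
    · exact hodd ⟨1, by omega⟩
  -- `12 f = d s`, `s` odd
  obtain ⟨s, hs⟩ := hd12
  have hso : Odd s := by
    rw [← Nat.not_even_iff_odd]
    rintro ⟨s', hs'⟩
    exact hn6 ⟨s', by
      have h1 : d * s = 2 * (d * s') := by rw [hs']; ring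
      omega⟩
  by_cases hs1 : s = 1
  · rw [hs1, mul_one] at hs
    rw [hs]
    exact hda
  exfalso
  have hs3 : 3 ≤ s := by
    obtain ⟨k, hk⟩ := hso
    omega
  -- `4 ∣ d`
  have hf1 : 0 < f := hf.pos
  have hd4 : 4 ∣ d := by
    have h1 : 4 ∣ d * s := by rw [← hs]; exact ⟨3 * f, by ring⟩
    have h2 : Nat.Coprime 4 s := by
      have h3 : Nat.Coprime 2 s := (Nat.coprime_two_left).2 hso
      exact Nat.Coprime.pow_left 2 h3
    exact h2.dvd_of_dvd_mul_right h1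
  obtain ⟨e, he⟩ := hd4
  have h2e : 2 * e * s = 6 * f := by
    have h1 : 4 * e * s = 12 * f := by rw [← he]; exact hs.symm
    have h2 : 4 * e * s = 2 * (2 * e * s) := by ring
    omega
  -- `y = 2^(2e)` satisfies `y² = 1`, `y^s = -1`, so `y = -1`
  have y2 : ((2 : ZMod P) ^ (2 * e)) ^ 2 = 1 := by
    rw [← pow_mul]
    have h1 : 2 * e * 2 = d := by rw [he]; ring
    rw [h1]
    exact pow_orderOf_eq_one _
  have ys : ((2 : ZMod P) ^ (2 * e)) ^ s = -1 := by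
    rw [← pow_mul, h2e]; exact z6
  have y1 : (2 : ZMod P) ^ (2 * e) = -1 := by
    obtain ⟨k, hk⟩ := hso
    rw [hk, pow_succ, pow_mul, y2, one_pow, one_mul] at ys
    exact ys
  have h3 : P ∣ 2 ^ (2 * e) + 1 := by
    rw [← ZMod.natCast_eq_zero_iff]
    push_cast
    rw [y1]; ring
  have h4 := Nat.le_of_dvd (Nat.succ_pos _) h3
  have h5 : 2 ^ (2 * e) ≤ q ^ 2 := by
    rw [hq, ← pow_mul]
    apply Nat.pow_le_pow_right (by norm_num)
    have h6 : 2 * e * 3 ≤ 2 * e * s := Nat.mul_le_mul_left _ hs3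
    omega
  omega

variable {K : Type u} [Field K] [Fintype K] {m : ℕ}

theorem exact_P (hK : Fintype.card K = 2 ^ (2 * m + 1)) (hq : q = 2 ^ (2 * m + 1)) (D : Par (2 ^ m) q P N)
    (hcard : Nat.card ↥(twistedF4 K (2 ^ m)) = q ^ 12 * ((q - 1) * (q ^ 3 + 1) * (q ^ 4 - 1) * (q ^ 6 + 1))) :
    CycExact ↥(twistedF4 K (2 ^ m)) P := by
  have C := ccdat hK hq D
  have hcop := D.coprime ⟨m, rfl⟩
  obtain ⟨hN1, hNP, hPm⟩ := D.P_gt
  have gP := H371.Core.TwF4.exists_cert hK PGF4T.chainEp_ok PGF4T.hThEp PGF4T.certEp_fP (N := P)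
    (by rw [D.P_eq]; push_cast; rfl)
  have gN := H371.Core.TwF4.exists_cert hK PGF4T.chainEm_ok PGF4T.hThEm PGF4T.certEm_fM (N := N)
    (by rw [D.N_eq]; push_cast; rfl)
  rw [D.card_eq] at hcard
  exact C.tor hcop (by omega) hN1 gP gN hcard D.TT_mod D.m0_lt hPm

end Cfsg.Agent.H92.TCTF4
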