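import Mathlib
import Cfsg.Agent.H92.TCTF4Tor
import Cfsg.Agent.H992.TC.FromCS
import Cfsg.Agent.H902.Names
import Cfsg.Agent.H902.Iso
import Cfsg.Agent.OrdDiv.Table
import Cfsg.Agent.H934.HeisTwF4
import Cfsg.Agent.H934.OutAll
import Cfsg.Agent.H816.OutEmb
import Cfsg.Agent.H364.OutLie
import Cfsg.Agent.S1072
import Cfsg.Agent.S1068
import Cfsg.Agent.S0000

/-!
# Thompson's conjecture for `²F₄(q)`, `q ≥ 8` (helper92, for S3582)
-/

set_option autoImplicit false

namespace Cfsg.Agent.H92.TCTF4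

open Subgroup Cfsg Cfsg.Lie Cfsg.Agent.H902 Cfsg.Agent.H902.Art Cfsg.Agent.OrdDiv Cfsg.Agent.H364 Cfsg.Agent.H129.CycT
  Cfsg.Agent.H541.PRegTF4 Cfsg.Agent.H992.TC

universe u v

theorem cs_congr {L : Type u} {L' : Type v} [Group L] [Group L'] (e : L ≃* L') :
    Set.range (fun g : L => (centralizer ({g} : Set L)).index) =
      Set.range (fun g : L' => (centralizer ({g} : Set L')).index) := by
  have h1 : ∀ g : L, (centralizer ({g} : Set L)).index = (centralizer ({e g} : Set L')).index := by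
    intro g
    have h2 : (centralizer ({e g} : Set L')).comap e.toMonoidHom = centralizer ({g} : Set L) := by
      ext x
      rw [mem_comap, mem_centralizer_singleton_iff, mem_centralizer_singleton_iff]
      show e x * e g = e g * e x ↔ _
      rw [← map_mul, ← map_mul, e.injective.eq_iff]
    rw [← h2]
    exact index_comap_of_surjective _ e.surjective
  ext n
  constructor
  · rintro ⟨g, rfl⟩
    exact ⟨e g, (h1 g).symm⟩
  · rintro ⟨g, rfl⟩
    refine ⟨e.symm g, ?_⟩
    show (centralizer ({e.symm g} : Set L)).index = _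
    rw [h1, e.apply_symm_apply]

theorem center_bot {L : Type u} [Group L] [IsSimpleGroup L] (hna : ¬ ∀ a b : L, a * b = b * a) : center L = ⊥ := by
  rcases (inferInstance : (center L).Normal).eq_bot_or_eq_top with h | h
  · exact h
  · exfalso
    apply hna
    intro a b
    have hb : b ∈ center L := h ▸ mem_top b
    exact mem_center_iff.1 hb a

theorem two_dvd_card {G : Type u} [Group G] [Finite G] [IsSimpleGroup G] (hna : ¬ ∀ a b : G, a * b = b * a) :
    2 ∣ Nat.card G := Cfsg.Agent.H364.two_dvd_card hna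

/-- **The identification of the almost simple group.** -/
theorem ident {Γ : Type u} [Group Γ] [Finite Γ] (N : Subgroup Γ) [hN : N.Normal] [hNs : IsSimpleGroup N]
    (hna : ¬ ∀ a b : N, a * b = b * a) (hC : centralizer (N : Set Γ) = ⊥) {f M : ℕ} (h : Art.Real .TF4 2 f M)
    (e : Nat.card Γ = M) : N.index = 1 ∧ OrdDiv.Real (.tf4 (2 ^ f)) N := by
  have hk : IsKnownSimple' N := S0000.result
  have hna' : ¬ IsMulCommutative N := fun hc => hna fun x y => hc.is_comm.comm x y
  have hcd : N.index ∣ Nat.card (Out N) := H816.OutEmb.index_dvd N (by rw [hC]; exact bot_le)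
  have hN1 : 1 < Nat.card N := Finite.one_lt_card
  have hpow : 2 ^ N.index ≤ Nat.card N ^ 3 := by
    have h1 := H934.OutAll.bd hna' hk ⊥ (bot_ne_top)
    rw [index_bot] at h1
    exact (Nat.pow_le_pow_right (by norm_num) (Nat.le_of_dvd Nat.card_pos hcd)).trans h1
  have e1 : Nat.card N * N.index = M := by rw [card_mul_index, e]
  rcases Names.exists_nam table hk hna with ⟨n, hn, hr, hc⟩ | ⟨g, X, t, k, hg, hr, hc⟩ | ⟨x, hx, hr, hc⟩
  · exfalso
    by_cases h6 : n = 6
    · subst h6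
      have h360 : Nat.card N = 360 := by
        have : Nat.factorial 6 = 720 := rfl
        omega
      exact small_false h (by rw [h360]; norm_num) hpow e1
    · obtain ⟨ea⟩ := hr
      have hsa : IsSimpleGroup (alternatingGroup (Fin n)) := ea.symm.isSimpleGroup
      have hout : Nat.card (Out N) = 2 := by
        rw [H934.OutB.card_out_congr ea]
        exact H934.OutAll.card_out_alt hn h6 (fun hc => hna fun x y => ea.injective (by
          rw [map_mul, map_mul, hc.is_comm.comm]))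
      rw [hout] at hcd
      refine alt_false h (n := n) (hcd.trans (by norm_num)) ?_
      rw [← hc, ← e1]; ring
  · by_cases htp : t = 2
    · subst htp
      obtain ⟨c0, h1, h2, h3⟩ := Cfsg.Agent.H364.OutLie.card_out hna hg hr hc
      obtain ⟨rfl, rfl⟩ := same hc h e1 ⟨c0, h1 ▸ hcd, h2, h3 rfl⟩
      have hg' : g = .tf4 (2 ^ k) := by cases hg; rfl
      subst hg'
      refine ⟨?_, hr⟩
      have h4 : Nat.card N = M := by rw [M_eq hc, M_eq h]
      rw [h4] at e1
      exact Nat.eq_of_mul_eq_mul_left (Nat.pos_of_ne_zero h.M_ne) (by rw [e1, mul_one])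
    · exact (cross_false h hc htp hpow e1).elim
  · exfalso
    rw [hc] at hpow
    exact spor_false h hx hpow (by rw [← hc]; exact e1)

theorem aux {K : Type} [Field K] [Fintype K] {m : ℕ} (hm : 1 ≤ m) (hK : Fintype.card K = 2 ^ (2 * m + 1))
    {G : Type v} [Group G] [Finite G] (hZ : center G = ⊥)
    (hcs : Set.range (fun g : G => (centralizer ({g} : Set G)).index) =
      Set.range (fun g : ↥(twistedF4 K (2 ^ m)) => (centralizer ({g} : Set ↥(twistedF4 K (2 ^ m)))).index)) :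
    Nonempty (G ≃* ↥(twistedF4 K (2 ^ m))) := by
  have hs : IsSimpleGroup ↥(twistedF4 K (2 ^ m)) := (S1072.result hm hK).1
  have hna : ¬ ∀ a b : ↥(twistedF4 K (2 ^ m)), a * b = b * a := fun h => (S1072.result hm hK).2 ⟨⟨h⟩⟩
  have hfin : Finite (GL chevF4.Idx K) := inferInstance
  have hLfin : Finite ↥(twistedF4 K (2 ^ m)) := inferInstance
  obtain ⟨q, hq⟩ : ∃ q, q = 2 ^ (2 * m + 1) := ⟨_, rfl⟩
  obtain ⟨P, N, D⟩ := exists_par hm
  rw [← hq] at D
  have hcard : Nat.card ↥(twistedF4 K (2 ^ m)) = q ^ 12 * ((q - 1) * (q ^ 3 + 1) * (q ^ 4 - 1) * (q ^ 6 + 1)) := by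
    rw [S1068.result hK, ← hq]; ring
  have h : Art.Real .TF4 2 (2 * m + 1) (Nat.card ↥(twistedF4 K (2 ^ m))) := by
    refine ⟨Nat.prime_two, by omega, ⟨rfl, ⟨m, rfl⟩, by omega⟩, ?_⟩
    rw [← hq, hcard]
    show 1 * _ = q ^ 12 * _
    rw [one_mul]
    rfl
  have hLreal : OrdDiv.Real (.tf4 (2 ^ (2 * m + 1))) ↥(twistedF4 K (2 ^ m)) :=
    ⟨K, inferInstance, inferInstance, m, hm, hK, rfl, ⟨MulEquiv.refl _⟩⟩
  have hPb := P_bd D
  have hodd := P_odd D
  have hq8 : 8 ≤ q := D.q_le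
  have hPm : 1 < P := by omega
  have hfact := fact_two h
  have h2L : 2 ∣ Nat.card ↥(twistedF4 K (2 ^ m)) := by
    rw [hcard]
    refine Dvd.dvd.mul_right (dvd_pow ?_ (by norm_num)) _
    rw [hq]; exact dvd_pow_self 2 (by omega)
  have hb : ∀ H : Subgroup ↥(twistedF4 K (2 ^ m)), H ≠ ⊤ → 2 * q ^ 5 ≤ H.index := by
    intro H hH
    have h1 := H934.HeisTwF4.bound_2F4 hm hK hs H hH
    rw [hK, ← hq] at h1
    have h2 : (2 * q ^ 5) ^ 2 ≤ H.index ^ 2 := by
      calc (2 * q ^ 5) ^ 2 = 4 * q ^ 10 := by ring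
        _ ≤ _ := h1
    exact (Nat.pow_le_pow_iff_left (by norm_num)).1 h2
  have hN : 2 ^ (Nat.card ↥(twistedF4 K (2 ^ m))).factorization 2 * P ^ 2 ≤ Nat.card ↥(twistedF4 K (2 ^ m)) := by
    have h1 : 2 ^ (Nat.card ↥(twistedF4 K (2 ^ m))).factorization 2 = q ^ 12 := by
      rw [hfact, hq, ← pow_mul, mul_comm]
    rw [h1, M_eq h, ← hq]
    apply Nat.mul_le_mul_left
    refine le_trans ?_ (num_ge hq8)
    calc P ^ 2 ≤ (2 * q ^ 2) ^ 2 := Nat.pow_le_pow_left hPb.2 2
      _ = 4 * q ^ 4 := by ring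
      _ ≤ q * q ^ 4 := Nat.mul_le_mul_right _ (by omega)
      _ = q ^ 5 := by ring
      _ ≤ q ^ 13 := Nat.pow_le_pow_right (by omega) (by norm_num)
  obtain ⟨hc, hG, Q, hQ, hQp, hQm, S, hS, hSs, hSna, hSC, -, hno⟩ :=
    struct_of_cs (center_bot hna) hZ hPm hodd (tt_of_cycExact hPm (exact_P hK hq D hcard)) Nat.prime_two h2L hodd
      hb hN (by
        intro t a ht ht2 hd hlt _
        have h1 := pow_le_M h ht ht2 hd
        rw [← hq] at h1
        have h2 : 2 * q ^ 4 ≤ 2 * q ^ 5 :=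
          Nat.mul_le_mul_left _ (Nat.pow_le_pow_right (by omega) (by norm_num))
        omega) hcs
  have := Fact.mk Nat.prime_two
  obtain ⟨a, ha⟩ := IsPGroup.iff_card.1 hQp
  rw [ha] at hQm
  have hEa : 12 * (2 * m + 1) ∣ a := exp_dvd ⟨m, rfl⟩ hq D hQm
  have e0 : Nat.card (G ⧸ Q) * 2 ^ a = Nat.card ↥(twistedF4 K (2 ^ m)) := by
    rw [← ha, ← Subgroup.card_eq_card_quotient_mul_card_subgroup, hc]
  have ha0 : a = 0 := by
    by_contra hne
    have h1 := Nat.le_of_dvd (Nat.pos_of_ne_zero hne) hEa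
    have h2 : 2 ∣ Nat.card (G ⧸ Q) := (two_dvd_card hSna).trans (card_subgroup_dvd_card S)
    have h3 : 2 ^ (a + 1) ∣ Nat.card ↥(twistedF4 K (2 ^ m)) := by
      rw [← e0, pow_succ, mul_comm]
      exact Nat.mul_dvd_mul_right h2 _
    have h4 := (Nat.prime_two.pow_dvd_iff_le_factorization Nat.card_pos.ne').1 h3
    omega
  subst ha0
  rw [pow_zero] at ha
  rw [pow_zero, mul_one] at e0
  obtain ⟨hS1, hSr⟩ := ident S hSna hSC h e0
  have hQb : Q = ⊥ := Subgroup.card_eq_one.1 ha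
  have hSt : S = ⊤ := Subgroup.index_eq_one.1 hS1
  subst hQb
  have eG : G ≃* S := (QuotientGroup.quotientBot.symm).trans
    (Subgroup.topEquiv.symm.trans (MulEquiv.subgroupCongr hSt.symm))
  obtain ⟨e2⟩ := Iso.real_unique _ hSr hLreal
  exact ⟨eG.trans e2⟩

/-- **Thompson's conjecture for `²F₄(q)`, `q ≥ 8`.** -/
theorem tf4 {L : Type u} [Group L] (hL : Iso2F4 L) {G : Type v} [Group G] [Finite G] (hZ : center G = ⊥)
    (hcs : Set.range (fun g : G => (centralizer ({g} : Set G)).index) =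
      Set.range (fun g : L => (centralizer ({g} : Set L)).index)) : Nonempty (G ≃* L) := by
  obtain ⟨K, _, _, m, hm, hK, ⟨e⟩⟩ := hL
  obtain ⟨e'⟩ := aux hm hK hZ (hcs.trans (cs_congr e))
  exact ⟨e'.trans e.symm⟩

end Cfsg.Agent.H92.TCTF4
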