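import Cfsg.Agent.H92.ExcCount

/-!
# `k(G) ≥ 12` for `G₂(q)`, `q ≥ 5`
-/

set_option autoImplicit false

namespace Cfsg.Agent.H92.ExcG2

open Cfsg Cfsg.Lie Cfsg.Agent.H92.KTools Cfsg.Agent.H92.ExcSL2 Cfsg.Agent.H92.ExcOrd Cfsg.Agent.H92.ExcCount
  Cfsg.Agent.H436 Cfsg.Agent.OrdDiv
  Cfsg.Agent.ChevalleyStructure Cfsg.Agent.ChevalleyStructure.Elts Cfsg.Agent.ChevalleyStructure.SL2Hom

universe u v

variable {F : Type v} [Field F]

/-- orders of the products of elements of the two commuting `SL₂`'s of `G₂` -/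
theorem g2_mul {a b : ℕ} {x y : SL2 F} (hx : orderOf x = a) (hy : orderOf y = b) (hb : Odd b)
    (hab : a.Coprime b) : HasOrd (chevG2.group F) (a * b) := by
  have hD : InList chevG2 := by simp
  have h1 : orderOf (ph (F := F) hD (r := 7) (by decide) x) = a := by
    rw [orderOf_injective (ph (F := F) hD (r := 7) (by decide)) ?_, hx]
    exact ph_injective hD (i := 0) (s := 6) (by decide) (by decide) (by decide) (by decide)
  have h2 : orderOf (ph (F := F) hD (r := 11) (by decide) y) = b := by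
    rw [orderOf_ph hD _ _ (by rw [hy]; exact hb), hy]
  exact HasOrd.mul_of_commute h1 h2 (ph_commute hD _ _ (by decide) _ _) hab

theorem two_ne_zero_of {p : ℕ} [hp : Fact p.Prime] [CharP F p] (h2 : p ≠ 2) : (2 : F) ≠ 0 := by
  intro h
  have h3 : ((2 : ℕ) : F) = 0 := by exact_mod_cast h
  rw [CharP.cast_eq_zero_iff F p] at h3
  exact h2 ((Nat.prime_dvd_prime_iff_eq hp.out Nat.prime_two).1 h3)

theorem dvd_card (p : ℕ) [Fact p.Prime] [CharP F p] [Finite F] {q : ℕ} (hF : Nat.card F = q) : p ∣ q := by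
  have : Fintype F := Fintype.ofFinite F
  obtain ⟨n, -, hn⟩ := FiniteField.card F p
  rw [← hF, Nat.card_eq_fintype_card, hn]
  exact dvd_pow_self p n.pos.ne'

theorem g2_four (hF : (2 : F) = 0) : HasOrd (chevG2.group F) 4 := by
  have hD : InList chevG2 := by simp
  refine ⟨⟨xG hD 6 1 * xG hD 10 1, Subgroup.mul_mem _ (xG_mem_group hD _ _) (xG_mem_group hD _ _)⟩, ?_⟩
  rw [← coe_orderOf]
  exact orderOf_four hD (r := 6) (s := 10) (k := 11) (by decide) (by decide) (by decide) (by decide) (by decide)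
    (c := 1) (by decide) (by decide) (by decide) hF

/-- three primes -/
theorem exists_s {q : ℕ} (hq : IsPrimePow q) (h4 : 4 ≤ q) {p : ℕ} (hp : p.Prime) (hpq : p ∣ q) (hp3 : p = 2 ∨ p = 3) :
    ∃ s, s.Prime ∧ 5 ≤ s ∧ s ∣ q ^ 2 - 1 := by
  by_contra hno
  push Not at hno
  have h3 := three_le_card hq h4
  have h5 : (q * (q ^ 2 - 1)).primeFactors ⊆ {2, 3} := by
    intro s hs
    have hsp := Nat.prime_of_mem_primeFactors hs
    have hsd := Nat.dvd_of_mem_primeFactors hs
    rw [Finset.mem_insert, Finset.mem_singleton]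
    rcases hsp.dvd_mul.1 hsd with h | h
    · obtain ⟨l, k, hl, hk, rfl⟩ := (isPrimePow_nat_iff _).1 hq
      have h6 : s = l := (Nat.prime_dvd_prime_iff_eq hsp hl).1 (hsp.dvd_of_dvd_pow h)
      have h7 : p = l := (Nat.prime_dvd_prime_iff_eq hp hl).1 (hp.dvd_of_dvd_pow hpq)
      omega
    · by_contra hne
      have h6 := hsp.two_le
      rcases Nat.lt_or_ge s 5 with h7 | h7
      · have : s = 4 := by omega
        subst this
        exact absurd hsp (by decide)
      · exact hno s hsp h7 h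
  have := Finset.card_le_card h5
  rw [Finset.card_pair (by norm_num)] at this
  omega

/-- the common part -/
theorem g2_row {q : ℕ} {G : Type u} [Group G] [Finite G] (hg : Cond (.g2 q))
    (he : den (.g2 q) * Nat.card G = num (.g2 q)) {C : Finset ℕ}
    (hC : ∀ n ∈ C, HasOrd G n ∧ ¬ n.Prime ∧ n ≠ 1)
    (hm : 9 ≤ (q * (q ^ 2 - 1)).primeFactors.card + C.card) : 12 ≤ Nat.card (ConjClasses G) := by
  obtain ⟨hq3, hq⟩ := hg
  have hq2 := hq.two_le
  have h1 : 1 * Nat.card G = q ^ 6 * ((q ^ 2 - 1) * (q ^ 6 - 1)) := he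
  have hmm : q * (q ^ 2 - 1) ∣ Nat.card G := mq_dvd (B := 1) h1 one_pos (dvd_pow_self q (by norm_num))
    (by rw [mul_one]; exact Dvd.intro _ rfl) dvd_rfl
  have p : ∀ e r, e ∣ 6 → Prim q e r → r ∣ Nat.card G := fun e r h hr => by
    rw [one_mul] at h1; rw [h1]
    exact ((hr.dvd h).mul_left _).mul_left _
  refine classes_ge hq2 hmm {3, 6} (by simp; omega) ?_ C hC (by rw [Finset.card_pair (by norm_num)]; omega)
  simp only [Finset.mem_insert, Finset.mem_singleton, forall_eq_or_imp, forall_eq]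
  exact ⟨fun r hr => p 3 r (by norm_num) hr, fun r hr => p 6 r (by norm_num) hr⟩

theorem card_six {a b c d e f : ℕ} (h : [a, b, c, d, e, f].Nodup) : ({a, b, c, d, e, f} : Finset ℕ).card = 6 := by
  have := List.toFinset_card_of_nodup h
  simpa using this

theorem g2_ge_five {q : ℕ} {G : Type u} [Group G] [Finite G] (hg : Cond (.g2 q))
    (he : den (.g2 q) * Nat.card G = num (.g2 q)) [Finite F] (hF : Nat.card F = q) (e : G ≃* chevG2.group F)
    (p : ℕ) [hp : Fact p.Prime] [CharP F p] (h5 : 5 ≤ p) : 12 ≤ Nat.card (ConjClasses G) := by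
  have h2 : (2 : F) ≠ 0 := two_ne_zero_of (p := p) (by omega)
  have h43 : HasOrd (chevG2.group F) (4 * 3) := g2_mul (orderOf_wel h2) orderOf_thr (by decide) (by decide)
  have hodd : Odd p := hp.out.odd_of_ne_two (by omega)
  have c4 : Nat.Coprime 4 p := by
    rw [show 4 = 2 ^ 2 by norm_num]
    exact Nat.Coprime.pow_left 2 ((Nat.coprime_primes Nat.prime_two hp.out).2 (by omega))
  have h4p : HasOrd (chevG2.group F) (4 * p) := g2_mul (orderOf_wel h2) (orderOf_up p) hodd c4
  have h3p : HasOrd (chevG2.group F) (3 * p) := g2_mul orderOf_thr (orderOf_up p) hodd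
    ((Nat.coprime_primes Nat.prime_three hp.out).2 (by omega))
  have hnp : ∀ k, 2 ≤ k → ¬ (k * p).Prime := fun k hk => Nat.not_prime_mul (by omega) hp.out.ne_one
  have key : ∀ n, HasOrd (chevG2.group F) n → HasOrd G n := fun n h => h.of_equiv e.symm
  refine g2_row hg he (C := {4, 6, 12, 2 * p, 3 * p, 4 * p}) ?_ ?_
  · simp only [Finset.mem_insert, Finset.mem_singleton, forall_eq_or_imp, forall_eq]
    refine ⟨⟨key _ (h43.of_dvd (by norm_num) (by norm_num)), by decide, by decide⟩,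
      ⟨key _ (h43.of_dvd (by norm_num) (by norm_num)), by decide, by decide⟩,
      ⟨key _ h43, by decide, by decide⟩,
      ⟨key _ (h4p.of_dvd ⟨2, by ring⟩ (by omega)), hnp 2 le_rfl, by omega⟩,
      ⟨key _ h3p, hnp 3 (by norm_num), by omega⟩, ⟨key _ h4p, hnp 4 (by norm_num), by omega⟩⟩
  · obtain ⟨m, hm⟩ := hodd
    rw [card_six (by simp only [List.nodup_cons, List.mem_cons, List.not_mem_nil, or_false, not_or, not_false_eq_true, List.nodup_nil, and_true]; omega)]
    have := hg.1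
    have := three_le_card hg.2 (by
      have h6 : p ∣ q := dvd_card p hF
      have := Nat.le_of_dvd (by omega) h6
      omega)
    omega

theorem g2_three {q : ℕ} {G : Type u} [Group G] [Finite G] (hg : Cond (.g2 q)) (h9 : 9 ≤ q)
    (he : den (.g2 q) * Nat.card G = num (.g2 q)) [Finite F] (hF : Nat.card F = q) (e : G ≃* chevG2.group F)
    [CharP F 3] : 12 ≤ Nat.card (ConjClasses G) := by
  have : Fact (Nat.Prime 3) := ⟨Nat.prime_three⟩
  have h2 : (2 : F) ≠ 0 := two_ne_zero_of (p := 3) (by norm_num)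
  obtain ⟨s, hs, hs5, hsd⟩ := exists_s hg.2 (by omega) Nat.prime_three (dvd_card 3 hF) (Or.inr rfl)
  obtain ⟨x, hx⟩ := exists_orderOf_prime (F := F) hs (by rw [hF]; exact hsd)
  have hsodd : Odd s := hs.odd_of_ne_two (by omega)
  have h43 : HasOrd (chevG2.group F) (4 * 3) := g2_mul (orderOf_wel h2) orderOf_thr (by decide) (by decide)
  have c4 : Nat.Coprime 4 s := by
    rw [show 4 = 2 ^ 2 by norm_num]
    exact Nat.Coprime.pow_left 2 ((Nat.coprime_primes Nat.prime_two hs).2 (by omega))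
  have h4s : HasOrd (chevG2.group F) (4 * s) := g2_mul (orderOf_wel h2) hx hsodd c4
  have h3s : HasOrd (chevG2.group F) (3 * s) := g2_mul orderOf_thr hx hsodd
    ((Nat.coprime_primes Nat.prime_three hs).2 (by omega))
  have hnp : ∀ k, 2 ≤ k → ¬ (k * s).Prime := fun k hk => Nat.not_prime_mul (by omega) hs.ne_one
  have key : ∀ n, HasOrd (chevG2.group F) n → HasOrd G n := fun n h => h.of_equiv e.symm
  refine g2_row hg he (C := {4, 6, 12, 2 * s, 3 * s, 4 * s}) ?_ ?_
  · simp only [Finset.mem_insert, Finset.mem_singleton, forall_eq_or_imp, forall_eq]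
    refine ⟨⟨key _ (h43.of_dvd (by norm_num) (by norm_num)), by decide, by decide⟩,
      ⟨key _ (h43.of_dvd (by norm_num) (by norm_num)), by decide, by decide⟩,
      ⟨key _ h43, by decide, by decide⟩,
      ⟨key _ (h4s.of_dvd ⟨2, by ring⟩ (by omega)), hnp 2 le_rfl, by omega⟩,
      ⟨key _ h3s, hnp 3 (by norm_num), by omega⟩, ⟨key _ h4s, hnp 4 (by norm_num), by omega⟩⟩
  · obtain ⟨m, hm⟩ := hsodd
    rw [card_six (by simp only [List.nodup_cons, List.mem_cons, List.not_mem_nil, or_false, not_or, not_false_eq_true, List.nodup_nil, and_true]; omega)]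
    have := three_le_card hg.2 (by omega)
    omega

theorem two_eq_zero [CharP F 2] : (2 : F) = 0 := by exact_mod_cast CharP.cast_eq_zero F 2

/-- orders `4, 6, 2s, 3s` in characteristic two -/
theorem g2_two_ords [CharP F 2] {s : ℕ} (hs : s.Prime) (hs5 : 5 ≤ s) {x : SL2 F} (hx : orderOf x = s) :
    HasOrd (chevG2.group F) 4 ∧ HasOrd (chevG2.group F) 6 ∧ HasOrd (chevG2.group F) (2 * s) ∧
      HasOrd (chevG2.group F) (3 * s) := by
  have : Fact (Nat.Prime 2) := ⟨Nat.prime_two⟩
  have hsodd : Odd s := hs.odd_of_ne_two (by omega)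
  exact ⟨g2_four two_eq_zero, g2_mul (orderOf_up 2) orderOf_thr (by decide) (by decide),
    g2_mul (orderOf_up 2) hx hsodd ((Nat.coprime_primes Nat.prime_two hs).2 (by omega)),
    g2_mul orderOf_thr hx hsodd ((Nat.coprime_primes Nat.prime_three hs).2 (by omega))⟩

theorem g2_two {q : ℕ} {G : Type u} [Group G] [Finite G] (hg : Cond (.g2 q)) (h16 : 16 ≤ q)
    (he : den (.g2 q) * Nat.card G = num (.g2 q)) [Finite F] (hF : Nat.card F = q) (e : G ≃* chevG2.group F)
    [CharP F 2] : 12 ≤ Nat.card (ConjClasses G) := by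
  have : Fact (Nat.Prime 2) := ⟨Nat.prime_two⟩
  obtain ⟨s, hs, hs5, hsd⟩ := exists_s hg.2 (by omega) Nat.prime_two (dvd_card 2 hF) (Or.inl rfl)
  obtain ⟨x, hx⟩ := exists_orderOf_prime (F := F) hs (by rw [hF]; exact hsd)
  obtain ⟨h4, h6, h2s, h3s⟩ := g2_two_ords hs hs5 hx
  have hnp : ∀ k, 2 ≤ k → ¬ (k * s).Prime := fun k hk => Nat.not_prime_mul (by omega) hs.ne_one
  have key : ∀ n, HasOrd (chevG2.group F) n → HasOrd G n := fun n h => h.of_equiv e.symm
  -- a second prime `s' ≥ 5`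
  have h17 : q ≠ 17 := by
    rintro rfl
    have h7 := dvd_card (F := F) 2 hF
    norm_num at h7
  have h4c : 4 ≤ (q * (q ^ 2 - 1)).primeFactors.card := by
    by_contra hlt
    rcases lTwo_three hg.2 (by omega) with h | h | h | h | h | h | h | h <;> omega
  obtain ⟨s', hs', hs'5, hs's, hs'd⟩ : ∃ s', s'.Prime ∧ 5 ≤ s' ∧ s' ≠ s ∧ s' ∣ q ^ 2 - 1 := by
    by_contra hno
    push Not at hno
    have h5 : (q * (q ^ 2 - 1)).primeFactors ⊆ {2, 3, s} := by
      intro t ht
      have htp := Nat.prime_of_mem_primeFactors ht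
      have htd := Nat.dvd_of_mem_primeFactors ht
      simp only [Finset.mem_insert, Finset.mem_singleton]
      rcases htp.dvd_mul.1 htd with h | h
      · obtain ⟨l, k, hl, hk, hlk⟩ := (isPrimePow_nat_iff _).1 hg.2
        rw [← hlk] at h
        have h6 : t = l := (Nat.prime_dvd_prime_iff_eq htp hl).1 (htp.dvd_of_dvd_pow h)
        have h8 := dvd_card (F := F) 2 hF
        rw [← hlk] at h8
        have h7 : 2 = l := (Nat.prime_dvd_prime_iff_eq Nat.prime_two hl).1 (Nat.prime_two.dvd_of_dvd_pow h8)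
        omega
      · by_contra hne
        have h6 := htp.two_le
        rcases Nat.lt_or_ge t 5 with h7 | h7
        · have : t = 4 := by omega
          subst this
          exact absurd htp (by decide)
        · exact hno t htp h7 (by omega) h
    have h6 := Finset.card_le_card h5
    have h7 := Finset.card_le_three (a := 2) (b := 3) (c := s)
    omega
  obtain ⟨x', hx'⟩ := exists_orderOf_prime (F := F) hs' (by rw [hF]; exact hs'd)
  obtain ⟨-, -, h2s', h3s'⟩ := g2_two_ords hs' hs'5 hx'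
  have hnp' : ∀ k, 2 ≤ k → ¬ (k * s').Prime := fun k hk => Nat.not_prime_mul (by omega) hs'.ne_one
  refine g2_row hg he (C := {4, 6, 2 * s, 3 * s, 2 * s', 3 * s'}) ?_ ?_
  · simp only [Finset.mem_insert, Finset.mem_singleton, forall_eq_or_imp, forall_eq]
    refine ⟨⟨key _ h4, by decide, by decide⟩, ⟨key _ h6, by decide, by decide⟩,
      ⟨key _ h2s, hnp 2 le_rfl, by omega⟩, ⟨key _ h3s, hnp 3 (by norm_num), by omega⟩,
      ⟨key _ h2s', hnp' 2 le_rfl, by omega⟩, ⟨key _ h3s', hnp' 3 (by norm_num), by omega⟩⟩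
  · obtain ⟨m, hm⟩ := hs.odd_of_ne_two (by omega)
    obtain ⟨m', hm'⟩ := hs'.odd_of_ne_two (by omega)
    rw [card_six (by simp only [List.nodup_cons, List.mem_cons, List.not_mem_nil, or_false, not_or, not_false_eq_true, List.nodup_nil, and_true]; omega)]
    omega

/-- an element of order nine in `SL₂(8)` -/
theorem exists_nine [Finite F] (hF : Nat.card F = 8) : ∃ x : SL2 F, orderOf x = 9 := by
  have : Fintype F := Fintype.ofFinite F
  have hF' : Fintype.card F = 8 := by rw [← hF, Nat.card_eq_fintype_card]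
  have h2 : (2 : F) = 0 := by
    have h := FiniteField.cast_card_eq_zero F
    rw [hF'] at h
    have h3 : (2 : F) ^ 3 = 0 := by
      have : ((8 : ℕ) : F) = 2 ^ 3 := by norm_num
      rw [← this]; exact h
    exact pow_eq_zero_iff (by norm_num) |>.1 h3
  obtain ⟨t, ht⟩ : ∃ t : F, t ^ 3 + t + 1 = 0 := by
    classical
    obtain ⟨t, ht0, ht1⟩ : ∃ t : F, t ≠ 0 ∧ t ≠ 1 := by
      by_contra hno
      push Not at hno
      have h3 : (Finset.univ : Finset F) ⊆ {0, 1} := by
        intro t _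
        rw [Finset.mem_insert, Finset.mem_singleton]
        by_cases h : t = 0
        · exact Or.inl h
        · exact Or.inr (hno t h)
      have h4 := Finset.card_le_card h3
      rw [Finset.card_univ, hF'] at h4
      have h5 := Finset.card_le_two (a := (0 : F)) (b := 1)
      omega
    have h7 := FiniteField.pow_card_sub_one_eq_one t ht0
    rw [hF'] at h7
    have h8 : (t - 1) * ((t ^ 3 + t + 1) * (t ^ 3 + t ^ 2 + 1)) = 0 := by
      have : (8 : ℕ) - 1 = 7 := rfl
      rw [this] at h7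
      linear_combination h7 + (t ^ 4 - t ^ 3) * h2
    rcases mul_eq_zero.1 h8 with h9 | h9
    · exact absurd (sub_eq_zero.1 h9) ht1
    · rcases mul_eq_zero.1 h9 with h9 | h9
      · exact ⟨t, h9⟩
      · refine ⟨t⁻¹, ?_⟩
        have h10 : t ^ 3 * ((t⁻¹) ^ 3 + t⁻¹ + 1) = 0 := by
          have : t ^ 3 * ((t⁻¹) ^ 3 + t⁻¹ + 1) = t ^ 3 + t ^ 2 + 1 := by field_simp; ring
          rw [this]; exact h9
        exact (mul_eq_zero.1 h10).resolve_left (pow_ne_zero 3 ht0)
  have : Fact (Nat.Prime 3) := ⟨Nat.prime_three⟩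
  have hd : (!![0, 1; 1, t] : Matrix (Fin 2) (Fin 2) F).det = 1 := by
    rw [Matrix.det_fin_two]; simp; linear_combination -h2
  have hcube : (!![0, 1; 1, t] : Matrix (Fin 2) (Fin 2) F) ^ 3 = !![t, 1 + t ^ 2; 1 + t ^ 2, 2 * t + t ^ 3] := by
    rw [pow_succ, pow_two]
    ext i j
    fin_cases i <;> fin_cases j <;> simp
    · ring
    · ring
    · ring
  have hnine : (!![t, 1 + t ^ 2; 1 + t ^ 2, 2 * t + t ^ 3] : Matrix (Fin 2) (Fin 2) F) ^ 3 = 1 := by
    rw [pow_succ, pow_two]
    ext i j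
    fin_cases i <;> fin_cases j <;> simp
    · linear_combination (5 - t + 5 * t ^ 2 + t ^ 4) * ht + (-3 - 2 * t ^ 2) * h2
    · linear_combination (-5 + 9 * t - t ^ 2 + 6 * t ^ 3 + t ^ 5) * ht + (3 - 2 * t + t ^ 2) * h2
    · linear_combination (-5 + 9 * t - t ^ 2 + 6 * t ^ 3 + t ^ 5) * ht + (3 - 2 * t + t ^ 2) * h2
    · linear_combination (7 - 6 * t + 14 * t ^ 2 - t ^ 3 + 7 * t ^ 4 + t ^ 6) * ht + (-4 + 2 * t - 4 * t ^ 2) * h2
  obtain ⟨x, hx⟩ : ∃ x : SL2 F, x.1 = !![0, 1; 1, t] := ⟨⟨_, hd⟩, rfl⟩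
  refine ⟨x, orderOf_eq_prime_pow (p := 3) (n := 1) ?_ ?_⟩
  · rw [pow_one]
    intro h
    have h3 : x.1 ^ 3 = 1 := by
      have := congrArg Subtype.val h
      simpa using this
    rw [hx, hcube] at h3
    have h4 := congrFun (congrFun h3 0) 1
    simp at h4
    have h5 : (1 + t) ^ 2 = 0 := by linear_combination h4 + t * h2
    have h6 : 1 + t = 0 := pow_eq_zero_iff (by norm_num) |>.1 h5
    have h7 : (1 : F) = 0 := by linear_combination (t ^ 2 - t + 2) * h6 - ht
    exact one_ne_zero h7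
  · rw [show 3 ^ (1 + 1) = 3 * 3 by norm_num, pow_mul]
    apply Subtype.ext
    have : ((x ^ 3) ^ 3 : SL2 F).1 = (x.1 ^ 3) ^ 3 := by simp
    rw [this, hx, hcube, hnine]
    rfl

theorem g2_eight {G : Type u} [Group G] [Finite G] (hg : Cond (.g2 8))
    (he : den (.g2 8) * Nat.card G = num (.g2 8)) [Finite F] (hF : Nat.card F = 8) (e : G ≃* chevG2.group F)
    [CharP F 2] : 12 ≤ Nat.card (ConjClasses G) := by
  have : Fact (Nat.Prime 2) := ⟨Nat.prime_two⟩
  obtain ⟨x, hx⟩ := exists_orderOf_prime (F := F) (r := 7) (by norm_num) (by rw [hF]; norm_num)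
  obtain ⟨h4, h6, h14, h21⟩ := g2_two_ords (s := 7) (by norm_num) (by norm_num) hx
  obtain ⟨y, hy⟩ := exists_nine hF
  have h18 : HasOrd (chevG2.group F) (2 * 9) := g2_mul (orderOf_up 2) hy (by decide) (by norm_num)
  have key : ∀ n, HasOrd (chevG2.group F) n → HasOrd G n := fun n h => h.of_equiv e.symm
  refine g2_row hg he (C := {4, 6, 9, 14, 18, 21}) ?_ ?_
  · simp only [Finset.mem_insert, Finset.mem_singleton, forall_eq_or_imp, forall_eq]
    exact ⟨⟨key _ h4, by norm_num, by decide⟩, ⟨key _ h6, by norm_num, by decide⟩,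
      ⟨key _ (h18.of_dvd (by norm_num) (by norm_num)), by norm_num, by decide⟩, ⟨key _ h14, by norm_num, by decide⟩,
      ⟨key _ h18, by norm_num, by decide⟩, ⟨key _ h21, by norm_num, by decide⟩⟩
  · rw [card_six (by decide)]
    have := three_le_card hg.2 (by norm_num)
    omega

end Cfsg.Agent.H92.ExcG2
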