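import Cfsg.Agent.H92.KTools
import Cfsg.Agent.H92.F4Code

/-!
# `F₄(q)`, `q` even, has elements of order 20, 24, 28; `F₄(2)` has at least twelve classes
-/

set_option autoImplicit false
set_option maxRecDepth 100000

namespace Cfsg.Agent.H92.ExcF4Two

open Cfsg Cfsg.Lie Cfsg.Agent.H92.F2Code Cfsg.Agent.H92.F4Code Cfsg.Agent.H92.KTools

universe u

variable {F : Type u} [Field F] [CharP F 2]

theorem p20 : (20 : ℕ).primeFactors = {2, 5} := by decide +kernel
theorem p24 : (24 : ℕ).primeFactors = {2, 3} := by decide +kernel
theorem p28 : (28 : ℕ).primeFactors = {2, 7} := by decide +kernel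

/-- code of a word (element of order 20) -/
def C20 : List ℕ := [15057551361, 6734508720130, 15325986820, 53418655756, 48, 1600, 1888, 100480, 405924328, 507016968, 51810419718, 100352, 124928, 28672, 278528, 12709888, 12902088704, 15057747968, 6749566730241, 405798920, 506986504, 51810140166, 12582912, 12901679104, 15057551360, 116916224, 66322432006, 503316488, 69793218560, 1946157060, 104421392384, 8385948811266, 1939177734144, 18700287606784, 114142849531908, 3545969291427840, 4165053125230592, 6734508720128, 8383776161792, 1924145348608, 18691697672192, 8521215115264, 27487790694400, 13194139533312, 312261302288384, 105553116266496, 3518437208883200, 4151755906482176, 281474976710656, 1055531162664960, 3940649673949184, 2251799813685248]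

/-- code of a word (element of order 24) -/
def C24 : List ℕ := [16777217, 393218, 150994948, 267386892, 16, 112, 48, 128, 960, 448, 1536, 2176, 14336, 6144, 24576, 40960, 253952, 122880, 393216, 1588160, 530880, 3171840, 4235264, 29614080, 12705792, 173015040, 804257796, 38797312, 2013265928, 116391936, 402653192, 6459228162, 2164260866, 12884901888, 22011707392, 134754598912, 66035122176, 137456123905, 968531902466, 414481121282, 1662152343552, 2748779069440, 17042430230528, 8246337208320, 26388279066624, 37955162865664, 263467789451264, 113865488596992, 307863255777280, 2111062325329920, 985162418487296, 3377699720527872]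

/-- code of a word (element of order 28) -/
def C28 : List ℕ := [8261369987073, 2147745795, 8261638422532, 112201725640712, 48, 528672, 116516800, 6272, 117042752, 116516352, 77677568, 12681344, 12685440, 122880, 414464688129, 12607488, 414473011201, 2164654082, 412333768707, 100663552, 402654728, 112201994339335, 98304, 277025456128, 8259222503424, 503416328, 112479086904327, 402653192, 74801418862592, 66035122176, 1011663440445440, 8534100148227, 8259222110208, 5506148073472, 107203994320896, 1083088746577920, 1011619417030656, 6597070028800, 6599217512448, 12884901888, 299075752689664, 6609954668544, 303473799200768, 26388279066624, 290271069732864, 51539607552, 562984313159680, 3377768440004608, 17592186044416, 3958310579470336, 3377699720527872, 2251799813685248]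

theorem o20 : orderOf (wd hF F (rts [1, 9, 5, 7, 8, 0])) = 20 :=
  orderOf_wd' _ C20 (by decide) (by norm_num) (by decide +kernel) (by decide +kernel) (by rw [p20]; decide +kernel)

theorem o24 : orderOf (wd hF F (rts [5, 3, 8, 9, 2])) = 24 :=
  orderOf_wd' _ C24 (by decide) (by norm_num) (by decide +kernel) (by decide +kernel) (by rw [p24]; decide +kernel)

theorem o28 : orderOf (wd hF F (rts [4, 0, 2, 1, 7, 8])) = 28 :=
  orderOf_wd' _ C28 (by decide) (by norm_num) (by decide +kernel) (by decide +kernel) (by rw [p28]; decide +kernel)

theorem hasOrd {w : List ℕ} {n : ℕ} (h : orderOf (wd hF F w) = n) : HasOrd (chevF4.group F) n :=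
  ⟨⟨wd hF F w, wd_mem hF F w⟩, by
    rw [← h]
    exact (orderOf_injective (chevF4.group F).subtype (chevF4.group F).subtype_injective
      ⟨wd hF F w, wd_mem hF F w⟩).symm⟩

/-- **`F₄(q)`, `q` even** -/
theorem f4_even [Finite F] : 12 ≤ Nat.card (ConjClasses ↥(chevF4.group F)) := by
  have h20 := hasOrd (F := F) o20
  have h24 := hasOrd (F := F) o24
  have h28 := hasOrd (F := F) o28
  have h := orders_le (G := chevF4.group F) {1, 2, 3, 4, 5, 6, 7, 8, 10, 12, 14, 20, 24, 28} (by
    simp only [Finset.mem_insert, Finset.mem_singleton, forall_eq_or_imp, forall_eq]
    exact ⟨hasOrd_one _, h20.of_dvd (by norm_num) (by norm_num), h24.of_dvd (by norm_num) (by norm_num),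
      h20.of_dvd (by norm_num) (by norm_num), h20.of_dvd (by norm_num) (by norm_num),
      h24.of_dvd (by norm_num) (by norm_num), h28.of_dvd (by norm_num) (by norm_num),
      h24.of_dvd (by norm_num) (by norm_num), h20.of_dvd (by norm_num) (by norm_num),
      h24.of_dvd (by norm_num) (by norm_num), h28.of_dvd (by norm_num) (by norm_num), h20, h24, h28⟩)
  refine le_trans ?_ h
  decide

end Cfsg.Agent.H92.ExcF4Two
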