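import Cfsg.Agent.H92.PRegE7

/-!
# `E₇(q)`: the row (helper92, for S4883)
-/

set_option autoImplicit false
set_option linter.unusedSectionVars false

namespace Cfsg.Agent.H92.PRegE7

open Cfsg.Agent.H93.PReg Cfsg.Agent.H92.PRegT Cfsg.Agent.H92.KTools Cfsg.Agent.H92.PRegNum

universe u

variable {S : Type u} [Group S] [Finite S]

theorem zmod_of {n N : ℕ} {z : ℤ} (hN : (N : ℤ) = z) (h : n ∣ N) : ((z : ℤ) : ZMod n) = 0 := by
  rw [← hN]
  have := (ZMod.natCast_eq_zero_iff N n).2 h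
  exact_mod_cast this

/-- the hypotheses on the tori -/
structure Tori (S : Type u) [Group S] (q g N7 N9 t7 t9 : ℕ) : Prop where
  hN7 : (N7 : ℤ) = 1 + (q : ℤ) + (q : ℤ) ^ 2 + (q : ℤ) ^ 3 + (q : ℤ) ^ 4 + (q : ℤ) ^ 5 + (q : ℤ) ^ 6
  hN9 : (N9 : ℤ) = 1 + (q : ℤ) ^ 3 + (q : ℤ) ^ 6
  h71 : (q - 1) * N7 ∣ g * t7
  h72 : t7 ∣ (q - 1) * N7
  h73 : ∀ n, n ∣ N7 → ¬ 7 ∣ n → Iso S t7 n
  h91 : (q - 1) * N9 ∣ g * t9
  h92 : t9 ∣ (q - 1) * N9
  h93 : ∀ n, n ∣ N9 → ¬ 3 ∣ n → Iso S t9 n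

variable {q g f N7 N9 t7 t9 : ℕ}

theorem Tori.a7 (hT : Tori S q g N7 N9 t7 t9) (hq : 2 ≤ q) (hg : g = 1 ∨ g = 2)
    (hcard : (g : ℤ) * Nat.card S = P7 q) (hout : Nat.card (Cfsg.Out S) = g * f) {n7 n : ℕ} (hn : n7 ∣ N7)
    (h7 : ¬ 7 ∣ n7) (hi : (n - 1) * (14 * (g * f)) < n7 - 1) : MO {k | k ∣ n7 ∧ k ≠ 1} n S := by
  obtain ⟨M, h1, h2⟩ := w7 q
  have hodd : Nat.Coprime 2 N7 := by
    rw [Nat.Prime.coprime_iff_not_dvd Nat.prime_two]
    intro h
    have h4 := zmod_of hT.hN7 h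
    push_cast at h4
    generalize (q : ZMod 2) = y at h4; revert h4; revert y; decide
  have hN0 : 0 < N7 := Nat.pos_of_ne_zero (by rintro rfl; simp at hodd)
  obtain ⟨w', hw, hmod⟩ := mod_gen (g := g) (Nf := (q - 1) * N7) (t := t7) (N := N7) (w := 14) (M := M)
    (by rcases hg with rfl | rfl; exacts [Or.inl rfl, Or.inr Nat.prime_two])
    (by
      rw [hcard, h1]
      push_cast [Nat.cast_sub (show 1 ≤ q by omega)]
      rw [hT.hN7])
    (Nat.mul_pos (by omega) hN0) (by rw [hT.hN7]; exact_mod_cast h2) (by rcases hg with rfl | rfl <;> norm_num)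
    (by rcases hg with rfl | rfl; exacts [Nat.coprime_one_left _, hodd]) hT.h71 hT.h72 (hT.h73 n7 hn h7)
  refine (hT.h73 n7 hn h7).mo' (hmod.of_dvd hn) hout.le dvd_rfl (lt_of_le_of_lt ?_ hi)
  gcongr

theorem Tori.a9 (hT : Tori S q g N7 N9 t7 t9) (hq : 2 ≤ q) (hg : g = 1 ∨ g = 2)
    (hcard : (g : ℤ) * Nat.card S = P7 q) (hout : Nat.card (Cfsg.Out S) = g * f) {n9 n : ℕ} (hn : n9 ∣ N9)
    (h3 : ¬ 3 ∣ n9) (hi : (n - 1) * (18 * (g * f)) < n9 - 1) : MO {k | k ∣ n9 ∧ k ≠ 1} n S := by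
  obtain ⟨M, h1, h2⟩ := w9 q
  have hodd : Nat.Coprime 2 N9 := by
    rw [Nat.Prime.coprime_iff_not_dvd Nat.prime_two]
    intro h
    have h4 := zmod_of hT.hN9 h
    push_cast at h4
    generalize (q : ZMod 2) = y at h4; revert h4; revert y; decide
  have hN0 : 0 < N9 := Nat.pos_of_ne_zero (by rintro rfl; simp at hodd)
  obtain ⟨w', hw, hmod⟩ := mod_gen (g := g) (Nf := (q - 1) * N9) (t := t9) (N := N9) (w := 18) (M := M)
    (by rcases hg with rfl | rfl; exacts [Or.inl rfl, Or.inr Nat.prime_two])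
    (by
      rw [hcard, h1]
      push_cast [Nat.cast_sub (show 1 ≤ q by omega)]
      rw [hT.hN9])
    (Nat.mul_pos (by omega) hN0) (by rw [hT.hN9]; exact_mod_cast h2) (by rcases hg with rfl | rfl <;> norm_num)
    (by rcases hg with rfl | rfl; exacts [Nat.coprime_one_left _, hodd]) hT.h91 hT.h92 (hT.h93 n9 hn h3)
  refine (hT.h93 n9 hn h3).mo' (hmod.of_dvd hn) hout.le dvd_rfl (lt_of_le_of_lt ?_ hi)
  gcongr

theorem card_eq {g c : ℕ} {x : ℤ} (hg : 0 < g) (hcard : (g : ℤ) * Nat.card S = P7 x) (h : (g : ℤ) * c = P7 x) :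
    Nat.card S = c := by
  have hg' : (g : ℤ) ≠ 0 := by exact_mod_cast hg.ne'
  have := mul_left_cancel₀ hg' (hcard.trans h.symm)
  exact_mod_cast this

theorem bnd {p : ℕ} (hq : 2 ≤ q) (hcard : (g : ℤ) * Nat.card S = P7 q) (hp : p.Prime) (hd : p ^ 2 ∣ Nat.card S) :
    p ≤ q ^ 3 + q ^ 2 := by
  have hP : Prime (p : ℤ) := Nat.prime_iff_prime_int.1 hp
  have hd' : (p : ℤ) ^ 2 ∣ P7 q := by rw [← hcard]; exact dvd_mul_of_dvd_right (by exact_mod_cast hd) _
  have := bound (by exact_mod_cast hq) hP hd'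
  exact_mod_cast this

/-- `E₇(2)` -/
theorem two (hT : Tori S 2 1 N7 N9 t7 t9) (hcard : ((1 : ℕ) : ℤ) * Nat.card S = P7 (2 : ℕ))
    (hout : Nat.card (Cfsg.Out S) = 1 * 1) : Row S := by
  have hN7 : N7 = 127 := by
    have : (N7 : ℤ) = 127 := by rw [hT.hN7]; norm_num
    exact_mod_cast this
  subst hN7
  have hc : Nat.card S = 7997476042075799759100487262680802918400 := card_eq one_pos hcard (by norm_num [P7])
  intro p hp h5 hd
  have hb := bnd le_rfl hcard hp hd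
  norm_num at hb
  have hb' : p ≤ 7 := by
    rw [hc] at hd
    interval_cases p
    · norm_num
    · norm_num
    · norm_num
    · exact absurd hp (by norm_num)
    · exact absurd hp (by norm_num)
    · exact absurd hp (by norm_num)
    · exact absurd hd (by norm_num)
    · exact absurd hp (by norm_num)
  refine reg_of_torus (m := 127) (fun h => ?_) (hT.a7 (f := 1) le_rfl (Or.inl rfl) hcard hout dvd_rfl
    (by norm_num) (by omega))
  have := (Nat.prime_dvd_prime_iff_eq hp (by norm_num)).1 h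
  omega

/-- `E₇(3)` -/
theorem three (hT : Tori S 3 2 N7 N9 t7 t9) (hcard : ((2 : ℕ) : ℤ) * Nat.card S = P7 (3 : ℕ))
    (hout : Nat.card (Cfsg.Out S) = 2 * 1) : Row S := by
  have hN7 : N7 = 1093 := by
    have : (N7 : ℤ) = 1093 := by rw [hT.hN7]; norm_num
    exact_mod_cast this
  subst hN7
  intro p hp h5 hd
  have hb := bnd (by norm_num) hcard hp hd
  norm_num at hb
  refine reg_of_torus (m := 1093) (fun h => ?_) (hT.a7 (f := 1) (by norm_num) (Or.inr rfl) hcard hout dvd_rfl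
    (by norm_num) (by omega))
  have := (Nat.prime_dvd_prime_iff_eq hp (by norm_num)).1 h
  omega

/-- `E₇(4)` -/
theorem four (hT : Tori S 4 1 N7 N9 t7 t9) (hcard : ((1 : ℕ) : ℤ) * Nat.card S = P7 (4 : ℕ))
    (hout : Nat.card (Cfsg.Out S) = 1 * 2) : Row S := by
  have hN7 : N7 = 5461 := by
    have : (N7 : ℤ) = 5461 := by rw [hT.hN7]; norm_num
    exact_mod_cast this
  subst hN7
  have hc : Nat.card S = 111131458114940385379597233477884941280664199527155056307251745263504588800000000 := card_eq one_pos hcard (by norm_num [P7])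
  intro p hp h5 hd
  have hb := bnd (by norm_num) hcard hp hd
  norm_num at hb
  refine reg_of_torus (m := 5461) (fun h => ?_) (hT.a7 (f := 2) (by norm_num) (Or.inl rfl) hcard hout dvd_rfl
    (by norm_num) (by omega))
  rw [show 5461 = 43 * 127 by norm_num] at h
  rcases (Nat.Prime.dvd_mul hp).1 h with h | h
  · have := (Nat.prime_dvd_prime_iff_eq hp (by norm_num)).1 h
    subst this
    rw [hc] at hd
    exact absurd hd (by norm_num)
  · have := (Nat.prime_dvd_prime_iff_eq hp (by norm_num)).1 h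
    omega

/-- the general case -/
theorem gen (hT : Tori S q g N7 N9 t7 t9) (hq : 2 ≤ q) (hg : g = 1 ∨ g = 2)
    (hcard : (g : ℤ) * Nat.card S = P7 q) (hout : Nat.card (Cfsg.Out S) = g * f)
    {n7 n9 : ℕ} (h7 : n7 ∣ N7) (h7' : ¬ 7 ∣ n7) (h9 : n9 ∣ N9) (h9' : ¬ 3 ∣ n9)
    (hiA : (q ^ 3 + q ^ 2) * (14 * (g * f)) < n7 - 1) (hiB : (q ^ 3 + q ^ 2) * (18 * (g * f)) < n9 - 1) : Row S := by
  intro p hp h5 hd
  have hP : Prime (p : ℤ) := Nat.prime_iff_prime_int.1 hp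
  have hb := bnd hq hcard hp hd
  by_cases h : p ∣ n7
  · have h' : ¬ p ∣ n9 := fun h' => coprime_7_9 hP (by rw [← hT.hN7]; exact_mod_cast h.trans h7)
      (by rw [← hT.hN9]; exact_mod_cast h'.trans h9)
    refine reg_of_torus h' (hT.a9 hq hg hcard hout h9 h9' (lt_of_le_of_lt ?_ hiB))
    exact Nat.mul_le_mul_right _ (by omega)
  · refine reg_of_torus h (hT.a7 hq hg hcard hout h7 h7' (lt_of_le_of_lt ?_ hiA))
    exact Nat.mul_le_mul_right _ (by omega)

/-- the part prime to `r` -/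
theorem exists_part {N r : ℕ} (hr : r.Prime) (h : ¬ r ^ 2 ∣ N) : ∃ n c, n * c = N ∧ ¬ r ∣ n ∧ c ≤ r := by
  by_cases h1 : r ∣ N
  · obtain ⟨n, rfl⟩ := h1
    refine ⟨n, r, mul_comm _ _, fun h2 => h ?_, le_rfl⟩
    rw [pow_two]
    exact Nat.mul_dvd_mul_left r h2
  · exact ⟨N, 1, mul_one N, h1, hr.one_lt.le⟩

/-- **the row of `E₇(q)`** -/
theorem row {q ℓ f N7 N9 t7 t9 : ℕ} (hℓ : ℓ.Prime) (hf : 1 ≤ f) (hq : q = ℓ ^ f)
    (hT : Tori S q (Nat.gcd 2 (q - 1)) N7 N9 t7 t9) (hcard : (Nat.gcd 2 (q - 1) : ℤ) * Nat.card S = P7 q)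
    (hout : Nat.card (Cfsg.Out S) = Nat.gcd 2 (q - 1) * f) : Row S := by
  have hq2 := two_le_of hℓ hf hq
  have hfq : 2 ^ f ≤ q := by rw [hq]; exact Nat.pow_le_pow_left hℓ.two_le f
  have hfq' : f + 1 ≤ q := (lt_two_pow' f).trans hfq
  have hN7 : N7 = 1 + q + q ^ 2 + q ^ 3 + q ^ 4 + q ^ 5 + q ^ 6 := by
    have := hT.hN7
    exact_mod_cast this
  have hN9 : N9 = 1 + q ^ 3 + q ^ 6 := by
    have := hT.hN9
    exact_mod_cast this
  have hlog : ∀ k, q < 2 ^ k → f < k := fun k hk => by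
    by_contra h
    push Not at h
    exact absurd ((Nat.pow_le_pow_right (by norm_num) h).trans hfq) (not_le.2 hk)
  by_cases h2 : q = 2
  · subst h2
    have : f = 1 := by have := hlog 2 (by norm_num); omega
    subst this
    exact two hT hcard hout
  by_cases h3 : q = 3
  · subst h3
    have : f = 1 := by have := hlog 2 (by norm_num); omega
    subst this
    exact three hT hcard hout
  by_cases h4 : q = 4
  · subst h4
    have : f = 2 := by
      have := hlog 3 (by norm_num)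
      have h1 : f ≠ 1 := by
        rintro rfl
        rw [pow_one] at hq
        rw [← hq] at hℓ
        exact absurd hℓ (by norm_num)
      omega
    subst this
    exact four hT hcard hout
  by_cases h5 : q = 5
  · subst h5
    have : f = 1 := by
      have := hlog 3 (by norm_num)
      have h1 : f ≠ 2 := by
        rintro rfl
        have h6 : ℓ ≤ 2 := by
          by_contra h
          push Not at h
          nlinarith
        interval_cases ℓ <;> omega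
      omega
    subst this
    norm_num at hN7 hN9
    exact gen hT (by norm_num) (Or.inr rfl) hcard hout (n7 := 19531) (n9 := 15751) (by rw [hN7]) (by norm_num)
      (by rw [hN9]) (by norm_num) (by norm_num) (by norm_num)
  have h6 : q ≠ 6 := by
    rintro rfl
    have h7 : 2 ∣ ℓ ^ f := by rw [← hq]; norm_num
    have h8 : 3 ∣ ℓ ^ f := by rw [← hq]; norm_num
    have h9 := (Nat.prime_dvd_prime_iff_eq Nat.prime_two hℓ).1 (Nat.prime_two.dvd_of_dvd_pow h7)
    have h10 := (Nat.prime_dvd_prime_iff_eq Nat.prime_three hℓ).1 (Nat.prime_three.dvd_of_dvd_pow h8)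
    omega
  have hq7 : 7 ≤ q := by omega
  obtain ⟨n7, c7, e7, hn7, hc7⟩ := exists_part (N := N7) (r := 7) (by norm_num) (fun h => by
    have h4 := zmod_of hT.hN7 h
    push_cast at h4
    generalize (q : ZMod (7 ^ 2)) = y at h4; revert h4; revert y; decide +kernel)
  obtain ⟨n9, c9, e9, hn9, hc9⟩ := exists_part (N := N9) (r := 3) (by norm_num) (fun h => by
    have h4 := zmod_of hT.hN9 h
    push_cast at h4
    generalize (q : ZMod (3 ^ 2)) = y at h4; revert h4; revert y; decide +kernel)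
  -- it is enough to bound `7 (..)` and `3 (..)`
  have main : ∀ g, (7 * ((q ^ 3 + q ^ 2) * (14 * (g * f))) + 7 < N7) →
      (3 * ((q ^ 3 + q ^ 2) * (18 * (g * f))) + 3 < N9) →
      (q ^ 3 + q ^ 2) * (14 * (g * f)) < n7 - 1 ∧ (q ^ 3 + q ^ 2) * (18 * (g * f)) < n9 - 1 := by
    intro g hA hB
    constructor
    · have h1 : N7 ≤ 7 * n7 := by rw [← e7, mul_comm]; gcongr
      omega
    · have h1 : N9 ≤ 3 * n9 := by rw [← e9, mul_comm]; gcongr
      omega
  have hgg : Nat.gcd 2 (q - 1) = 1 ∨ Nat.gcd 2 (q - 1) = 2 := by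
    have := Nat.gcd_dvd_left 2 (q - 1)
    exact (Nat.dvd_prime Nat.prime_two).1 this
  suffices hs : 7 * ((q ^ 3 + q ^ 2) * (14 * (Nat.gcd 2 (q - 1) * f))) + 7 < N7 ∧
      3 * ((q ^ 3 + q ^ 2) * (18 * (Nat.gcd 2 (q - 1) * f))) + 3 < N9 by
    obtain ⟨hiA, hiB⟩ := main _ hs.1 hs.2
    exact gen hT hq2 hgg hcard hout ⟨c7, e7.symm⟩ hn7 ⟨c9, e9.symm⟩ hn9 hiA hiB
  have hg2 : Nat.gcd 2 (q - 1) ≤ 2 := Nat.le_of_dvd (by norm_num) (Nat.gcd_dvd_left _ _)
  by_cases h7 : q = 7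
  · subst h7
    have : f ≤ 1 := by
      have := hlog 3 (by norm_num)
      have h1 : f ≠ 2 := by
        rintro rfl
        have h6 : ℓ ≤ 2 := by
          by_contra h
          push Not at h
          nlinarith
        interval_cases ℓ <;> omega
      omega
    have h8 : Nat.gcd 2 (7 - 1) * f ≤ 2 * 1 := Nat.mul_le_mul hg2 this
    rw [hN7, hN9]
    norm_num at h8 ⊢
    omega
  by_cases h8 : q = 8
  · subst h8
    have : f ≤ 3 := by have := hlog 4 (by norm_num); omega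
    rw [hN7, hN9]
    norm_num
    omega
  have hq9 : 9 ≤ q := by omega
  have e3 : 9 * q ^ 2 ≤ q ^ 3 := by
    calc 9 * q ^ 2 ≤ q * q ^ 2 := by gcongr
      _ = q ^ 3 := by ring
  have e4 : 9 * q ^ 3 ≤ q ^ 4 := by
    calc 9 * q ^ 3 ≤ q * q ^ 3 := by gcongr
      _ = q ^ 4 := by ring
  have e5 : 9 * q ^ 4 ≤ q ^ 5 := by
    calc 9 * q ^ 4 ≤ q * q ^ 4 := by gcongr
      _ = q ^ 5 := by ring
  have e6 : 9 * q ^ 5 ≤ q ^ 6 := by
    calc 9 * q ^ 5 ≤ q * q ^ 5 := by gcongr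
      _ = q ^ 6 := by ring
  have e2 : 81 ≤ q ^ 2 := by
    calc 81 = 9 ^ 2 := by norm_num
      _ ≤ q ^ 2 := Nat.pow_le_pow_left hq9 2
  by_cases hf2 : f ≤ 2
  · have h8 : Nat.gcd 2 (q - 1) * f ≤ 2 * 2 := Nat.mul_le_mul hg2 hf2
    have hA : (q ^ 3 + q ^ 2) * (14 * (Nat.gcd 2 (q - 1) * f)) ≤ (q ^ 3 + q ^ 2) * (14 * (2 * 2)) := by gcongr
    have hB : (q ^ 3 + q ^ 2) * (18 * (Nat.gcd 2 (q - 1) * f)) ≤ (q ^ 3 + q ^ 2) * (18 * (2 * 2)) := by gcongr
    rw [hN7, hN9]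
    constructor <;> omega
  · have hq14 : 14 ≤ q := by
      by_contra hlt
      push Not at hlt
      have h1 : f = 3 := by have := hlog 4 (by omega); omega
      subst h1
      have h2 : ℓ ≤ 2 := by
        by_contra h
        push Not at h
        have : 3 ^ 3 ≤ ℓ ^ 3 := Nat.pow_le_pow_left h 3
        omega
      have h3 : ℓ = 2 := by have := hℓ.two_le; omega
      subst h3
      omega
    obtain ⟨a, rfl⟩ : ∃ a, q = a + 1 := ⟨q - 1, by omega⟩
    have hfa : f ≤ a := by omega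
    have h8 : Nat.gcd 2 (a + 1 - 1) * f ≤ 2 * a := Nat.mul_le_mul hg2 hfa
    have hA : ((a + 1) ^ 3 + (a + 1) ^ 2) * (14 * (Nat.gcd 2 (a + 1 - 1) * f)) ≤
        ((a + 1) ^ 3 + (a + 1) ^ 2) * (14 * (2 * a)) := by gcongr
    have hB : ((a + 1) ^ 3 + (a + 1) ^ 2) * (18 * (Nat.gcd 2 (a + 1 - 1) * f)) ≤
        ((a + 1) ^ 3 + (a + 1) ^ 2) * (18 * (2 * a)) := by gcongr
    have hA' : ((a + 1) ^ 3 + (a + 1) ^ 2) * (14 * (2 * a)) + 28 * (a + 1) ^ 2 = 28 * (a + 1) ^ 4 := by ring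
    have hB' : ((a + 1) ^ 3 + (a + 1) ^ 2) * (18 * (2 * a)) + 36 * (a + 1) ^ 2 = 36 * (a + 1) ^ 4 := by ring
    have h46 : 196 * (a + 1) ^ 4 ≤ (a + 1) ^ 6 := by
      calc 196 * (a + 1) ^ 4 = 14 * 14 * (a + 1) ^ 4 := by norm_num
        _ ≤ (a + 1) * (a + 1) * (a + 1) ^ 4 := by gcongr
        _ = (a + 1) ^ 6 := by ring
    rw [hN7, hN9]
    constructor <;> omega

end Cfsg.Agent.H92.PRegE7
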