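import Cfsg.Agent.H92.PRegNum

/-!
# `F₄(q)`: the number theory (helper92, for S4883)
-/

set_option autoImplicit false
set_option linter.unusedSectionVars false

namespace Cfsg.Agent.H92.PRegF4

open Cfsg.Agent.H93.PReg Cfsg.Agent.H92.PRegT Cfsg.Agent.H92.KTools Cfsg.Agent.H92.PRegNum

universe u

/-- the order polynomial -/
def P4 (x : ℤ) : ℤ := x ^ 24 * (x ^ 12 - 1) * (x ^ 8 - 1) * (x ^ 6 - 1) * (x ^ 2 - 1)

theorem bound {x P : ℤ} (hx : 2 ≤ x) (hP : Prime P) (h : P ^ 2 ∣ P4 x) : P ≤ x ^ 2 + x + 1 := by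
  by_contra hlt
  push Not at hlt
  have hx2 : 4 ≤ x ^ 2 := by nlinarith
  have hPx : x ^ 2 + x + 2 ≤ P := by omega
  have hP2 : (x ^ 2 + x + 2) ^ 2 ≤ P ^ 2 := pow_le_pow_left₀ (by nlinarith) hPx 2
  have n0 : ¬ P ∣ x := nd_lt (by omega) (by nlinarith)
  have n1 : ¬ P ∣ x - 1 := nd_lt (by omega) (by nlinarith)
  have n2 : ¬ P ∣ x + 1 := nd_lt (by omega) (by nlinarith)
  have n3 : ¬ P ∣ x ^ 2 + x + 1 := nd_lt (by nlinarith) (by nlinarith)
  have n6 : ¬ P ∣ x ^ 2 - x + 1 := nd_lt (by nlinarith) (by nlinarith)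
  have n4 : ¬ P ∣ x ^ 2 + 1 := nd_lt (by nlinarith) (by nlinarith)
  have s8 : ¬ P ^ 2 ∣ x ^ 4 + 1 := nd_lt (by positivity) (lt_of_lt_of_le (by nlinarith [hx2]) hP2)
  have s12 : ¬ P ^ 2 ∣ x ^ 4 - x ^ 2 + 1 := nd_lt (by nlinarith [sq_nonneg (x ^ 2)])
    (lt_of_lt_of_le (by nlinarith [hx2]) hP2)
  have e : P4 x = (x ^ 24 * (x - 1) ^ 4 * (x + 1) ^ 4 * (x ^ 2 + x + 1) ^ 2 * (x ^ 2 - x + 1) ^ 2 * (x ^ 2 + 1) ^ 2) *
      ((x ^ 4 + 1) * (x ^ 4 - x ^ 2 + 1)) := by unfold P4; ring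
  rw [e] at h
  refine not_sq hP ?_ (not_sq2 hP (fun h1 h2 => ?_) s8 s12) h
  · exact nd_mul hP (nd_mul hP (nd_mul hP (nd_mul hP (nd_mul hP (nd_pow hP n0 _) (nd_pow hP n1 _)) (nd_pow hP n2 _))
      (nd_pow hP n3 _)) (nd_pow hP n6 _)) (nd_pow hP n4 _)
  · have h3 := dvd_sub h1 h2
    rw [show x ^ 4 + 1 - (x ^ 4 - x ^ 2 + 1) = x ^ 2 by ring] at h3
    exact nd_pow hP n0 2 h3

theorem w12 (x : ℤ) : ∃ M : ℤ, P4 x = (1 - x ^ 2 + x ^ 4) * M ∧ (1 - x ^ 2 + x ^ 4) ∣ M - 12 :=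
  ⟨x ^ 24 * (x ^ 6 - 1) * (x ^ 2 + 1) * (x ^ 8 - 1) * (x ^ 6 - 1) * (x ^ 2 - 1), by unfold P4; ring, ⟨-12 - 12 * x ^ 2 + 12 * x ^ 6 + 12 * x ^ 8 - 12 * x ^ 12 - 12 * x ^ 14 + 12 * x ^ 18 + 12 * x ^ 20 - 11 * x ^ 24 - 11 * x ^ 26 - x ^ 28 + 8 * x ^ 30 + 8 * x ^ 32 + 2 * x ^ 34 - 4 * x ^ 36 - 4 * x ^ 38 - x ^ 40 + x ^ 42 + x ^ 44, by ring⟩⟩

theorem w8 (x : ℤ) : ∃ M : ℤ, P4 x = (x ^ 4 + 1) * M ∧ (x ^ 4 + 1) ∣ M - 8 :=
  ⟨x ^ 24 * (x ^ 12 - 1) * (x ^ 4 - 1) * (x ^ 6 - 1) * (x ^ 2 - 1), by unfold P4; ring, ⟨-8 + 8 * x ^ 4 - 8 * x ^ 8 + 8 * x ^ 12 - 8 * x ^ 16 + 8 * x ^ 20 - 7 * x ^ 24 - x ^ 26 + 6 * x ^ 28 + x ^ 30 - 5 * x ^ 32 + 3 * x ^ 36 + x ^ 38 - 2 * x ^ 40 - x ^ 42 + x ^ 44, by ring⟩⟩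

variable {S : Type u} [Group S] [Finite S]

/-- `F₄(2)` -/
theorem two (hcard : (Nat.card S : ℤ) = P4 2) (h4 : HasOrd S 4) : Row S := by
  have hc : Nat.card S = 3311126603366400 := by
    have : ((Nat.card S : ℕ) : ℤ) = ((3311126603366400 : ℕ) : ℤ) := by rw [hcard]; norm_num [P4]
    exact_mod_cast this
  intro p hp h5 hd
  have hP : Prime (p : ℤ) := Nat.prime_iff_prime_int.1 hp
  have hd' : (p : ℤ) ^ 2 ∣ P4 2 := by rw [← hcard]; exact_mod_cast hd
  have hb : p ≤ 7 := by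
    have := bound le_rfl hP hd'
    norm_num at this
    exact_mod_cast this
  have h7 : p = 5 ∨ p = 7 := by
    interval_cases p
    · exact Or.inl rfl
    · exact absurd hp (by norm_num)
    · exact Or.inr rfl
  rcases h7 with rfl | rfl
  · exact reg_ords {1, 2, 3, 7, 13, 17} (ords hc _ (by
      simp only [Finset.mem_insert, Finset.mem_singleton, forall_eq_or_imp, forall_eq]
      norm_num)) (by decide) (by decide)
  · refine reg_ords {1, 2, 3, 4, 5, 13, 17} ?_ (by decide) (by decide)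
    intro k hk
    by_cases h : k = 4
    · rw [h]; exact h4
    · refine ords hc {1, 2, 3, 5, 13, 17} ?_ k ?_
      · simp only [Finset.mem_insert, Finset.mem_singleton, forall_eq_or_imp, forall_eq]
        norm_num
      · simp only [Finset.mem_insert, Finset.mem_singleton] at hk ⊢
        tauto

/-- the congruences -/
theorem mod12 {q N : ℕ} (hq : 2 ≤ q) (hN : (N : ℤ) = 1 - (q : ℤ) ^ 2 + (q : ℤ) ^ 4)
    (hcard : (Nat.card S : ℤ) = P4 q) : Nat.card S / N ≡ 12 [MOD N] := by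
  obtain ⟨M, h1, h2⟩ := w12 q
  have h0 : 0 < N := by
    have : (2 : ℤ) ≤ q := by exact_mod_cast hq
    have : (0 : ℤ) < N := by rw [hN]; nlinarith [sq_nonneg ((q : ℤ) ^ 2)]
    exact_mod_cast this
  exact modEq_of_int (M := M) h0 (by rw [hcard, h1, hN]) (by rw [hN]; exact_mod_cast h2)

theorem mod8 {q : ℕ} (hcard : (Nat.card S : ℤ) = P4 q) {N : ℕ} (hN : N ∣ q ^ 4 + 1) :
    Nat.card S / (q ^ 4 + 1) ≡ 8 [MOD N] := by
  obtain ⟨M, h1, h2⟩ := w8 q
  refine Nat.ModEq.of_dvd hN (modEq_of_int (M := M) (by positivity) ?_ ?_)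
  · rw [hcard, h1]; push_cast; ring
  · push_cast; exact_mod_cast h2

/-- `F₄(3)` -/
theorem three (hcard : (Nat.card S : ℤ) = P4 3) (hout : Nat.card (Cfsg.Out S) = 1) (h12 : Iso S 73 73)
    (h8 : Iso S 82 41) : Row S := by
  have hc : Nat.card S = 5734420792816671844761600 := by
    have : ((Nat.card S : ℕ) : ℤ) = ((5734420792816671844761600 : ℕ) : ℤ) := by rw [hcard]; norm_num [P4]
    exact_mod_cast this
  have t12 : MO {k | k ∣ 73 ∧ k ≠ 1} 6 S :=
    h12.mo' (mod12 (q := 3) (by norm_num) (by norm_num) (by exact_mod_cast hcard)) hout.le dvd_rfl (by norm_num)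
  have t8 : MO {k | k ∣ 41 ∧ k ≠ 1} 5 S :=
    h8.mo' (mod8 (q := 3) (by exact_mod_cast hcard) (by norm_num)) hout.le dvd_rfl (by norm_num)
  intro p hp h5 hd
  have hP : Prime (p : ℤ) := Nat.prime_iff_prime_int.1 hp
  have hd' : (p : ℤ) ^ 2 ∣ P4 3 := by rw [← hcard]; exact_mod_cast hd
  have hb : p ≤ 13 := by
    have := bound (by norm_num) hP hd'
    norm_num at this
    exact_mod_cast this
  have hne : ∀ k : ℕ, k.Prime → 13 < k → ¬ p ∣ k := fun k hk hlt h => by
    have := (Nat.prime_dvd_prime_iff_eq hp hk).1 h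
    omega
  by_cases h11 : p ≤ 11
  · exact reg_add2 (by norm_num) (hne _ (by norm_num) (by norm_num)) (hne _ (by norm_num) (by norm_num)) t12 t8 ∅
      (by simp) (by simp) (by simp) (by simp) (by simpa using h11)
  · have h13 : p = 13 := by
      interval_cases p
      · exact absurd hp (by norm_num)
      · rfl
    subst h13
    exact reg_add2 (by norm_num) (hne _ (by norm_num) (by norm_num)) (hne _ (by norm_num) (by norm_num)) t12 t8
      {1, 2} (ords hc _ (by
        simp only [Finset.mem_insert, Finset.mem_singleton, forall_eq_or_imp, forall_eq]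
        norm_num)) (by decide) (by decide) (by decide) (by decide)

/-- `F₄(4)` -/
theorem four (hcard : (Nat.card S : ℤ) = P4 4) (hout : Nat.card (Cfsg.Out S) = 4) (h12 : Iso S 241 241)
    (h8 : Iso S 257 257) : Row S := by
  have hc : Nat.card S = 19009825523840945451297669120000 := by
    have : ((Nat.card S : ℕ) : ℤ) = ((19009825523840945451297669120000 : ℕ) : ℤ) := by rw [hcard]; norm_num [P4]
    exact_mod_cast this
  have t12 : MO {k | k ∣ 241 ∧ k ≠ 1} 5 S :=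
    h12.mo' (mod12 (q := 4) (by norm_num) (by norm_num) (by exact_mod_cast hcard)) hout.le dvd_rfl (by norm_num)
  have t8 : MO {k | k ∣ 257 ∧ k ≠ 1} 8 S :=
    h8.mo' (mod8 (q := 4) (by exact_mod_cast hcard) (by norm_num)) hout.le dvd_rfl (by norm_num)
  intro p hp h5 hd
  have hP : Prime (p : ℤ) := Nat.prime_iff_prime_int.1 hp
  have hd' : (p : ℤ) ^ 2 ∣ P4 4 := by rw [← hcard]; exact_mod_cast hd
  have hb : p ≤ 21 := by
    have := bound (by norm_num) hP hd'
    norm_num at this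
    exact_mod_cast this
  have hne : ∀ k : ℕ, k.Prime → 21 < k → ¬ p ∣ k := fun k hk hlt h => by
    have := (Nat.prime_dvd_prime_iff_eq hp hk).1 h
    omega
  by_cases h13 : p ≤ 13
  · exact reg_add2 (by norm_num) (hne _ (by norm_num) (by norm_num)) (hne _ (by norm_num) (by norm_num)) t12 t8 ∅
      (by simp) (by simp) (by simp) (by simp) (by simpa using h13)
  · have h17 : p = 17 := by
      interval_cases p
      · exact absurd hp (by norm_num)
      · exact absurd hp (by norm_num)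
      · exact absurd hp (by norm_num)
      · rfl
      · exact absurd hp (by norm_num)
      · rw [hc] at hd; exact absurd hd (by norm_num)
      · exact absurd hp (by norm_num)
      · exact absurd hp (by norm_num)
    subst h17
    exact reg_add2 (by norm_num) (hne _ (by norm_num) (by norm_num)) (hne _ (by norm_num) (by norm_num)) t12 t8
      {1, 2, 3, 5} (ords hc _ (by
        simp only [Finset.mem_insert, Finset.mem_singleton, forall_eq_or_imp, forall_eq]
        norm_num)) (by decide) (by decide) (by decide) (by decide)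

/-- `F₄(8)` -/
theorem eight (hcard : (Nat.card S : ℤ) = P4 8) (hout : Nat.card (Cfsg.Out S) = 6)
    (h8 : Iso S 4097 4097) : Row S := by
  have hc : Nat.card S = 89916256275114328125813913131505293998004633600 := by
    have : ((Nat.card S : ℕ) : ℤ) = ((89916256275114328125813913131505293998004633600 : ℕ) : ℤ) := by rw [hcard]; norm_num [P4]
    exact_mod_cast this
  intro p hp h5 hd
  have hP : Prime (p : ℤ) := Nat.prime_iff_prime_int.1 hp
  have hd' : (p : ℤ) ^ 2 ∣ P4 8 := by rw [← hcard]; exact_mod_cast hd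
  have hb : p ≤ 73 := by
    have := bound (by norm_num) hP hd'
    norm_num at this
    exact_mod_cast this
  refine reg_of_torus (m := 4097) (fun h => ?_)
    (h8.mo' (mod8 (q := 8) (by exact_mod_cast hcard) (by norm_num)) hout.le dvd_rfl (by norm_num; omega))
  rw [show 4097 = 17 * 241 by norm_num] at h
  rcases (Nat.Prime.dvd_mul hp).1 h with h | h
  · have := (Nat.prime_dvd_prime_iff_eq hp (by norm_num)).1 h
    subst this
    rw [hc] at hd
    exact absurd hd (by norm_num)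
  · have := (Nat.prime_dvd_prime_iff_eq hp (by norm_num)).1 h
    omega

/-- the general case -/
theorem gen {q o : ℕ} (hq : 2 ≤ q) (hcard : (Nat.card S : ℤ) = P4 q) (hout : Nat.card (Cfsg.Out S) = o)
    {N12 N8 : ℕ} (hN12 : (N12 : ℤ) = 1 - (q : ℤ) ^ 2 + (q : ℤ) ^ 4) (h12 : Iso S N12 N12) (hN8 : N8 ∣ q ^ 4 + 1)
    (h8 : Iso S (q ^ 4 + 1) N8) (hi8 : (q ^ 2 + q) * (8 * o) < N8 - 1)
    (hi12 : (q ^ 2 + q) * (12 * o) + q ^ 2 < q ^ 4) : Row S := by
  intro p hp h5 hd
  have hP : Prime (p : ℤ) := Nat.prime_iff_prime_int.1 hp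
  have hd' : (p : ℤ) ^ 2 ∣ P4 q := by rw [← hcard]; exact_mod_cast hd
  have hb : p ≤ q ^ 2 + q + 1 := by
    have := bound (by exact_mod_cast hq) hP hd'
    exact_mod_cast this
  have hb' : p - 1 ≤ q ^ 2 + q := by omega
  by_cases h : p ∣ N8
  · have h12' : ¬ p ∣ N12 := by
      intro h2
      have h3 : (p : ℤ) ∣ (q : ℤ) ^ 4 + 1 := by exact_mod_cast h.trans hN8
      have h4 : (p : ℤ) ∣ 1 - (q : ℤ) ^ 2 + (q : ℤ) ^ 4 := by rw [← hN12]; exact_mod_cast h2
      have h5 := dvd_sub h3 h4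
      rw [show (q : ℤ) ^ 4 + 1 - (1 - (q : ℤ) ^ 2 + (q : ℤ) ^ 4) = (q : ℤ) ^ 2 by ring] at h5
      have h6 := (hP.dvd_of_dvd_pow h5).trans (dvd_pow_self (q : ℤ) (show 4 ≠ 0 by norm_num))
      have h7 := dvd_sub h3 h6
      rw [add_sub_cancel_left] at h7
      exact hP.not_dvd_one h7
    refine reg_of_torus h12' (h12.mo' (mod12 hq hN12 hcard) hout.le dvd_rfl ?_)
    have h6 : N12 + q ^ 2 = q ^ 4 + 1 := by
      have : ((N12 + q ^ 2 : ℕ) : ℤ) = ((q ^ 4 + 1 : ℕ) : ℤ) := by push_cast; rw [hN12]; ring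
      exact_mod_cast this
    have h7 := Nat.mul_le_mul_right (12 * o) hb'
    omega
  · exact reg_of_torus h (h8.mo' (mod8 hcard hN8) hout.le dvd_rfl
      (lt_of_le_of_lt (Nat.mul_le_mul_right _ hb') hi8))

/-- **the row of `F₄(q)`** -/
theorem row {q ℓ f : ℕ} (hℓ : ℓ.Prime) (hf : 1 ≤ f) (hq : q = ℓ ^ f)
    (hcard : (Nat.card S : ℤ) = P4 q) (hout : Nat.card (Cfsg.Out S) = Nat.gcd 2 ℓ * f)
    {N12 : ℕ} (hN12 : (N12 : ℤ) = 1 - (q : ℤ) ^ 2 + (q : ℤ) ^ 4) (h12 : Iso S N12 N12)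
    (h8 : Iso S (q ^ 4 + 1) ((q ^ 4 + 1) / Nat.gcd 2 (q - 1))) (h4 : q = 2 → HasOrd S 4) : Row S := by
  have hq2 := two_le_of hℓ hf hq
  rcases two_or_three hℓ hq with ⟨rfl, hq'⟩ | ⟨hne, h3, hodd⟩
  · rw [Nat.gcd_self] at hout
    have heven : Nat.gcd 2 (q - 1) = 1 := by
      rw [hq']
      obtain ⟨k, rfl⟩ : ∃ k, f = k + 1 := ⟨f - 1, by omega⟩
      have : 1 ≤ 2 ^ k := Nat.one_le_two_pow
      refine (Nat.Prime.coprime_iff_not_dvd Nat.prime_two).2 ?_
      rw [pow_succ]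
      omega
    rw [heven, Nat.div_one] at h8
    by_cases hf4 : 4 ≤ f
    · have h1 := four_mul_le hf4
      rw [← hq'] at h1
      have hq16 : 16 ≤ q := by
        rw [hq']
        calc 16 = 2 ^ 4 := by norm_num
          _ ≤ 2 ^ f := Nat.pow_le_pow_right (by norm_num) hf4
      refine gen hq2 hcard hout hN12 h12 dvd_rfl h8 ?_ ?_
      · have h2 : (q ^ 2 + q) * (8 * (2 * f)) < q ^ 4 := by
          calc (q ^ 2 + q) * (8 * (2 * f)) = (q ^ 2 + q) * (4 * (4 * f)) := by ring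
            _ ≤ (q ^ 2 + q) * (4 * q) := by gcongr
            _ < q ^ 4 := by nlinarith [mul_pos (show 0 < q by omega) (show 0 < q by omega)]
        omega
      · calc (q ^ 2 + q) * (12 * (2 * f)) + q ^ 2 = (q ^ 2 + q) * (6 * (4 * f)) + q ^ 2 := by ring
          _ ≤ (q ^ 2 + q) * (6 * q) + q ^ 2 := by gcongr
          _ < q ^ 4 := by nlinarith [mul_pos (show 0 < q by omega) (show 0 < q by omega)]
    · interval_cases f
      · norm_num at hq'
        subst hq'
        exact two (by exact_mod_cast hcard) (h4 rfl)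
      · norm_num at hq'
        subst hq'
        have : N12 = 241 := by
          have : (N12 : ℤ) = 241 := by rw [hN12]; norm_num
          exact_mod_cast this
        subst this
        exact four (by exact_mod_cast hcard) (by rw [hout]) h12 h8
      · norm_num at hq'
        subst hq'
        exact eight (by exact_mod_cast hcard) (by rw [hout]) h8
  · have hg : Nat.gcd 2 ℓ = 1 := (Nat.Prime.coprime_iff_not_dvd Nat.prime_two).2 fun h =>
      hne ((Nat.prime_dvd_prime_iff_eq Nat.prime_two hℓ).1 h).symm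
    rw [hg, one_mul] at hout
    have hg2 : Nat.gcd 2 (q - 1) = 2 := by
      refine Nat.gcd_eq_left ?_
      obtain ⟨k, rfl⟩ := hodd
      omega
    rw [hg2] at h8
    have hdvd : (q ^ 4 + 1) / 2 ∣ q ^ 4 + 1 := by
      refine Nat.div_dvd_of_dvd ?_
      have : Even (q ^ 4 + 1) := (hodd.pow).add_one
      exact this.two_dvd
    by_cases hq3 : q = 3
    · subst hq3
      have hf1 : f = 1 := by
        by_contra hf1
        have : 3 ^ 2 ≤ 3 ^ f := Nat.pow_le_pow_right (by norm_num) (by omega)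
        omega
      have : N12 = 73 := by
        have : (N12 : ℤ) = 73 := by rw [hN12]; norm_num
        exact_mod_cast this
      subst this
      exact three (by exact_mod_cast hcard) (by rw [hout, hf1]) h12 h8
    · have hq5 : 5 ≤ q := by
        rcases hodd with ⟨k, rfl⟩
        omega
      have hfq : 9 * f ≤ 2 * q ∨ f = 1 := by
        by_cases hf1 : f = 1
        · exact Or.inr hf1
        · exact Or.inl ((nine_mul_le (by omega)).trans (Nat.mul_le_mul_left 2 h3))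
      refine gen hq2 hcard hout hN12 h12 hdvd h8 ?_ ?_
      · have h2 : (q ^ 2 + q) * (16 * f) + 2 < q ^ 4 := by
          rcases hfq with h | rfl
          · nlinarith [mul_pos (show 0 < q by omega) (show 0 < q by omega), pow_pos (show 0 < q by omega) 3]
          · nlinarith [mul_pos (show 0 < q by omega) (show 0 < q by omega), pow_pos (show 0 < q by omega) 3]
        have h3 : (q ^ 2 + q) * (8 * f) * 2 = (q ^ 2 + q) * (16 * f) := by ring
        omega
      · rcases hfq with h | rfl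
        · nlinarith [mul_pos (show 0 < q by omega) (show 0 < q by omega), pow_pos (show 0 < q by omega) 3]
        · nlinarith [mul_pos (show 0 < q by omega) (show 0 < q by omega), pow_pos (show 0 < q by omega) 3]

end Cfsg.Agent.H92.PRegF4
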