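import Cfsg.Agent.H92.PRegE6

/-!
# `²E₆(q)`: the number theory, general case (helper92, for S4883)
-/

set_option autoImplicit false
set_option linter.unusedSectionVars false

namespace Cfsg.Agent.H92.PRegE6

open Cfsg.Agent.H93.PReg Cfsg.Agent.H92.PRegT Cfsg.Agent.H92.KTools Cfsg.Agent.H92.PRegNum

universe u

variable {S : Type u} [Group S] [Finite S]

/-- the general case of `²E₆(q)` -/
theorem te6_gen {q g f m N3 N12 t : ℕ} (hq : 3 ≤ q) (hf : 1 ≤ f) (hg : g = 1 ∨ g = 3)
    (hcard : (g : ℤ) * Nat.card S = P6 (-(q : ℤ))) (hout : Nat.card (Cfsg.Out S) = 2 * g * f)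
    (hm : ((g * m : ℕ) : ℤ) = (-(q : ℤ)) ^ 6 + (-(q : ℤ)) ^ 3 + 1) (h9 : Iso S m m)
    (hN3 : (N3 : ℤ) = (-(q : ℤ)) ^ 2 + (-(q : ℤ)) + 1) (hN12 : (N12 : ℤ) = (-(q : ℤ)) ^ 4 - (-(q : ℤ)) ^ 2 + 1)
    (h1 : N3 * N12 ∣ g * t) (h2 : t ∣ N3 * N12) (hcox : Iso S t N12)
    (hiA : (q ^ 2 + q) * (18 * g ^ 2 * f) + g + q ^ 3 < q ^ 6 + 1)
    (hiB : (24 * g ^ 2 * f ≤ q ^ 2 * (q - 1)) ∨ Squarefree (g * m)) :
    Row S := by
  intro p hp h5 hd
  have hm' : g * m + q ^ 3 = q ^ 6 + 1 := by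
    have : ((g * m + q ^ 3 : ℕ) : ℤ) = ((q ^ 6 + 1 : ℕ) : ℤ) := by
      rw [Nat.cast_add, hm]; push_cast; ring
    exact_mod_cast this
  have hq36 : q ^ 3 ≤ q ^ 6 := Nat.pow_le_pow_right (by omega) (by norm_num)
  have hm0 : 0 < m := Nat.pos_of_ne_zero (by rintro rfl; omega)
  have hP : Prime (p : ℤ) := Nat.prime_iff_prime_int.1 hp
  have hd' : (p : ℤ) ^ 2 ∣ P6 (-(q : ℤ)) := by
    rw [← hcard]
    exact dvd_mul_of_dvd_right (by exact_mod_cast hd) _
  have hg0 : 0 < g := by rcases hg with rfl | rfl <;> norm_num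
  by_cases hpm : p ∣ m
  · have h99 : (p : ℤ) ∣ (-(q : ℤ)) ^ 6 + (-(q : ℤ)) ^ 3 + 1 := by
      rw [← hm]; exact_mod_cast hpm.mul_left g
    have h98 := sq_of hP (by exact_mod_cast h5) hd' h99
    rw [← hm] at h98
    rcases hiB with hiB | hsf
    swap
    · exact absurd h98 (nsq hp hsf)
    refine caseB hg hcard hN3 hN12 h1 h2 hcox hout hp h5 h99 ?_
    have h97 : p ^ 2 ≤ g * m := Nat.le_of_dvd (Nat.mul_pos hg0 hm0) (by exact_mod_cast h98)
    have h96 : p ≤ q ^ 3 := by
      by_contra hlt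
      push Not at hlt
      have : (q ^ 3 + 1) ^ 2 ≤ p ^ 2 := Nat.pow_le_pow_left hlt 2
      have hq3 : 0 < q ^ 3 := by positivity
      nlinarith
    have hN3' : N3 + q = q ^ 2 + 1 := by
      have : ((N3 + q : ℕ) : ℤ) = ((q ^ 2 + 1 : ℕ) : ℤ) := by push_cast; rw [hN3]; ring
      exact_mod_cast this
    have hN12' : N12 - 1 + q ^ 2 = q ^ 4 := by
      have : N12 + q ^ 2 = q ^ 4 + 1 := by
        have : ((N12 + q ^ 2 : ℕ) : ℤ) = ((q ^ 4 + 1 : ℕ) : ℤ) := by push_cast; rw [hN12]; ring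
        exact_mod_cast this
      have h3 : q ^ 2 ≤ q ^ 4 := Nat.pow_le_pow_right (by omega) (by norm_num)
      omega
    obtain ⟨a, rfl⟩ : ∃ a, q = a + 1 := ⟨q - 1, by omega⟩
    have ha : 0 < a := by omega
    rw [Nat.add_sub_cancel] at hiB
    have e1 : N12 - 1 = (a + 1) ^ 2 * (a * (a + 1 + 1)) := by
      have : N12 - 1 + (a + 1) ^ 2 = (a + 1) ^ 2 * (a * (a + 1 + 1)) + (a + 1) ^ 2 := by rw [hN12']; ring
      omega
    have e3 : N3 = a ^ 2 + a + 1 := by
      have : N3 + (a + 1) = a ^ 2 + a + 1 + (a + 1) := by rw [hN3']; ring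
      omega
    rw [e1, e3]
    have h95 : p - 1 < (a + 1) ^ 3 + 1 := by omega
    have e4 : (a + 1) ^ 3 + 1 = (a + 2) * (a ^ 2 + a + 1) := by ring
    rw [e4] at h95
    have hpos : 0 < 24 * g ^ 2 * f := by positivity
    calc (p - 1) * (24 * g ^ 2 * f) < (a + 2) * (a ^ 2 + a + 1) * (24 * g ^ 2 * f) := by gcongr
      _ ≤ (a + 2) * (a ^ 2 + a + 1) * ((a + 1) ^ 2 * a) := by gcongr
      _ = _ := by ring
  · refine caseA (q := q) (by omega) (Or.inr rfl) hg hm0 hcard hm h9 hout hp h5 hd hpm ?_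
    have h3 : (q ^ 2 + q) * (9 * (2 * g * f)) * g + g < m * g := by
      have : (q ^ 2 + q) * (9 * (2 * g * f)) * g + g = (q ^ 2 + q) * (18 * g ^ 2 * f) + g := by ring
      rw [mul_comm m g, this]
      omega
    have h4 : ((q ^ 2 + q) * (9 * (2 * g * f)) + 1) * g < m * g := by
      calc _ = (q ^ 2 + q) * (9 * (2 * g * f)) * g + g := by ring
        _ < _ := h3
    have h5 := lt_of_mul_lt_mul_right h4 (Nat.zero_le g)
    omega

/-- **the row of `²E₆(q)`** -/
theorem te6_row {q ℓ f m N3 N12 t : ℕ} (hℓ : ℓ.Prime) (hf : 1 ≤ f) (hq : q = ℓ ^ f)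
    (hcard : (Nat.gcd 3 (q + 1) : ℤ) * Nat.card S = P6 (-(q : ℤ)))
    (hout : Nat.card (Cfsg.Out S) = 2 * Nat.gcd 3 (q + 1) * f)
    (hm : ((Nat.gcd 3 (q + 1) * m : ℕ) : ℤ) = (-(q : ℤ)) ^ 6 + (-(q : ℤ)) ^ 3 + 1) (h9 : Iso S m m)
    (hN3 : (N3 : ℤ) = (-(q : ℤ)) ^ 2 + (-(q : ℤ)) + 1) (hN12 : (N12 : ℤ) = (-(q : ℤ)) ^ 4 - (-(q : ℤ)) ^ 2 + 1)
    (h1 : N3 * N12 ∣ Nat.gcd 3 (q + 1) * t) (h2 : t ∣ N3 * N12) (hcox : Iso S t N12) : Row S := by
  have hq2 := two_le_of hℓ hf hq
  have hfq : 2 ^ f ≤ q := by rw [hq]; exact Nat.pow_le_pow_left hℓ.two_le f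
  have hf1 := lt_two_pow' f
  have hfq' : f + 1 ≤ q := hf1.trans hfq
  have h6 : q ^ 6 = q ^ 3 * q ^ 3 := by ring
  rcases gcd3_cases (q + 1) with ⟨hg, hn⟩ | ⟨hg, hn⟩
  · rw [hg] at hcard hout hm h1
    have hq3 : 3 ≤ q := by
      by_contra h
      have : q = 2 := by omega
      subst this
      exact hn (by norm_num)
    refine te6_gen hq3 hf (Or.inl rfl) hcard hout hm h9 hN3 hN12 h1 h2 hcox ?_ ?_
    · have h27 : 27 ≤ q ^ 3 := by
        calc 27 = 3 ^ 3 := by norm_num
          _ ≤ q ^ 3 := Nat.pow_le_pow_left hq3 3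
      have h28 : (q ^ 2 + q) * (18 * 1 ^ 2 * f) + 1 ≤ 18 * q ^ 3 := by
        have : (q ^ 2 + q) * (18 * 1 ^ 2 * f) ≤ (q ^ 2 + q) * (18 * 1 ^ 2 * (q - 1)) := by gcongr; omega
        obtain ⟨a, rfl⟩ : ∃ a, q = a + 1 := ⟨q - 1, by omega⟩
        rw [Nat.add_sub_cancel] at this
        nlinarith
      rw [h6]
      nlinarith
    · by_cases h3 : q = 3
      · subst h3
        right
        have : m = 703 := by
          have : ((1 * m : ℕ) : ℤ) = ((703 : ℕ) : ℤ) := by rw [hm]; norm_num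
          have : 1 * m = 703 := by exact_mod_cast this
          omega
        subst this
        decide +kernel
      · left
        obtain ⟨a, rfl⟩ : ∃ a, q = a + 1 := ⟨q - 1, by omega⟩
        rw [Nat.add_sub_cancel]
        rcases Nat.lt_or_ge f 3 with hf3 | hf3
        · have : 24 * 1 ^ 2 * f ≤ 48 := by omega
          nlinarith [show 3 ≤ a by omega]
        · have : 8 ≤ a + 1 := by
            refine le_trans ?_ hfq
            calc 8 = 2 ^ 3 := by norm_num
              _ ≤ 2 ^ f := Nat.pow_le_pow_right (by norm_num) hf3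
          nlinarith
  · rw [hg] at hcard hout hm h1
    by_cases h2' : q = 2
    · subst h2'
      exact te6_two (by exact_mod_cast hcard)
    · have hq5 : 5 ≤ q := by
        by_contra h
        interval_cases q <;> omega
      refine te6_gen (by omega) hf (Or.inr rfl) hcard hout hm h9 hN3 hN12 h1 h2 hcox ?_ ?_
      · have h27 : 125 ≤ q ^ 3 := by
          calc 125 = 5 ^ 3 := by norm_num
            _ ≤ q ^ 3 := Nat.pow_le_pow_left hq5 3
        rcases Nat.lt_or_ge f 3 with hf3 | hf3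
        · have h28 : (q ^ 2 + q) * (18 * 3 ^ 2 * f) ≤ 324 * (q ^ 2 + q) := by
            calc (q ^ 2 + q) * (18 * 3 ^ 2 * f) ≤ (q ^ 2 + q) * (18 * 3 ^ 2 * 2) := by gcongr; omega
              _ = _ := by ring
          have h29 : 5 * q ^ 2 ≤ q ^ 3 := by
            calc 5 * q ^ 2 ≤ q * q ^ 2 := by gcongr
              _ = q ^ 3 := by ring
          have h30 : 5 * q ≤ q ^ 2 := by
            calc 5 * q ≤ q * q := by gcongr
              _ = q ^ 2 := by ring
          have h31 : 125 * q ^ 3 ≤ q ^ 3 * q ^ 3 := by gcongr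
          rw [h6]
          omega
        · have h8 : 8 ≤ q := by
            refine le_trans ?_ hfq
            calc 8 = 2 ^ 3 := by norm_num
              _ ≤ 2 ^ f := Nat.pow_le_pow_right (by norm_num) hf3
          have h512 : 512 ≤ q ^ 3 := by
            calc 512 = 8 ^ 3 := by norm_num
              _ ≤ q ^ 3 := Nat.pow_le_pow_left h8 3
          have h28 : (q ^ 2 + q) * (18 * 3 ^ 2 * f) + 3 ≤ 162 * q ^ 3 := by
            have : (q ^ 2 + q) * (18 * 3 ^ 2 * f) ≤ (q ^ 2 + q) * (18 * 3 ^ 2 * (q - 1)) := by gcongr; omega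
            have h32 : (q ^ 2 + q) * (18 * 3 ^ 2 * (q - 1)) + 162 * q = 162 * q ^ 3 := by
              obtain ⟨a, rfl⟩ : ∃ a, q = a + 1 := ⟨q - 1, by omega⟩
              rw [Nat.add_sub_cancel]
              ring
            omega
          have h31 : 512 * q ^ 3 ≤ q ^ 3 * q ^ 3 := by gcongr
          rw [h6]
          omega
      · by_cases h5 : q = 5
        · subst h5
          right
          have : 3 * m = 15501 := by
            have : ((3 * m : ℕ) : ℤ) = ((15501 : ℕ) : ℤ) := by rw [hm]; norm_num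
            exact_mod_cast this
          rw [this]
          decide +kernel
        · by_cases h8 : q = 8
          · subst h8
            right
            have : 3 * m = 261633 := by
              have : ((3 * m : ℕ) : ℤ) = ((261633 : ℕ) : ℤ) := by rw [hm]; norm_num
              exact_mod_cast this
            rw [this]
            decide +kernel
          · left
            have h11 : 11 ≤ q := by
              by_contra h
              push Not at h
              interval_cases q <;> omega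
            obtain ⟨a, rfl⟩ : ∃ a, q = a + 1 := ⟨q - 1, by omega⟩
            rw [Nat.add_sub_cancel]
            rcases Nat.lt_or_ge f 4 with hf4 | hf4
            · have : 11 ^ 2 * 10 ≤ (a + 1) ^ 2 * a := Nat.mul_le_mul (Nat.pow_le_pow_left h11 2) (by omega)
              omega
            · have h1 := four_mul_le hf4
              have h110 : 11 * 10 ≤ (a + 1) * a := Nat.mul_le_mul h11 (by omega)
              calc 24 * 3 ^ 2 * f ≤ (a + 1) * 110 := by
                    have := h1.trans hfq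
                    omega
                _ ≤ (a + 1) * ((a + 1) * a) := by gcongr
                _ = (a + 1) ^ 2 * a := by ring

end Cfsg.Agent.H92.PRegE6
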