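import Cfsg.Agent.H436.Names
import Cfsg.Agent.H129.CycRow
import Cfsg.Agent.H129.DataE6
import Cfsg.Agent.S1062
import Cfsg.Agent.S1063
import Cfsg.Agent.S1064
import Cfsg.Agent.S1065
import Cfsg.Agent.S1066
import Cfsg.Agent.S2122
import Cfsg.Agent.S2123
import Cfsg.Agent.S2124
import Cfsg.Agent.S2125
import Cfsg.Agent.S2130
import Cfsg.Agent.H92.PRegF4
import Cfsg.Agent.H92.PRegTE6
import Cfsg.Agent.H92.PRegE7R
import Cfsg.Agent.H92.PRegE8R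
import Cfsg.Agent.H92.ExcF4Two

/-!
# The rows `F₄`, `E₆`, `²E₆`, `E₇`, `E₈` of S4883 (helper92)
-/

set_option autoImplicit false
set_option linter.unusedSectionVars false

namespace Cfsg.Agent.H92.PRegRows

open CoxeterSystem Cfsg Cfsg.Lie Cfsg.Lie.ChevalleyDatum
open Cfsg.Agent.ChevalleyStructure Cfsg.Agent.ChevalleyStructure.Elts Cfsg.Agent.ChevalleyStructure.CoxeterGeom
  Cfsg.Agent.ChevalleyStructure.CoxeterGeomTypes Cfsg.Agent.ChevalleyStructure.NPerm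
open Cfsg.Agent.Tits.Roots Cfsg.Agent.Tits.Core Cfsg.Agent.Nodes Cfsg.Agent.Nodes.Reps Cfsg.Agent.Nodes.BNOf
  Cfsg.Agent.Nodes.RGDChev Cfsg.Agent.Nodes.Bruhat Cfsg.Agent.Nodes.SubComb Cfsg.Agent.Nodes.Coroot
open Cfsg.Agent.H129 Cfsg.Agent.H129.TorusChar Cfsg.Agent.H129.TorusTw Cfsg.Agent.H129.WData Cfsg.Agent.H129.TorAct
  Cfsg.Agent.H129.RealT Cfsg.Agent.H129.CycT
open Cfsg.Agent.H93.PReg Cfsg.Agent.H92.PRegT Cfsg.Agent.H92.KTools Cfsg.Agent.H436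

universe u

theorem iso_of_exact {G : Type*} [Group G] {m : ℕ} (h : CycExact G m) : Iso G m m := by
  obtain ⟨T, h1, h2, h3⟩ := h
  refine ⟨T, h1, h2, dvd_rfl, fun r hr _ y hy hyr => (h3 y hy ?_).le⟩
  rintro rfl
  rw [orderOf_one] at hyr
  exact hr.one_lt.ne hyr

theorem exists_charP {F : Type u} [Field F] [Fintype F] : ∃ p n : ℕ, p.Prime ∧ CharP F p ∧ 1 ≤ n ∧ Fintype.card F = p ^ n := by
  obtain ⟨p, hp⟩ := CharP.exists F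
  obtain ⟨n, hpr, hn⟩ := FiniteField.card F p
  exact ⟨p, n, hpr, hp, n.2, hn⟩

theorem cast_pow_sub {q : ℕ} (hq : 2 ≤ q) (d : ℕ) : ((q ^ d - 1 : ℕ) : ℤ) = (q : ℤ) ^ d - 1 := by
  rw [Nat.cast_sub (Nat.one_le_pow _ _ (by omega))]
  push_cast; rfl

section Untw

variable {F : Type u} [Field F] [Fintype F] {q : ℕ}

/-! ### `F₄` -/

theorem iso_F4_8 (hq : Fintype.card F = q) :
    Iso ↥(chevF4.group F) (q ^ 4 + 1) ((q ^ 4 + 1) / Nat.gcd 2 (q - 1)) := by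
  have hq2 : 2 ≤ q := by rw [← hq]; exact Fintype.one_lt_card
  have hN : ((q ^ 4 + 1 : ℕ) : ℤ) = 1 + (q : ℤ) ^ 4 := by push_cast; ring
  by_cases h2 : 2 ∣ q - 1
  · rw [Nat.gcd_eq_left h2]
    have : Finite CoxeterMatrix.F₄.Group := Nat.finite_of_card_ne_zero (by rw [cardW_F4]; norm_num)
    obtain ⟨T, h1, h3, h4, h5, -⟩ := UntwT.untw_T typeF4 CoxeterMatrix.F₄.toCoxeterSystem (by norm_num) hq
      TorusChar.invC_F4 one_ne_zero DataF4.hA DataF4.chainOK DataF4.cycOK DataF4.rootOK (N := q ^ 4 + 1)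
      (by rw [DataF4.fN_eq, hN]) (UntwData.coprime_of_eq (a := (q : ℤ) ^ 3) (by rw [hN]; ring)) (d := 1) (Or.inl rfl)
    have hcard : Nat.card ↥T = q ^ 4 + 1 := Nat.dvd_antisymm h3 (by rwa [one_mul] at h4)
    have h2N : 2 ∣ q ^ 4 + 1 := by
      obtain ⟨k, hk⟩ := h2
      have : q = 2 * k + 1 := by omega
      exact ⟨8 * k ^ 4 + 16 * k ^ 3 + 12 * k ^ 2 + 4 * k + 1, by rw [this]; ring⟩
    refine ⟨T, h1, hcard, Nat.div_dvd_of_dvd h2N, fun r hr hrN y hy hyr => ?_⟩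
    have hr2 : r ≠ 2 := by
      rintro rfl
      obtain ⟨k, hk⟩ := h2
      have h6 : q = 2 * k + 1 := by omega
      have h7 : (q ^ 4 + 1) / 2 = 2 * (4 * k ^ 4 + 8 * k ^ 3 + 6 * k ^ 2 + 2 * k) + 1 := by
        rw [h6]
        apply Nat.div_eq_of_eq_mul_right (by norm_num)
        ring
      rw [h7] at hrN
      omega
    have hrN' : r ∣ q ^ 4 + 1 := hrN.trans (Nat.div_dvd_of_dvd h2N)
    exact h5 r hr (good_F4_8 hN hr hrN' hr2).1 (good_F4_8 hN hr hrN' hr2).2 y hy hyr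
  · have hg : Nat.gcd 2 (q - 1) = 1 := (Nat.Prime.coprime_iff_not_dvd Nat.prime_two).2 h2
    rw [hg, Nat.div_one]
    refine iso_of_exact (exact_F4_8 hq hN fun h => ?_)
    have h3 : q % 2 = 0 := by omega
    obtain ⟨k, hk⟩ : ∃ k, q = 2 * k := ⟨q / 2, by omega⟩
    have h4 : q ^ 4 + 1 = 2 * (8 * k ^ 4) + 1 := by rw [hk]; ring
    omega

theorem f4_aux (hF : Fintype.card F = q) : Row ↥(chevF4.group F) := by
  obtain ⟨p, f, hp, hc, hf, hcard⟩ := exists_charP (F := F)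
  have : Fact p.Prime := ⟨hp⟩
  have hq : q = p ^ f := hF.symm.trans hcard
  have hq2 : 2 ≤ q := by rw [← hF]; exact Fintype.one_lt_card
  have h1 := S1062.result hF
  have h2 := S2122.result p f hcard
  obtain ⟨N12, hN12⟩ : ∃ N12 : ℕ, (N12 : ℤ) = 1 - (q : ℤ) ^ 2 + (q : ℤ) ^ 4 := by
    refine ⟨(1 - (q : ℤ) ^ 2 + (q : ℤ) ^ 4).toNat, Int.toNat_of_nonneg ?_⟩
    nlinarith [sq_nonneg ((q : ℤ) ^ 2 - 1), sq_nonneg (q : ℤ)]
  refine PRegF4.row hp hf hq ?_ h2 hN12 (iso_of_exact (exact_F4_12 hF hN12)) (iso_F4_8 hF) ?_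
  · rw [h1]
    simp only [Nat.cast_mul, cast_pow_sub hq2]
    unfold PRegF4.P4
    push_cast; ring
  · intro h
    have h2 : p = 2 := by
      have : p ∣ q := by rw [hq]; exact dvd_pow_self p (by omega)
      rw [h] at this
      exact (Nat.prime_dvd_prime_iff_eq hp Nat.prime_two).1 this
    subst h2
    exact (ExcF4Two.hasOrd (F := F) ExcF4Two.o20).of_dvd (by norm_num) (by norm_num)

/-! ### `E₆` -/

theorem five_12 {N : ℕ} (hN : (N : ℤ) = 1 - (q : ℤ) ^ 2 + (q : ℤ) ^ 4) {r : ℕ} (hrN : r ∣ N) : r ≠ 5 := by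
  rintro rfl
  have hz : (1 - (q : ZMod 5) ^ 2 + (q : ZMod 5) ^ 4 = 0) := by
    have := zmod_of_dvd hN hrN
    push_cast at this
    exact this
  generalize (q : ZMod 5) = x at hz; revert hz; revert x; decide

theorem cox_E6 (hq : Fintype.card F = q) {N3 N12 : ℕ} (hN3 : (N3 : ℤ) = (q : ℤ) ^ 2 + (q : ℤ) + 1)
    (hN12 : (N12 : ℤ) = (q : ℤ) ^ 4 - (q : ℤ) ^ 2 + 1) :
    ∃ t, N3 * N12 ∣ Nat.gcd 3 (q - 1) * t ∧ t ∣ N3 * N12 ∧ Iso ↥(chevE6.group F) t N12 := by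
  have := TwT.finite_W6
  have hq2 : 2 ≤ q := by rw [← hq]; exact Fintype.one_lt_card
  have hN12' : (N12 : ℤ) = 1 - (q : ℤ) ^ 2 + (q : ℤ) ^ 4 := by rw [hN12]; ring
  have hN : ((N3 * N12 : ℕ) : ℤ) = 1 + (q : ℤ) - (q : ℤ) ^ 3 + (q : ℤ) ^ 5 + (q : ℤ) ^ 6 := by
    push_cast; rw [hN3, hN12]; ring
  obtain ⟨T, h1, h3, h4, h5, -⟩ := UntwT.untw_T typeE6 CoxeterMatrix.E₆.toCoxeterSystem (by norm_num) hq
    TorusChar.invC_E6 (by norm_num) DataE6.hA DataE6.chainOK DataE6.cycOK DataE6.rootOK (N := N3 * N12)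
    (by rw [DataE6.fN_eq, hN])
    (UntwData.coprime_of_eq (a := 1 - (q : ℤ) ^ 2 + (q : ℤ) ^ 4 + (q : ℤ) ^ 5) (by rw [hN]; ring)) (d := 3)
    (Or.inl rfl)
  have h312 : Nat.Coprime N12 3 := coprime_of_ne Nat.prime_three fun h => (primes_12 hN12' h).2 rfl
  have h12t : N12 ∣ Nat.card ↥T := h312.dvd_of_dvd_mul_left ((dvd_mul_left N12 N3).trans h4)
  refine ⟨Nat.card ↥T, ?_, h3, T, h1, rfl, h12t, fun r hr hrN y hy hyr => ?_⟩
  · by_cases hd : 3 ∣ q - 1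
    · rw [Nat.gcd_eq_left hd]; exact h4
    · rw [(Nat.Prime.coprime_iff_not_dvd Nat.prime_three).2 hd, one_mul]
      refine Nat.Coprime.dvd_of_dvd_mul_left (coprime_of_ne Nat.prime_three fun h => ?_) h4
      have h6 : (1 + (q : ZMod 3) - (q : ZMod 3) ^ 3 + (q : ZMod 3) ^ 5 + (q : ZMod 3) ^ 6 = 0) := by
        have := zmod_of_dvd hN h
        push_cast at this
        exact this
      have h7 : (q : ZMod 3) = 1 := by
        generalize (q : ZMod 3) = x at h6 ⊢; revert h6; revert x; decide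
      apply hd
      rw [← ZMod.natCast_eq_zero_iff, Nat.cast_sub (by omega), h7]
      norm_num
  · obtain ⟨hr2, hr3⟩ := primes_12 hN12' hrN
    refine h5 r hr (not_dvd_W_E6 hr hr2 hr3 (five_12 hN12' hrN)) (fun s hs => ?_) y hy hyr
    rcases DataE6.dvd_of_G (cast_dvd hN12' hrN) s hs with h | h
    · exact not_one hr h
    · exact not_prime hr Nat.prime_two hr2 h

theorem e6_aux (hF : Fintype.card F = q) : Row ↥(chevE6.group F) := by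
  obtain ⟨p, f, hp, hc, hf, hcard⟩ := exists_charP (F := F)
  have : Fact p.Prime := ⟨hp⟩
  have hq : q = p ^ f := hF.symm.trans hcard
  have hq2 : 2 ≤ q := by rw [← hF]; exact Fintype.one_lt_card
  have h1 := S1063.result hF
  have h2 := S2123.result p f hcard
  rw [← hq] at h2
  obtain ⟨N3, hN3⟩ : ∃ N3 : ℕ, (N3 : ℤ) = (q : ℤ) ^ 2 + (q : ℤ) + 1 := ⟨q ^ 2 + q + 1, by push_cast; ring⟩
  obtain ⟨N12, hN12⟩ : ∃ N12 : ℕ, (N12 : ℤ) = (q : ℤ) ^ 4 - (q : ℤ) ^ 2 + 1 := by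
    refine ⟨((q : ℤ) ^ 4 - (q : ℤ) ^ 2 + 1).toNat, Int.toNat_of_nonneg ?_⟩
    nlinarith [sq_nonneg ((q : ℤ) ^ 2 - 1), sq_nonneg (q : ℤ)]
  obtain ⟨t, ht1, ht2, ht3⟩ := cox_E6 hF hN3 hN12
  have hN9 : ((q ^ 6 + q ^ 3 + 1 : ℕ) : ℤ) = 1 + (q : ℤ) ^ 3 + (q : ℤ) ^ 6 := by push_cast; ring
  have h9 := iso_of_exact (exact_E6_9 hF hN9)
  have hg : Nat.gcd 3 (q - 1) ∣ q ^ 6 + q ^ 3 + 1 := by
    by_cases hd : 3 ∣ q - 1
    · rw [Nat.gcd_eq_left hd]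
      obtain ⟨k, hk⟩ := hd
      have h3 : q = 3 * k + 1 := by omega
      rw [← Nat.modEq_zero_iff_dvd, h3]
      have h4 : 3 * k + 1 ≡ 1 [MOD 3] := by
        unfold Nat.ModEq; omega
      calc (3 * k + 1) ^ 6 + (3 * k + 1) ^ 3 + 1 ≡ 1 ^ 6 + 1 ^ 3 + 1 [MOD 3] :=
            ((h4.pow 6).add (h4.pow 3)).add rfl
        _ ≡ 0 [MOD 3] := by decide
    · rw [(Nat.Prime.coprime_iff_not_dvd Nat.prime_three).2 hd]; exact one_dvd _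
  refine PRegE6.e6_row hp hf hq ?_ h2 ?_ h9 hN3 hN12 ht1 ht2 ht3
  · have h3 := congrArg (Nat.cast : ℕ → ℤ) h1
    simp only [Nat.cast_mul, cast_pow_sub hq2] at h3
    rw [h3]
    unfold PRegE6.P6
    push_cast; ring
  · rw [Nat.mul_div_cancel' hg]
    push_cast; ring

/-! ### `E₇` -/

theorem iso_E7_7 (hq : Fintype.card F = q) {N : ℕ} (hN : (N : ℤ) = 1 + (q : ℤ) + (q : ℤ) ^ 2 + (q : ℤ) ^ 3 +
    (q : ℤ) ^ 4 + (q : ℤ) ^ 5 + (q : ℤ) ^ 6) :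
    ∃ t, (q - 1) * N ∣ Nat.gcd 2 (q - 1) * t ∧ t ∣ (q - 1) * N ∧
      ∀ n, n ∣ N → ¬ 7 ∣ n → Iso ↥(chevE7.group F) t n := by
  have := finite_W7
  have hq2 : 2 ≤ q := by rw [← hq]; exact Fintype.one_lt_card
  obtain ⟨h1, h2⟩ := fN_7 hq2 hN
  obtain ⟨T, h3, h4, h5, h6, -⟩ := UntwT.untw_T typeE7 CoxeterMatrix.E₇.toCoxeterSystem (by norm_num) hq
    TorusChar.invC_E7 (by norm_num) DataE7s.hA DataE7s.chainOK DataE7s.cycOK DataE7s.rootOK h1 h2 (d := 2) (Or.inl rfl)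
  have hodd : Nat.Coprime N 2 := coprime_of_ne Nat.prime_two fun h => (primes_7 hN h).1 rfl
  refine ⟨Nat.card ↥T, ?_, h4, fun n hn hn7 => ⟨T, h3, rfl, ?_, fun r hr hrn y hy hyr => ?_⟩⟩
  · by_cases hd : 2 ∣ q - 1
    · rw [Nat.gcd_eq_left hd]; exact h5
    · rw [(Nat.Prime.coprime_iff_not_dvd Nat.prime_two).2 hd, one_mul]
      exact Nat.Coprime.dvd_of_dvd_mul_left (Nat.Coprime.mul_left (coprime_of_ne Nat.prime_two hd) hodd) h5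
  · exact (Nat.Coprime.coprime_dvd_left hn hodd).dvd_of_dvd_mul_left ((hn.mul_left _).trans h5)
  · have hr7 : r ≠ 7 := by rintro rfl; exact hn7 hrn
    have hrN := hrn.trans hn
    exact h6 r hr (good_E7_7 hN hr hrN hr7).1 (good_E7_7 hN hr hrN hr7).2 y hy hyr

theorem iso_E7_9 (hq : Fintype.card F = q) {N : ℕ} (hN : (N : ℤ) = 1 + (q : ℤ) ^ 3 + (q : ℤ) ^ 6) :
    ∃ t, (q - 1) * N ∣ Nat.gcd 2 (q - 1) * t ∧ t ∣ (q - 1) * N ∧
      ∀ n, n ∣ N → ¬ 3 ∣ n → Iso ↥(chevE7.group F) t n := by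
  have := finite_W7
  have hq2 : 2 ≤ q := by rw [← hq]; exact Fintype.one_lt_card
  obtain ⟨h1, h2⟩ := fN_9 hq2 hN
  obtain ⟨T, h3, h4, h5, h6, -⟩ := UntwT.untw_T typeE7 CoxeterMatrix.E₇.toCoxeterSystem (by norm_num) hq
    TorusChar.invC_E7 (by norm_num) DataE7n.hA DataE7n.chainOK DataE7n.cycOK DataE7n.rootOK h1 h2 (d := 2) (Or.inl rfl)
  have hodd : Nat.Coprime N 2 := coprime_of_ne Nat.prime_two fun h => ((primes_9 hN).2 h).1 rfl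
  refine ⟨Nat.card ↥T, ?_, h4, fun n hn hn7 => ⟨T, h3, rfl, ?_, fun r hr hrn y hy hyr => ?_⟩⟩
  · by_cases hd : 2 ∣ q - 1
    · rw [Nat.gcd_eq_left hd]; exact h5
    · rw [(Nat.Prime.coprime_iff_not_dvd Nat.prime_two).2 hd, one_mul]
      exact Nat.Coprime.dvd_of_dvd_mul_left (Nat.Coprime.mul_left (coprime_of_ne Nat.prime_two hd) hodd) h5
  · exact (Nat.Coprime.coprime_dvd_left hn hodd).dvd_of_dvd_mul_left ((hn.mul_left _).trans h5)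
  · have hr3 : r ≠ 3 := by rintro rfl; exact hn7 hrn
    have hrN := hrn.trans hn
    exact h6 r hr (good_E7_9 hN hr hrN hr3).1 (good_E7_9 hN hr hrN hr3).2 y hy hyr

theorem e7_aux (hF : Fintype.card F = q) : Row ↥(chevE7.group F) := by
  obtain ⟨p, f, hp, hc, hf, hcard⟩ := exists_charP (F := F)
  have : Fact p.Prime := ⟨hp⟩
  have hq : q = p ^ f := hF.symm.trans hcard
  have hq2 : 2 ≤ q := by rw [← hF]; exact Fintype.one_lt_card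
  have h1 := S1064.result hF
  have h2 := S2124.result p f hcard
  rw [← hq] at h2
  have hN7 : ((1 + q + q ^ 2 + q ^ 3 + q ^ 4 + q ^ 5 + q ^ 6 : ℕ) : ℤ) = 1 + (q : ℤ) + (q : ℤ) ^ 2 + (q : ℤ) ^ 3 +
    (q : ℤ) ^ 4 + (q : ℤ) ^ 5 + (q : ℤ) ^ 6 := by push_cast; ring
  have hN9 : ((1 + q ^ 3 + q ^ 6 : ℕ) : ℤ) = 1 + (q : ℤ) ^ 3 + (q : ℤ) ^ 6 := by push_cast; ring
  obtain ⟨t7, a1, a2, a3⟩ := iso_E7_7 hF hN7
  obtain ⟨t9, b1, b2, b3⟩ := iso_E7_9 hF hN9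
  refine PRegE7.row hp hf hq ⟨hN7, hN9, a1, a2, a3, b1, b2, b3⟩ ?_ h2
  have h3 := congrArg (Nat.cast : ℕ → ℤ) h1
  simp only [Nat.cast_mul, cast_pow_sub hq2] at h3
  rw [h3]
  unfold PRegE7.P7
  push_cast; ring

/-! ### `E₈` -/

theorem e8_aux (hF : Fintype.card F = q) : Row ↥(chevE8.group F) := by
  obtain ⟨p, f, hp, hc, hf, hcard⟩ := exists_charP (F := F)
  have : Fact p.Prime := ⟨hp⟩
  have hq : q = p ^ f := hF.symm.trans hcard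
  have hq2 : 2 ≤ q := by rw [← hF]; exact Fintype.one_lt_card
  have h1 := S1065.result hF
  have h2 := S2125.result p f hcard
  have hz : (2 : ℤ) ≤ q := by exact_mod_cast hq2
  obtain ⟨a, ha⟩ : ∃ a : ℤ, (q : ℤ) = a + 2 := ⟨q - 2, by ring⟩
  have ha0 : 0 ≤ a := by omega
  obtain ⟨N24, hN24⟩ : ∃ N : ℕ, (N : ℤ) = 1 - (q : ℤ) ^ 4 + (q : ℤ) ^ 8 := by
    refine ⟨(1 - (q : ℤ) ^ 4 + (q : ℤ) ^ 8).toNat, Int.toNat_of_nonneg ?_⟩
    rw [ha]; ring_nf; positivity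
  obtain ⟨N30, hN30⟩ : ∃ N : ℕ, (N : ℤ) = 1 + (q : ℤ) - (q : ℤ) ^ 3 - (q : ℤ) ^ 4 - (q : ℤ) ^ 5 + (q : ℤ) ^ 7 + (q : ℤ) ^ 8 := by
    refine ⟨(1 + (q : ℤ) - (q : ℤ) ^ 3 - (q : ℤ) ^ 4 - (q : ℤ) ^ 5 + (q : ℤ) ^ 7 + (q : ℤ) ^ 8).toNat, Int.toNat_of_nonneg ?_⟩
    rw [ha]; ring_nf; positivity
  obtain ⟨N15, hN15⟩ : ∃ N : ℕ, (N : ℤ) = 1 - (q : ℤ) + (q : ℤ) ^ 3 - (q : ℤ) ^ 4 + (q : ℤ) ^ 5 - (q : ℤ) ^ 7 + (q : ℤ) ^ 8 := by
    refine ⟨(1 - (q : ℤ) + (q : ℤ) ^ 3 - (q : ℤ) ^ 4 + (q : ℤ) ^ 5 - (q : ℤ) ^ 7 + (q : ℤ) ^ 8).toNat, Int.toNat_of_nonneg ?_⟩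
    rw [ha]; ring_nf; positivity
  refine PRegE8.row hp hf hq ?_ h2 hN24 hN30 hN15 (iso_of_exact (exact_E8_24 hF hN24))
    (iso_of_exact (exact_E8_30 hF hN30)) (iso_of_exact (exact_E8_15 hF hN15))
  rw [h1]
  simp only [Nat.cast_mul, cast_pow_sub hq2]
  unfold PRegE8.P8
  push_cast; ring

end Untw

/-! ### `²E₆` -/

section Tw

variable {K : Type u} [Field K] [Fintype K] {q : ℕ}

theorem cox_tE6 (hq : IsPrimePow q) (hK : Fintype.card K = q ^ 2) {N3 N12 : ℕ}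
    (hN3 : (N3 : ℤ) = (-(q : ℤ)) ^ 2 + (-(q : ℤ)) + 1) (hN12 : (N12 : ℤ) = (-(q : ℤ)) ^ 4 - (-(q : ℤ)) ^ 2 + 1) :
    ∃ t, N3 * N12 ∣ Nat.gcd 3 (q + 1) * t ∧ t ∣ N3 * N12 ∧ Iso ↥(twistedE6 K q) t N12 := by
  have hN12' : (N12 : ℤ) = 1 - (q : ℤ) ^ 2 + (q : ℤ) ^ 4 := by rw [hN12]; ring
  have hM : ((N3 * N12 : ℕ) : ℤ) = 1 - (q : ℤ) + (q : ℤ) ^ 3 - (q : ℤ) ^ 5 + (q : ℤ) ^ 6 := by
    push_cast; rw [hN3, hN12]; ring
  obtain ⟨T, h1, h3, h4, h5, -⟩ := TwT.flip_T hq hK DataTE6c.hA DataTE6c.chainOK DataTE6c.hd_pi DataTE6c.cycOK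
    DataTE6c.rootOK DataTE6c.chain2OK DataTE6c.hd2_eq (N := N3 * N12) (by rw [DataTE6c.fN_eq, hM])
    (UntwData.coprime_of_eq (a := -1 + (q : ℤ) ^ 2 - (q : ℤ) ^ 4 + (q : ℤ) ^ 5) (by rw [hM]; ring))
  have h312 : Nat.Coprime N12 3 := coprime_of_ne Nat.prime_three fun h => (primes_12 hN12' h).2 rfl
  have h12t : N12 ∣ Nat.card ↥T :=
    (Nat.Coprime.coprime_dvd_right (Nat.gcd_dvd_left 3 (q + 1)) h312).dvd_of_dvd_mul_left
      ((dvd_mul_left N12 N3).trans h4)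
  refine ⟨Nat.card ↥T, h4, h3, T, h1, rfl, h12t, fun r hr hrN y hy hyr => ?_⟩
  obtain ⟨hr2, hr3⟩ := primes_12 hN12' hrN
  refine h5 r hr (not_dvd_W_E6 hr hr2 hr3 (five_12 hN12' hrN)) (fun s hs => ?_) y hy hyr
  rcases DataTE6c.dvd_of_G (cast_dvd hN12' hrN) s hs with h | h
  · exact not_one hr h
  · exact not_prime hr Nat.prime_two hr2 h

theorem te6_aux (hpp : IsPrimePow q) (hF : Fintype.card K = q ^ 2) : Row ↥(twistedE6 K q) := by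
  obtain ⟨p, f, hp, hf, hq⟩ := hpp
  rw [← Nat.prime_iff] at hp
  have hq' : q = p ^ f := hq.symm
  have : Fact p.Prime := ⟨hp⟩
  have hcard : Fintype.card K = p ^ (2 * f) := by rw [hF, hq', ← pow_mul, mul_comm]
  have hc : CharP K p := by
    obtain ⟨p', f', hp', hc', hf', hcard'⟩ := exists_charP (F := K)
    have h1 : p' ∣ p ^ (2 * f) := by rw [← hcard, hcard']; exact dvd_pow_self p' (by omega)
    have h2 := (Nat.prime_dvd_prime_iff_eq hp' hp).1 (hp'.dvd_of_dvd_pow h1)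
    rwa [h2] at hc'
  have hpp : IsPrimePow q := ⟨p, f, Nat.prime_iff.1 hp, hf, hq⟩
  have hq2 : 2 ≤ q := hpp.two_le
  have h1 := S1066.result hpp hF
  have h2 := S2130.result (K := K) p f hcard hf
  rw [hq] at h2
  have hz : (2 : ℤ) ≤ q := by exact_mod_cast hq2
  obtain ⟨N3, hN3⟩ : ∃ N3 : ℕ, (N3 : ℤ) = (-(q : ℤ)) ^ 2 + (-(q : ℤ)) + 1 := by
    refine ⟨((-(q : ℤ)) ^ 2 + (-(q : ℤ)) + 1).toNat, Int.toNat_of_nonneg ?_⟩
    nlinarith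
  obtain ⟨N12, hN12⟩ : ∃ N12 : ℕ, (N12 : ℤ) = (-(q : ℤ)) ^ 4 - (-(q : ℤ)) ^ 2 + 1 := by
    refine ⟨((-(q : ℤ)) ^ 4 - (-(q : ℤ)) ^ 2 + 1).toNat, Int.toNat_of_nonneg ?_⟩
    nlinarith [sq_nonneg ((q : ℤ) ^ 2 - 1), sq_nonneg (q : ℤ)]
  obtain ⟨t, ht1, ht2, ht3⟩ := cox_tE6 hpp hF hN3 hN12
  obtain ⟨N9, hN9⟩ : ∃ N : ℕ, (N : ℤ) = 1 - (q : ℤ) ^ 3 + (q : ℤ) ^ 6 := by
    refine ⟨(1 - (q : ℤ) ^ 3 + (q : ℤ) ^ 6).toNat, Int.toNat_of_nonneg ?_⟩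
    obtain ⟨a, ha⟩ : ∃ a : ℤ, (q : ℤ) = a + 2 := ⟨q - 2, by ring⟩
    have ha0 : 0 ≤ a := by omega
    rw [ha]; ring_nf; positivity
  have h9 := iso_of_exact (exact_tE6_18 hpp hF hN9)
  have hg : Nat.gcd 3 (q + 1) ∣ N9 := by
    by_cases hd : 3 ∣ q + 1
    · rw [Nat.gcd_eq_left hd]
      have hq3 : (q : ZMod 3) = 2 := by
        have h7 := (ZMod.natCast_eq_zero_iff (q + 1) 3).2 hd
        push_cast at h7
        rw [eq_neg_of_add_eq_zero_left h7]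
        decide
      rw [← ZMod.natCast_eq_zero_iff]
      have h7 : ((N9 : ℤ) : ZMod 3) = 0 := by
        rw [hN9]
        push_cast
        rw [hq3]
        decide
      exact_mod_cast h7
    · rw [(Nat.Prime.coprime_iff_not_dvd Nat.prime_three).2 hd]; exact one_dvd _
  refine PRegE6.te6_row hp hf hq' ?_ h2 ?_ h9 hN3 hN12 ht1 ht2 ht3
  · have h3 := congrArg (Nat.cast : ℕ → ℤ) h1
    simp only [Nat.cast_mul, cast_pow_sub hq2, Nat.cast_add, Nat.cast_one, Nat.cast_pow] at h3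
    rw [h3]
    unfold PRegE6.P6
    ring
  · rw [Nat.mul_div_cancel' hg, hN9]
    ring

end Tw

theorem row_f4 {S : Type u} [Group S] [Finite S] {q : ℕ} (h : IsNamed (.f4 q) S) : Row S := by
  obtain ⟨F, _, _, hF, ⟨e⟩⟩ := h.real
  exact (f4_aux hF).congr e.symm

theorem row_e6 {S : Type u} [Group S] [Finite S] {q : ℕ} (h : IsNamed (.e6 q) S) : Row S := by
  obtain ⟨F, _, _, hF, ⟨e⟩⟩ := h.real
  exact (e6_aux hF).congr e.symm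

theorem row_te6 {S : Type u} [Group S] [Finite S] {q : ℕ} (h : IsNamed (.te6 q) S) : Row S := by
  obtain ⟨F, _, _, hF, ⟨e⟩⟩ := h.real
  exact (te6_aux h.cond hF).congr e.symm

theorem row_e7 {S : Type u} [Group S] [Finite S] {q : ℕ} (h : IsNamed (.e7 q) S) : Row S := by
  obtain ⟨F, _, _, hF, ⟨e⟩⟩ := h.real
  exact (e7_aux hF).congr e.symm

theorem row_e8 {S : Type u} [Group S] [Finite S] {q : ℕ} (h : IsNamed (.e8 q) S) : Row S := by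
  obtain ⟨F, _, _, hF, ⟨e⟩⟩ := h.real
  exact (e8_aux hF).congr e.symm

end Cfsg.Agent.H92.PRegRows
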