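import Cfsg.Agent.H92.ExtCl
import Cfsg.Agent.H868.ExtAlt
import Cfsg.Agent.H36.ExtSpor
import Cfsg.Agent.H442.ExtExc
import Cfsg.Agent.H525.ExtTw
import Cfsg.Agent.H616.ExtPSL
import Cfsg.Agent.H616.ExtPSU
import Cfsg.Agent.H616.ExtSp
import Cfsg.Agent.OddHalf.Known
import Cfsg.Agent.LieClassical.FieldTransfer
import Cfsg.Prelude.Def_Transfer
import Cfsg.Prelude.Def_Classification2

/-!
# Known simple groups with a nonabelian Sylow `p`-subgroup of order `p³` (S2215): assembly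
-/

set_option autoImplicit false

namespace Cfsg.Agent.H92.ExtMain

open Cfsg Cfsg.Lie Cfsg.Agent.H92.ExtP

universe u

/-- the conclusion of S2215 -/
def Concl (p : ℕ) (G : Type u) [Group G] : Prop :=
    (Nonempty (G ≃* Matrix.ProjectiveSpecialLinearGroup (Fin 3) (ZMod p)) ∨
       (p ≠ 2 ∧ ∃ (F : Type) (_ : Field F) (_ : Fintype F), Fintype.card F = p ^ 2 ∧ Nonempty (G ≃* Cfsg.PSU 3 F p))) ∨
    (p = 2 ∧ (Nonempty (G ≃* ↥(alternatingGroup (Fin 7))) ∨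
       ∃ (F : Type) (_ : Field F) (_ : Fintype F), (Fintype.card F % 16 = 7 ∨ Fintype.card F % 16 = 9) ∧
         Nonempty (G ≃* Matrix.ProjectiveSpecialLinearGroup (Fin 2) F))) ∨
    (p = 3 ∧ ((∃ (F : Type) (_ : Field F) (_ : Fintype F), Fintype.card F = 9 ∧ Nonempty (G ≃* Cfsg.PSU 3 F 3)) ∨
       ∃ (F : Type) (_ : Field F) (_ : Fintype F) (r a : ℕ), r.Prime ∧ (r % 9 = 2 ∨ r % 9 = 4 ∨ r % 9 = 5 ∨ r % 9 = 7) ∧
         1 ≤ a ∧ ¬ 3 ∣ a ∧ (r = 2 → 1 < a) ∧ Fintype.card F = r ^ a ∧ Nonempty (G ≃* ↥(Cfsg.Lie.chevG2.group F)))) ∨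
    (p = 3 ∧ (Cfsg.Lie.IsoTits G ∨
       ∃ (K : Type) (_ : Field K) (_ : Fintype K) (m : ℕ), 1 ≤ m ∧ ¬ 3 ∣ (2 * m + 1) ∧ Fintype.card K = 2 ^ (2 * m + 1) ∧
         Nonempty (G ≃* ↥(Cfsg.Lie.twistedF4 K (2 ^ m))))) ∨
    (p = 3 ∧ (Cfsg.Spor.IsoM12 G ∨ Cfsg.Spor.IsoM24 G ∨ Cfsg.Spor.IsoJ2 G ∨ Cfsg.Spor.IsoJ4 G ∨ Cfsg.Spor.IsoHe G ∨ Cfsg.Spor.IsoRu G)) ∨
    (p = 5 ∧ (Cfsg.Spor.IsoHS G ∨ Cfsg.Spor.IsoCo3 G ∨ Cfsg.Spor.IsoCo2 G ∨ Cfsg.Spor.IsoMcL G ∨ Cfsg.Spor.IsoRu G ∨ Cfsg.Spor.IsoTh G)) ∨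
    (p = 7 ∧ (Cfsg.Spor.IsoHe G ∨ Cfsg.Spor.IsoON G ∨ Cfsg.Spor.IsoFi24' G)) ∨
    (p = 11 ∧ Cfsg.Spor.IsoJ4 G) ∨
    (p = 13 ∧ Cfsg.Spor.IsoM G)

variable {p : ℕ} [hpr : Fact p.Prime] {G : Type u} [Group G]

open H616.ExtPSL H616.ExtPSU H616.ExtSp

/-- a field of prime order -/
theorem zmod_equiv {F : Type} [Field F] [Fintype F] (h : Fintype.card F = p) : Nonempty (F ≃+* ZMod p) := by
  exact ⟨(ZMod.ringEquivOfPrime F hpr.out h).symm⟩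

theorem psl_congr {F K : Type} [Field F] [Field K] {n : ℕ} (e : F ≃+* K) :
    Nonempty (Matrix.ProjectiveSpecialLinearGroup (Fin n) F ≃* Matrix.ProjectiveSpecialLinearGroup (Fin n) K) :=
  ⟨Cfsg.Agent.LieClassical.FieldTransfer.pslCongr e⟩

theorem isPSL (h : IsPSL G) (hE : Ext p G) : Concl p G := by
  obtain ⟨F, _, _, n, hn, -, ⟨e⟩⟩ := h
  have hE' := hE.congr e
  rcases Nat.lt_or_ge n 3 with h3 | h3
  · obtain rfl : n = 2 := by omega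
    obtain ⟨h2, hq⟩ := psl_two hE'
    exact Or.inr (Or.inl ⟨h2, Or.inr ⟨F, _, _, hq, ⟨e⟩⟩⟩)
  by_cases hp : p = 2 ∨ p ∣ Fintype.card F
  · obtain ⟨rfl, hF⟩ := psl h3 hp hE'
    obtain ⟨f⟩ := zmod_equiv hF
    obtain ⟨g⟩ := psl_congr (n := 3) f
    exact Or.inl (Or.inl ⟨e.trans g⟩)
  push Not at hp
  exfalso
  by_cases h1 : p ∣ Fintype.card F - 1
  · obtain ⟨h4, h5⟩ := psl' h3 hp.1 h1 hE'
    exact ExtCl.psl' hp.1 hp.2 (by omega) (by omega) hE'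
  · exact ExtCl.psl hp.1 hp.2 h1 hE'

theorem isPSU (h : IsPSU G) (hE : Ext p G) : Concl p G := by
  obtain ⟨F, _, _, n, q, hF, hn, hne, ⟨e⟩⟩ := h
  have hE' := hE.congr e
  by_cases hp : p = 2 ∨ p ∣ q
  · obtain ⟨rfl, rfl⟩ := psu hn hF hp hE'
    refine Or.inl (Or.inr ⟨fun h2 => hne ⟨rfl, h2⟩, F, _, _, hF, ⟨e⟩⟩)
  push Not at hp
  exfalso
  by_cases h1 : p ∣ q + 1
  · obtain ⟨h4, h5⟩ := psu' hn hF hp.1 h1 hE'
    exact ExtCl.psu' hn hF hp.1 hp.2 (by omega) hE'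
  · exact ExtCl.psu hn hF hp.1 hp.2 h1 hE'

theorem isPSp (h : IsPSp G) (hE : Ext p G) : False := by
  obtain ⟨F, _, _, m, hm, -, ⟨e⟩⟩ := h
  have hE' := hE.congr e
  by_cases hp : p = 2 ∨ p ∣ Fintype.card F
  · exact psp hm hp hE'
  push Not at hp
  exact ExtCl.psp (by omega) hp.1 hp.2 hE'

theorem five_le {q : ℕ} (hp : ¬ (p = 2 ∨ p = 3 ∨ p ∣ q)) : 5 ≤ p := by
  push Not at hp
  have h1 := hpr.out.two_le
  by_contra h2
  have : p = 4 := by omega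
  rw [this] at hpr
  exact absurd hpr.out (by norm_num)

theorem isPOmegaOdd (h : IsPOmegaOdd G) (hE : Ext p G) : False := by
  obtain ⟨F, _, _, m, hm, ho, ⟨e⟩⟩ := h
  have hE' := hE.congr e
  by_cases hp : p = 2 ∨ p = 3 ∨ p ∣ Fintype.card F
  · exact pomega_odd hm ho hp hE'
  have h5 := five_le hp
  push Not at hp
  refine ExtCl.pomega_odd (by omega) ?_ h5 hp.2.2 hE'
  intro h2
  have h3 : ringChar F = 2 := by
    have h4 : ringChar F ∣ 2 := ringChar.spec F 2 |>.1 (by exact_mod_cast h2)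
    rcases (Nat.dvd_prime Nat.prime_two).1 h4 with h | h
    · have : CharP F 1 := h ▸ ringChar.charP F
      exact absurd rfl (CharP.char_ne_one F 1)
    · exact h
  have : CharP F 2 := h3 ▸ ringChar.charP F
  obtain ⟨n, -, hn⟩ := FiniteField.card F 2
  rw [hn] at ho
  exact (Nat.not_even_iff_odd.2 ho) ((Nat.even_pow.2 ⟨even_two, n.2.ne'⟩))

theorem isPOmegaPlus (h : IsPOmegaPlus G) (hE : Ext p G) : False := by
  obtain ⟨F, _, _, m, hm, ⟨e⟩⟩ := h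
  have hE' := hE.congr e
  by_cases hp : p = 2 ∨ p = 3 ∨ p ∣ Fintype.card F
  · exact pomega_plus hm hp hE'
  have h5 := five_le hp
  push Not at hp
  exact ExtCl.pomega_plus (by omega) h5 hp.2.2 hE'

theorem isPOmegaMinus (h : IsPOmegaMinus G) (hE : Ext p G) : False := by
  obtain ⟨F, _, _, m, a, b, hm, hab, ⟨e⟩⟩ := h
  have hE' := hE.congr e
  by_cases hp : p = 2 ∨ p = 3 ∨ p ∣ Fintype.card F
  · exact pomega_minus hm hab hp hE'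
  have h5 := five_le hp
  push Not at hp
  exact ExtCl.pomega_minus (by omega) hab h5 hp.2.2 hE'

theorem isAlt (h : IsAlternating G) (hE : Ext p G) : Concl p G := by
  obtain ⟨n, hn, ⟨e⟩⟩ := h
  obtain ⟨rfl, h6⟩ := H868.ExtAlt.alt hn (hE.congr e)
  rcases h6 with rfl | rfl
  · obtain ⟨F, _, _, hF, ⟨f⟩⟩ := H868.ExtAlt.alt_six
    exact Or.inr (Or.inl ⟨rfl, Or.inr ⟨F, _, _, by rw [hF]; norm_num, ⟨e.trans f⟩⟩⟩)
  · exact Or.inr (Or.inl ⟨rfl, Or.inl ⟨e⟩⟩)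

theorem isExc (h : IsExceptionalLieType G) (hE : Ext p G) : Concl p G := by
  rcases h with h | h | h | h | h | h | h | h | h | h | h
  · obtain ⟨F, _, _, hq, ⟨e⟩⟩ := h
    obtain ⟨h3, r, a, h4, h5, h6, h7, h8, h9⟩ := H442.ExtExc.g2 hq (hE.congr e)
    exact Or.inr (Or.inr (Or.inl ⟨h3, Or.inr ⟨F, _, _, r, a, h4, h5, h6, h7, h8, h9, ⟨e⟩⟩⟩))
  · obtain ⟨F, _, _, ⟨e⟩⟩ := h
    exact (H442.ExtExc.f4 (hE.congr e)).elim
  · obtain ⟨F, _, _, ⟨e⟩⟩ := h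
    exact (H442.ExtExc.e6 (hE.congr e)).elim
  · obtain ⟨F, _, _, ⟨e⟩⟩ := h
    exact (H442.ExtExc.e7 (hE.congr e)).elim
  · obtain ⟨F, _, _, ⟨e⟩⟩ := h
    exact (H442.ExtExc.e8 (hE.congr e)).elim
  · obtain ⟨F, _, _, q, hq, hF, ⟨e⟩⟩ := h
    exact (H525.ExtTw.twE6 hq hF (hE.congr e)).elim
  · obtain ⟨F, _, _, q, hq, hF, ⟨e⟩⟩ := h
    exact (H525.ExtTw.twD4 hq hF (hE.congr e)).elim
  · obtain ⟨F, _, _, m, hm, hF, ⟨e⟩⟩ := h
    exact (H525.ExtTw.sz hm hF (hE.congr e)).elim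
  · obtain ⟨F, _, _, m, hm, hF, ⟨e⟩⟩ := h
    exact (H525.ExtTw.ree hm hF (hE.congr e)).elim
  · obtain ⟨F, _, _, m, hm, hF, ⟨e⟩⟩ := h
    obtain ⟨h3, h4⟩ := H525.ExtTw.twF4 hm hF (hE.congr e)
    exact Or.inr (Or.inr (Or.inr (Or.inl ⟨h3, Or.inr ⟨F, _, _, m, hm, h4, hF, ⟨e⟩⟩⟩)))
  · exact Or.inr (Or.inr (Or.inr (Or.inl ⟨H36.ExtSpor.tits h hE, Or.inl h⟩)))

theorem isSpor (h : IsSporadicGroup G) (hE : Ext p G) : Concl p G := by
  rcases H36.ExtSpor.spor h hE with h | h | h | h | h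
  · exact Or.inr (Or.inr (Or.inr (Or.inr (Or.inl h))))
  · exact Or.inr (Or.inr (Or.inr (Or.inr (Or.inr (Or.inl h)))))
  · exact Or.inr (Or.inr (Or.inr (Or.inr (Or.inr (Or.inr (Or.inl h))))))
  · exact Or.inr (Or.inr (Or.inr (Or.inr (Or.inr (Or.inr (Or.inr (Or.inl h)))))))
  · exact Or.inr (Or.inr (Or.inr (Or.inr (Or.inr (Or.inr (Or.inr (Or.inr h)))))))

theorem known (h : IsKnownSimple' G) (hE : Ext p G) : Concl p G := by
  rcases h with h | h | h | h | h | h | h | h | h | h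
  · -- prime order
    exfalso
    have h1 := hE.dvd
    have h2 : (Nat.card G).Prime := h
    have h3 : p ∣ Nat.card G := (dvd_pow_self p (by norm_num)).trans h1
    rw [← (Nat.prime_dvd_prime_iff_eq hpr.out h2).1 h3] at h1
    have h4 := Nat.le_of_dvd hpr.out.pos h1
    have h5 : p ^ 1 < p ^ 3 := Nat.pow_lt_pow_right hpr.out.one_lt (by norm_num)
    rw [pow_one] at h5
    omega
  · exact isAlt h hE
  · exact isPSL h hE
  · exact (isPSp h hE).elim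
  · exact isPSU h hE
  · exact (isPOmegaOdd h hE).elim
  · exact (isPOmegaPlus h hE).elim
  · exact (isPOmegaMinus h hE).elim
  · exact isExc h hE
  · exact isSpor h hE

/-- a simple `K`-group is known -/
theorem known_of_K [Finite G] [IsSimpleGroup G] (hG : ¬ IsMulCommutative G) (hK : IsCompositionKGroup G) :
    IsKnownSimple' G := by
  have e0 : (↥(⊤ : Subgroup G) ⧸ (⊥ : Subgroup ↥(⊤ : Subgroup G))) ≃* G :=
    QuotientGroup.quotientBot.trans Subgroup.topEquiv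
  have hs : IsSimpleGroup (↥(⊤ : Subgroup G) ⧸ (⊥ : Subgroup ↥(⊤ : Subgroup G))) :=
    OddHalf.Known.isSimple_congr e0.symm inferInstance
  have hn : ¬ IsMulCommutative (↥(⊤ : Subgroup G) ⧸ (⊥ : Subgroup ↥(⊤ : Subgroup G))) := by
    intro h
    apply hG
    refine ⟨⟨fun a b => ?_⟩⟩
    have := congrArg e0 (h.is_comm.comm (e0.symm a) (e0.symm b))
    simpa using this
  refine OddHalf.Known.isKnownSimple'_congr e0 hn (hK ⊤ ?_ ⊥ hs hn)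
  exact Subgroup.IsSubnormal.top

end Cfsg.Agent.H92.ExtMain

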