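import Cfsg.Agent.TitsThree.KExcRT
import Cfsg.Agent.H135.KTwoB
import Cfsg.Agent.AGraded.Hom

/-!
# `SL 9 F` in the Chevalley group of type E₈

`rt`, `sg`: the tables of the subsystem `A₈` (chain of simple roots `α₁ α₃ α₄ α₅ α₆ α₇ α₈ -θ`);
`exists_hom_E8` : the homomorphism, `F` finite.
-/

set_option autoImplicit false

namespace Cfsg.Agent.H92.E8A8

open Matrix Cfsg.Lie Cfsg.Agent.ChevalleyStructure.Elts Cfsg.Agent.TitsThree.KExcBase Cfsg.Agent.TitsThree.KExcRT
  Cfsg.Agent.AGraded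
open scoped commutatorElement

universe u

/-- the root table -/
def rt : Fin 9 → Fin 9 → ℕ := ![![0, 162, 163, 164, 165, 166, 167, 168, 14], ![77, 0, 135, 136, 137, 138, 139, 140, 6], ![76, 104, 0, 130, 131, 132, 133, 134, 5], ![75, 103, 109, 0, 126, 127, 128, 129, 4], ![74, 102, 108, 113, 0, 123, 124, 125, 3], ![73, 101, 107, 112, 116, 0, 121, 122, 2], ![72, 100, 106, 111, 115, 118, 0, 120, 1], ![71, 99, 105, 110, 114, 117, 119, 0, 0], ![225, 233, 234, 235, 236, 237, 238, 239, 0]]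
/-- the sign table -/
def sg : Fin 9 → Fin 9 → ℤ := ![![1, 1, -1, 1, -1, 1, -1, 1, -1], ![1, 1, 1, -1, 1, -1, 1, -1, 1], ![-1, 1, 1, 1, -1, 1, -1, 1, -1], ![1, -1, 1, 1, 1, -1, 1, -1, 1], ![-1, 1, -1, 1, 1, 1, -1, 1, -1], ![1, -1, 1, -1, 1, 1, 1, -1, 1], ![-1, 1, -1, 1, -1, 1, 1, 1, -1], ![1, -1, 1, -1, 1, -1, 1, 1, 1], ![-1, 1, -1, 1, -1, 1, -1, 1, 1]]

theorem ta : RTa chevE8 rt := by decide +kernel
theorem tb : RTb chevE8 rt sg := by decide +kernel
/-- the part of the check `RTc` with `a / 3 = i` -/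
abbrev tcP (i : ℕ) : Prop := ∀ a : Fin 9, a.val / 3 = i → ∀ b c d : Fin 9, a ≠ b ∧ c ≠ d ∧ b ≠ c ∧ a ≠ d ∧ ¬ (a = c ∧ b = d) →
    rt c d ≠ rt a b ∧ rt c d ≠ chevE8.neg (rt a b) ∧ chevE8.commTerms (rt a b) (rt c d) = []
theorem tc_0 : tcP 0 := by decide +kernel
theorem tc_1 : tcP 1 := by decide +kernel
theorem tc_2 : tcP 2 := by decide +kernel
theorem tc : RTc chevE8 rt := fun a => by
  have h : a.val / 3 = 0 ∨ a.val / 3 = 1 ∨ a.val / 3 = 2 := by omega
  rcases h with h | h | h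
  · exact tc_0 a h
  · exact tc_1 a h
  · exact tc_2 a h
theorem td : RTd sg := by decide +kernel

/-- A homomorphism from `SL n F` from the Steinberg relations (`F` finite). -/
theorem exists_hom {F : Type u} [Field F] [Finite F] {G : Type*} [Group G] {m : ℕ} (hm : 2 ≤ m)
    {x : Fin (m + 1) → Fin (m + 1) → F → G} (h : SteinRel x) :
    ∃ π : SpecialLinearGroup (Fin (m + 1)) F →* G,
      (∀ i j (hij : i ≠ j) a, π (SpecialLinearGroup.transvection hij a) = x i j a) ∧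
      π.range = Subgroup.closure (gens x) ∧
      ((∃ i j, i ≠ j ∧ ∃ a, x i j a ≠ 1) → π.ker ≤ Subgroup.center (SpecialLinearGroup (Fin (m + 1)) F)) :=
  exists_hom_core h (by rw [Fintype.card_fin]; omega)
    fun _ _ hy hygen _ _ hφ _ _ => Cfsg.Agent.H135.KTwo.ker_eq_bot_fin hy hm hygen hφ

variable (F : Type u) [Field F] [Finite F]

theorem exists_hom_E8 (hD : InList chevE8) : ∃ π : SpecialLinearGroup (Fin 9) F →* ↥(chevE8.group F),
    (∀ i j (hij : i ≠ j) a, ((π (SpecialLinearGroup.transvection hij a) : ↥(chevE8.group F)) : GL chevE8.Idx F) =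
      xG hD (rt i j) ((sg i j : F) * a)) ∧
    π.ker ≤ Subgroup.center (SpecialLinearGroup (Fin 9) F) := by
  classical
  have hS := stein (F := F) hD ta tb tc td
  obtain ⟨π, hπ, _, hker⟩ := exists_hom (m := 8) (by norm_num) hS
  have hmem : ∀ g, π g ∈ chevE8.group F := by
    intro g
    refine Cfsg.Agent.LieClassical.SLGen.transvection_induction (fun g => π g ∈ chevE8.group F) ?_ ?_ g
    · intro i j hij c
      rw [hπ i j hij]
      exact xG_mem_group hD _ _
    · intro A B hA hB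
      rw [map_mul]
      exact mul_mem hA hB
  refine ⟨π.codRestrict (chevE8.group F) hmem, fun i j hij a => ?_, ?_⟩
  · show π _ = xG hD (rt i j) ((sg i j : F) * a)
    rw [hπ i j hij]
    rfl
  · intro g hg
    have h01 : (0 : Fin 9) ≠ 1 := by decide
    refine hker ⟨0, 1, h01, ((sg 0 1 : ℤ) : F), ?_⟩ ?_
    · intro h
      have h1 := (xG_eq_one_iff hD (ta 0 1 h01) _).1 h
      rw [← Int.cast_mul, td, Int.cast_one] at h1
      exact one_ne_zero h1
    · exact congrArg Subtype.val hg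

end Cfsg.Agent.H92.E8A8
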