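import Cfsg.Agent.H92.ExcRows
import Cfsg.Agent.H868.KTwD4
import Cfsg.Agent.H868.KTwE6
import Cfsg.Agent.H870.KSz
import Cfsg.Agent.H870.KRee
import Cfsg.Agent.S1059
import Cfsg.Agent.S1062
import Cfsg.Agent.S1063
import Cfsg.Agent.S1064
import Cfsg.Agent.S1065

/-!
# The simple groups of exceptional Lie type have at least twelve classes, except `Sz(8)`
-/

set_option autoImplicit false

namespace Cfsg.Agent.H92.ExcAll

open Cfsg Cfsg.Lie Cfsg.Agent.H92.KTools Cfsg.Agent.H436 Cfsg.Agent.OrdDiv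

universe u

variable {S : Type u} [Group S]

theorem finite_of {T : Type*} [Group T] [Finite T] (e : S ≃* T) : Finite S := Finite.of_equiv T e.symm.toEquiv

theorem g2 (h : Lie.IsoChevG2 S) : 12 ≤ Nat.card (ConjClasses S) := by
  obtain ⟨F, _, _, hq, ⟨e⟩⟩ := h
  have := finite_of e
  refine ExcRows.g2 (q := Fintype.card F) (.mk' ⟨F, inferInstance, inferInstance, rfl, ⟨e⟩⟩
    ⟨hq, Fintype.isPrimePow_card_of_field⟩ ?_)
  rw [Nat.card_congr e.toEquiv]
  change 1 * _ = _ ^ 6 * _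
  rw [S1059.result rfl]; ring

theorem f4 (h : Lie.IsoF4 S) : 12 ≤ Nat.card (ConjClasses S) := by
  obtain ⟨F, _, _, ⟨e⟩⟩ := h
  have := finite_of e
  refine ExcRows.f4 (q := Fintype.card F) (.mk' ⟨F, inferInstance, inferInstance, rfl, ⟨e⟩⟩
    Fintype.isPrimePow_card_of_field ?_)
  rw [Nat.card_congr e.toEquiv]
  change 1 * _ = _ ^ 24 * _
  rw [S1062.result rfl]; ring

theorem e6 (h : Lie.IsoChevE6 S) : 12 ≤ Nat.card (ConjClasses S) := by
  obtain ⟨F, _, _, ⟨e⟩⟩ := h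
  have := finite_of e
  refine ExcRows.e6 (q := Fintype.card F) (.mk' ⟨F, inferInstance, inferInstance, rfl, ⟨e⟩⟩
    Fintype.isPrimePow_card_of_field ?_)
  rw [Nat.card_congr e.toEquiv]
  change Nat.gcd 3 (Fintype.card F - 1) * _ = _ ^ 36 * _
  rw [S1063.result rfl]; ring

theorem e7 (h : Lie.IsoE7 S) : 12 ≤ Nat.card (ConjClasses S) := by
  obtain ⟨F, _, _, ⟨e⟩⟩ := h
  have := finite_of e
  refine ExcRows.e7 (q := Fintype.card F) (.mk' ⟨F, inferInstance, inferInstance, rfl, ⟨e⟩⟩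
    Fintype.isPrimePow_card_of_field ?_)
  rw [Nat.card_congr e.toEquiv]
  change Nat.gcd 2 (Fintype.card F - 1) * _ = _ ^ 63 * _
  rw [S1064.result rfl]; ring

theorem e8 (h : Lie.IsoE8 S) : 12 ≤ Nat.card (ConjClasses S) := by
  obtain ⟨F, _, _, ⟨e⟩⟩ := h
  have := finite_of e
  refine ExcRows.e8 (q := Fintype.card F) (.mk' ⟨F, inferInstance, inferInstance, rfl, ⟨e⟩⟩
    Fintype.isPrimePow_card_of_field ?_)
  rw [Nat.card_congr e.toEquiv]
  change 1 * _ = _ ^ 120 * _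
  rw [S1065.result rfl]; ring

/-- **the exceptional part** -/
theorem exc (h : IsExceptionalLieType S) : 12 ≤ Nat.card (ConjClasses S) ∨
    ∃ (F : Type) (_ : Field F) (_ : Fintype F), Fintype.card F = 8 ∧ Nonempty (S ≃* ↥(Lie.Sz F 4)) := by
  rcases h with h | h | h | h | h | h | h | h | h | h | h
  · exact Or.inl (g2 h)
  · exact Or.inl (f4 h)
  · exact Or.inl (e6 h)
  · exact Or.inl (e7 h)
  · exact Or.inl (e8 h)
  · obtain ⟨F, _, _, q, hq, hF, ⟨e⟩⟩ := h
    left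
    rw [card_classes_congr e]
    exact H868.KTwE6.te6 hq hF
  · obtain ⟨F, _, _, q, hq, hF, ⟨e⟩⟩ := h
    left
    rw [card_classes_congr e]
    exact H868.KTwD4.td4 hq hF
  · obtain ⟨F, _, _, m, hm, hF, ⟨e⟩⟩ := h
    by_cases h1 : m = 1
    · subst h1
      exact Or.inr ⟨F, inferInstance, inferInstance, by rw [hF]; norm_num, ⟨e⟩⟩
    · left
      rw [card_classes_congr e]
      exact H870.KSz.sz (by omega) hF
  · obtain ⟨F, _, _, m, hm, hF, ⟨e⟩⟩ := h
    left
    rw [card_classes_congr e]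
    exact H870.KRee.ree hm hF
  · obtain ⟨F, _, _, m, hm, hF, ⟨e⟩⟩ := h
    left
    rw [card_classes_congr e]
    exact ExcTwF4.twF4' hF
  · exact Or.inl (ExcTits.tits h)

end Cfsg.Agent.H92.ExcAll
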