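import Cfsg.Agent.H92.ExcThree
import Cfsg.Agent.H92.ExcG24
import Cfsg.Agent.H92.ExcF4Two
import Cfsg.Agent.H92.ExcTits

/-!
# `G₂(q)`, `F₄(q)`, `E₆(q)`, `E₇(q)`, `E₈(q)`, `²F₄(q)`, the Tits group: at least twelve classes
-/

set_option autoImplicit false

namespace Cfsg.Agent.H92.ExcRows

open Cfsg Cfsg.Lie Cfsg.Agent.H92.KTools Cfsg.Agent.H436 Cfsg.Agent.OrdDiv

universe u

theorem exists_charP (F : Type) [Field F] [Fintype F] : ∃ p n : ℕ, p.Prime ∧ CharP F p ∧ n ≠ 0 ∧ Fintype.card F = p ^ n := by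
  obtain ⟨p, hp⟩ := CharP.exists F
  obtain ⟨n, hpr, hn⟩ := FiniteField.card F p
  exact ⟨p, n, hpr, hp, n.2.ne', hn⟩

variable {S : Type u} [Group S] [Finite S]

theorem g2 {q : ℕ} (h : IsNamed (.g2 q) S) : 12 ≤ Nat.card (ConjClasses S) := by
  obtain ⟨F, _, _, hF, ⟨e⟩⟩ := h.real
  have hF' : Nat.card F = q := by rw [Nat.card_eq_fintype_card, hF]
  obtain ⟨p, n, hp, hc, hn, hcard⟩ := exists_charP F
  have hpF : Fact p.Prime := ⟨hp⟩
  have hq : q = p ^ n := hF.symm.trans hcard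
  by_cases h5 : 5 ≤ p
  · exact ExcG2.g2_ge_five h.cond h.eq hF' e p h5
  have h3 : p = 2 ∨ p = 3 := by
    have := hp.two_le
    have h4 : p ≠ 4 := fun h4 => by rw [h4] at hp; exact absurd hp (by norm_num)
    omega
  rcases h3 with rfl | rfl
  · -- even
    have h3 := h.cond.1
    have hn1 : n ≠ 1 := by rintro rfl; omega
    by_cases h2 : n = 2
    · subst h2
      rw [card_classes_congr e]
      exact ExcG24.g2_four (by rw [hF', hq]; norm_num)
    by_cases h3 : n = 3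
    · subst h3
      have : q = 8 := by rw [hq]; norm_num
      subst this
      exact ExcG2.g2_eight h.cond h.eq hF' e
    · have : 2 ^ 4 ≤ 2 ^ n := Nat.pow_le_pow_right (by norm_num) (by omega)
      exact ExcG2.g2_two h.cond (by omega) h.eq hF' e
  · by_cases h1 : n = 1
    · subst h1
      have : q = 3 := by rw [hq]; norm_num
      subst this
      exact ExcThree.g2_three' h.eq hF' e
    · have : 3 ^ 2 ≤ 3 ^ n := Nat.pow_le_pow_right (by norm_num) (by omega)
      exact ExcG2.g2_three h.cond (by omega) h.eq hF' e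

theorem f4 {q : ℕ} (h : IsNamed (.f4 q) S) : 12 ≤ Nat.card (ConjClasses S) := by
  obtain ⟨F, _, _, hF, ⟨e⟩⟩ := h.real
  obtain ⟨p, n, hp, hc, hn, hcard⟩ := exists_charP F
  have hpF : Fact p.Prime := ⟨hp⟩
  have hq : q = p ^ n := hF.symm.trans hcard
  by_cases h4 : 4 ≤ q
  · exact ExcCount.f4 h.cond h4 h.eq e
  have h1 : p ∣ q := by rw [hq]; exact dvd_pow_self p hn
  have h2 : 2 ≤ q := (show IsPrimePow q from h.cond).two_le
  have h3 : q = 2 ∨ q = 3 := by omega
  rcases h3 with rfl | rfl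
  · have := (Nat.prime_dvd_prime_iff_eq hp Nat.prime_two).1 h1
    subst this
    rw [card_classes_congr e]
    exact ExcF4Two.f4_even
  · have := (Nat.prime_dvd_prime_iff_eq hp Nat.prime_three).1 h1
    subst this
    exact ExcThree.f4_three h.eq e

theorem e6 {q : ℕ} (h : IsNamed (.e6 q) S) : 12 ≤ Nat.card (ConjClasses S) := by
  obtain ⟨F, _, _, hF, ⟨e⟩⟩ := h.real
  exact ExcCount.e6 h.cond h.eq e

theorem e7 {q : ℕ} (h : IsNamed (.e7 q) S) : 12 ≤ Nat.card (ConjClasses S) :=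
  ExcCount.e7 h.cond h.eq

theorem e8 {q : ℕ} (h : IsNamed (.e8 q) S) : 12 ≤ Nat.card (ConjClasses S) :=
  ExcCount.e8 h.cond h.eq

theorem tf4 {q : ℕ} (h : IsNamed (.tf4 q) S) : 12 ≤ Nat.card (ConjClasses S) := by
  obtain ⟨F, _, _, m, hm, hF, hq, ⟨e⟩⟩ := h.real
  rw [card_classes_congr e]
  exact ExcTwF4.twF4' (hF.trans hq)

theorem tits (h : IsNamed .tits S) : 12 ≤ Nat.card (ConjClasses S) := ExcTits.tits h.real

end Cfsg.Agent.H92.ExcRows
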