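import Cfsg.Agent.H92.ExtLin
import Cfsg.Agent.ClassicalGeometry.GUBasic
import Cfsg.Agent.LieClassical.OrthCenter
import Cfsg.Agent.LieClassical.OmegaReindex
import Cfsg.Agent.S0279
import Cfsg.Agent.S0246

/-!
# The classical groups with a nonabelian Sylow `p`-subgroup of order `p³`, `p` odd, prime to `q` (S2215)
-/

set_option autoImplicit false
set_option linter.unusedSectionVars false

namespace Cfsg.Agent.H92.ExtCl

open Finset Matrix Cfsg Cfsg.Agent.H92.ExtP Cfsg.Agent.H92.ExtLin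

universe u v w

/-! ### forms -/

section Form

variable {ι : Type u} [Fintype ι] [DecidableEq ι] {F : Type v} [Field F] {A : Type w} [AddCommGroup A]

structure BiAdd (B : (ι → F) → (ι → F) → A) : Prop where
  add_left : ∀ u u' v, B (u + u') v = B u v + B u' v
  add_right : ∀ u v v', B u (v + v') = B u v + B u v'

variable {B : (ι → F) → (ι → F) → A}

namespace BiAdd

theorem zero_left (h : BiAdd B) (v : ι → F) : B 0 v = 0 := by
  have := h.add_left 0 0 v
  rw [add_zero] at this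
  exact left_eq_add.1 this

theorem zero_right (h : BiAdd B) (u : ι → F) : B u 0 = 0 := by
  have := h.add_right u 0 0
  rw [add_zero] at this
  exact left_eq_add.1 this

theorem sub_left (h : BiAdd B) (u u' v : ι → F) : B (u - u') v = B u v - B u' v := by
  rw [eq_sub_iff_add_eq, ← h.add_left, sub_add_cancel]

theorem sub_right (h : BiAdd B) (u v v' : ι → F) : B u (v - v') = B u v - B u v' := by
  rw [eq_sub_iff_add_eq, ← h.add_right, sub_add_cancel]

theorem sum_left (h : BiAdd B) {σ : Type*} (s : Finset σ) (f : σ → ι → F) (v : ι → F) :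
    B (∑ i ∈ s, f i) v = ∑ i ∈ s, B (f i) v := by
  classical
  induction s using Finset.induction_on with
  | empty => rw [sum_empty, sum_empty, h.zero_left]
  | insert a s ha ih => rw [sum_insert ha, sum_insert ha, h.add_left, ih]

theorem sum_right (h : BiAdd B) {σ : Type*} (s : Finset σ) (f : σ → ι → F) (u : ι → F) :
    B u (∑ i ∈ s, f i) = ∑ i ∈ s, B u (f i) := by
  classical
  induction s using Finset.induction_on with
  | empty => rw [sum_empty, sum_empty, h.zero_right]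
  | insert a s ha ih => rw [sum_insert ha, sum_insert ha, h.add_right, ih]

theorem nsmul_swap (h : BiAdd B) (n : ℕ) (u v : ι → F) : B (n • u) v = B u (n • v) := by
  induction n with
  | zero => rw [zero_smul, zero_smul, h.zero_left, h.zero_right]
  | succ n ih => rw [succ_nsmul, succ_nsmul, h.add_left, h.add_right, ih]

theorem inv_swap (h : BiAdd B) {p : ℕ} (hp : (p : F) ≠ 0) (u v : ι → F) :
    B ((p : F)⁻¹ • u) v = B u ((p : F)⁻¹ • v) := by
  have h1 : ∀ w : ι → F, p • ((p : F)⁻¹ • w) = w := fun w => by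
    rw [← Nat.cast_smul_eq_nsmul F, smul_smul, mul_inv_cancel₀ hp, one_smul]
  calc B ((p : F)⁻¹ • u) v = B ((p : F)⁻¹ • u) (p • ((p : F)⁻¹ • v)) := by rw [h1]
    _ = B (p • ((p : F)⁻¹ • u)) ((p : F)⁻¹ • v) := (h.nsmul_swap p _ _).symm
    _ = B u ((p : F)⁻¹ • v) := by rw [h1]

end BiAdd

def Pres (B : (ι → F) → (ι → F) → A) (M : Matrix ι ι F) : Prop := ∀ u v, B (M *ᵥ u) (M *ᵥ v) = B u v

def Adj (B : (ι → F) → (ι → F) → A) (M : Matrix ι ι F) : Prop := ∀ u v, B (M *ᵥ u) v = B u (M *ᵥ v)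

variable {M N : Matrix ι ι F} {p : ℕ}

theorem Pres.mul (hM : Pres B M) (hN : Pres B N) : Pres B (M * N) := fun u v => by
  rw [← mulVec_mulVec, ← mulVec_mulVec, hM, hN]

theorem Pres.pow (hM : Pres B M) (k : ℕ) : Pres B (M ^ k) := by
  induction k with
  | zero => intro u v; rw [pow_zero, one_mulVec, one_mulVec]
  | succ k ih => rw [pow_succ]; exact ih.mul hM

theorem Adj.mul (hM : Adj B M) (hN : Adj B N) (h : M * N = N * M) : Adj B (M * N) := fun u v => by
  rw [← mulVec_mulVec, hM, hN, mulVec_mulVec, ← h]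

theorem Adj.one_sub (hB : BiAdd B) (hM : Adj B M) : Adj B (1 - M) := fun u v => by
  rw [sub_mulVec, sub_mulVec, one_mulVec, one_mulVec, hB.sub_left, hB.sub_right, hM]

theorem adj_av (hB : BiAdd B) (hp : (p : F) ≠ 0) (hM : Pres B M) (h : M ^ p = 1) : Adj B (av F p M) := by
  have h0 : Adj B (∑ k ∈ range p, M ^ k) := by
    intro u v
    have h1 : ∀ k ∈ range p, B ((M ^ k) *ᵥ u) v = B u ((M ^ (p - k)) *ᵥ v) := by
      intro k hk
      rw [mem_range] at hk
      rw [← hM.pow (p - k), mulVec_mulVec, ← pow_add, Nat.sub_add_cancel hk.le, h, one_mulVec]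
    have h2 : ∑ k ∈ range p, B u ((M ^ (p - k)) *ᵥ v) = ∑ k ∈ range p, B u ((M ^ (k + 1)) *ᵥ v) := by
      rw [← sum_range_reflect]
      refine sum_congr rfl fun k hk => ?_
      rw [mem_range] at hk
      rw [show p - (p - 1 - k) = k + 1 by omega]
    have h3 : ∑ k ∈ range p, M ^ (k + 1) = ∑ k ∈ range p, M ^ k := by
      have h4 := sum_range_succ' (fun k => M ^ k) p
      rw [sum_range_succ, h, pow_zero] at h4
      exact (add_right_cancel h4).symm
    rw [sum_mulVec, hB.sum_left, sum_congr rfl h1, h2, ← hB.sum_right, ← sum_mulVec, h3]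
  intro u v
  rw [av, smul_mulVec, smul_mulVec, hB.inv_swap hp, h0 u _, mulVec_smul]

theorem adj_fi (hB : BiAdd B) [Fact p.Prime] (hp : (p : F) ≠ 0) {x z : Matrix ι ι F} (hx : Pres B x) (hz : Pres B z)
    (hxp : x ^ p = 1) (hzp : z ^ p = 1) (hxz : x * z = z * x) (i : ℕ) : Adj B (fi F p x z i) := by
  have h1 : Commute x z := hxz
  have h2 : Commute (x * z ^ i) z := h1.mul_left (Commute.pow_left (Commute.refl z) i)
  have h3 : (x * z ^ i) ^ p = 1 := by
    rw [(h1.pow_right i).mul_pow, hxp, ← pow_mul, mul_comm i p, pow_mul, hzp, one_pow, one_mul]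
  have h4 : Commute (av F p (x * z ^ i)) (1 - av F p z) := by
    refine Commute.sub_right (Commute.one_right _) ?_
    exact commute_av (commute_av h2.symm).symm
  exact (adj_av hB hp (hx.mul (hz.pow i)) h3).mul ((adj_av hB hp hz hzp).one_sub hB) h4.eq

theorem G_mulVec {z f : Matrix ι ι F} (u : ι → F) : (1 + (z - 1) * f) *ᵥ u = (1 - f) *ᵥ u + (z * f) *ᵥ u := by
  rw [← add_mulVec]
  congr 1
  noncomm_ring

theorem cross (hB : BiAdd B) {z f : Matrix ι ι F} (hf : Adj B f) (hff : f * f = f) (hzf : z * f = f * z) (u v : ι → F) :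
    B ((1 - f) *ᵥ u) ((z * f) *ᵥ v) = 0 ∧ B ((z * f) *ᵥ u) ((1 - f) *ᵥ v) = 0 := by
  have h1 : f * (1 - f) = 0 := by rw [mul_sub, mul_one, hff, sub_self]
  constructor
  · rw [hzf, ← mulVec_mulVec, ← hf, mulVec_mulVec, h1, zero_mulVec, hB.zero_left]
  · rw [hzf, ← mulVec_mulVec, hf, mulVec_mulVec, h1, zero_mulVec, hB.zero_right]

theorem pres_G (hB : BiAdd B) {z f : Matrix ι ι F} (hf : Adj B f) (hff : f * f = f) (hzf : z * f = f * z)
    (hz : Pres B z) : Pres B (1 + (z - 1) * f) := by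
  intro u v
  obtain ⟨c1, c2⟩ := cross hB hf hff hzf u v
  obtain ⟨d1, d2⟩ := cross hB (z := 1) hf hff (by rw [one_mul, mul_one]) u v
  have e1 : B u v = B ((1 - f) *ᵥ u + (1 * f) *ᵥ u) ((1 - f) *ᵥ v + (1 * f) *ᵥ v) := by
    rw [← add_mulVec, ← add_mulVec, one_mul, sub_add_cancel, one_mulVec, one_mulVec]
  rw [G_mulVec, G_mulVec, e1, hB.add_left, hB.add_right, hB.add_right, hB.add_left, hB.add_right, hB.add_right, c1, c2,
    d1, d2]
  congr 2
  rw [← mulVec_mulVec, ← mulVec_mulVec, hz, one_mul]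

theorem quad_G {Q : (ι → F) → A} (hB : BiAdd fun u v => Q (u + v) - Q u - Q v) {z f : Matrix ι ι F}
    (hf : Adj (fun u v => Q (u + v) - Q u - Q v) f) (hff : f * f = f) (hzf : z * f = f * z)
    (hz : ∀ u, Q (z *ᵥ u) = Q u) (u : ι → F) : Q ((1 + (z - 1) * f) *ᵥ u) = Q u := by
  obtain ⟨c1, -⟩ := cross hB hf hff hzf u u
  obtain ⟨d1, -⟩ := cross hB (z := 1) hf hff (by rw [one_mul, mul_one]) u u
  have e1 : Q u = Q ((1 - f) *ᵥ u + (1 * f) *ᵥ u) := by
    rw [← add_mulVec, one_mul, sub_add_cancel, one_mulVec]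
  rw [G_mulVec, e1]
  rw [sub_sub, sub_eq_zero] at c1 d1
  rw [c1, d1, ← mulVec_mulVec, hz, one_mul]

end Form

/-! ### the closure property of the classical groups -/

section Closure

variable {F : Type v} [Field F] [Fintype F] {p : ℕ} [hpr : Fact p.Prime]

theorem eq_one_of_pow {d : F} {k : ℕ} (hd : d ^ p = 1) (hk : d ^ k = 1) (h : ¬ p ∣ k) : d = 1 := by
  have h1 : orderOf d ∣ p := orderOf_dvd_of_pow_eq_one hd
  have h2 : orderOf d ∣ k := orderOf_dvd_of_pow_eq_one hk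
  have h3 : orderOf d ∣ Nat.gcd p k := Nat.dvd_gcd h1 h2
  rw [(Nat.Prime.coprime_iff_not_dvd hpr.out).2 h, Nat.dvd_one, orderOf_eq_one_iff] at h3
  exact h3

theorem cast_ne_zero (h : ¬ p ∣ Fintype.card F) : (p : F) ≠ 0 := by
  intro h0
  apply h
  have h1 : ringChar F ∣ p := ringChar.spec F p |>.1 h0
  have h2 : ringChar F = p := by
    rcases (Nat.dvd_prime hpr.out).1 h1 with h3 | h3
    · have : CharP F 1 := h3 ▸ ringChar.charP F
      exact absurd rfl (CharP.char_ne_one F 1)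
    · exact h3
  have : CharP F p := h2 ▸ ringChar.charP F
  obtain ⟨n, -, hn⟩ := FiniteField.card F p
  rw [hn]
  exact dvd_pow_self p n.2.ne'

/-- the subgroup of determinant one -/
theorem cl_SL {n : ℕ} (hpF : (p : F) ≠ 0) (h1 : ¬ p ∣ Fintype.card F - 1) : Cl F p (slToMat n F) := by
  intro x z hx hz hxz i
  have r1 : (slToMat n F x) ^ p = 1 := by rw [← map_pow, hx, map_one]
  have r2 : (slToMat n F z) ^ p = 1 := by rw [← map_pow, hz, map_one]
  have r4 : slToMat n F x * slToMat n F z = slToMat n F z * slToMat n F x := by rw [← map_mul, hxz, map_mul]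
  obtain ⟨f1, f2, f3, f4, f5, f6, f7⟩ := facts (F := F) hpF r1 r2 r4
  set G := 1 + (slToMat n F z - 1) * fi F p (slToMat n F x) (slToMat n F z) i with hG
  have hGp : G ^ p = 1 := by rw [hG, f5, r2, sub_self, zero_mul, add_zero]
  have hd : G.det = 1 := by
    have h2 : G.det ^ p = 1 := by rw [← det_pow, hGp, det_one]
    have h3 : G.det ≠ 0 := fun h => by rw [h, zero_pow hpr.out.ne_zero] at h2; exact zero_ne_one h2
    exact eq_one_of_pow h2 (FiniteField.pow_card_sub_one_eq_one _ h3) h1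
  exact ⟨⟨G, hd⟩, rfl⟩

theorem slToMat_injective (n : ℕ) : Function.Injective (slToMat n F) := by
  intro a b hab
  exact Subtype.ext hab

/-! unitary groups -/

theorem biAdd_herm {n q : ℕ} (hF : Fintype.card F = q ^ 2) : BiAdd (hermForm n F q) where
  add_left u u' v := by
    simp only [hermForm, Pi.add_apply, add_mul, sum_add_distrib]
  add_right u v v' := by
    obtain ⟨σ, hσ⟩ := Cfsg.Agent.ClassicalGeometry.GUBasic.exists_powHom hF
    simp only [hermForm, Pi.add_apply, ← hσ, map_add, mul_add, sum_add_distrib]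

theorem cl_SU {n q : ℕ} (hF : Fintype.card F = q ^ 2) (hpF : (p : F) ≠ 0) (h1 : ¬ p ∣ q + 1) :
    Cl F p ((slToMat n F).comp (SU n F q).subtype) := by
  intro x z hx hz hxz i
  set ρ := (slToMat n F).comp (SU n F q).subtype with hρ
  have r1 : (ρ x) ^ p = 1 := by rw [← map_pow, hx, map_one]
  have r2 : (ρ z) ^ p = 1 := by rw [← map_pow, hz, map_one]
  have r4 : ρ x * ρ z = ρ z * ρ x := by rw [← map_mul, hxz, map_mul]
  have s1 : Pres (hermForm n F q) (ρ x) := x.2
  have s2 : Pres (hermForm n F q) (ρ z) := z.2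
  obtain ⟨f1, f2, f3, f4, f5, f6, f7⟩ := facts (F := F) hpF r1 r2 r4
  have hG : Pres (hermForm n F q) (1 + (ρ z - 1) * fi F p (ρ x) (ρ z) i) :=
    pres_G (biAdd_herm hF) (adj_fi (biAdd_herm hF) hpF s1 s2 r1 r2 r4 i) (f2 i) (f6 i) s2
  set G := 1 + (ρ z - 1) * fi F p (ρ x) (ρ z) i with hGd
  have hGp : G ^ p = 1 := by rw [hGd, f5, r2, sub_self, zero_mul, add_zero]
  have hd : G.det = 1 := by
    have h2 : G.det ^ p = 1 := by rw [← det_pow, hGp, det_one]
    exact eq_one_of_pow h2 (Cfsg.Agent.ClassicalGeometry.GUBasic.det_pow hF hG) h1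
  exact ⟨⟨⟨G, hd⟩, hG⟩, rfl⟩

theorem SU_injective (n q : ℕ) : Function.Injective ((slToMat n F).comp (SU n F q).subtype) := by
  intro a b hab
  exact Subtype.ext (slToMat_injective n hab)

/-! symplectic groups -/

/-- the symplectic form -/
def sf (m : ℕ) (F : Type v) [Field F] (u v : Fin m ⊕ Fin m → F) : F := u ⬝ᵥ (Matrix.J (Fin m) F *ᵥ v)

theorem biAdd_sf (m : ℕ) : BiAdd (sf m F) where
  add_left u u' v := by rw [sf, add_dotProduct]; rfl
  add_right u v v' := by rw [sf, mulVec_add, dotProduct_add]; rfl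

theorem pres_sf_iff {m : ℕ} {M : Matrix (Fin m ⊕ Fin m) (Fin m ⊕ Fin m) F} :
    Pres (sf m F) M ↔ M ∈ Matrix.symplecticGroup (Fin m) F := by
  rw [SymplecticGroup.mem_iff']
  have h1 : ∀ u v, sf m F (M *ᵥ u) (M *ᵥ v) = u ⬝ᵥ ((Mᵀ * Matrix.J (Fin m) F * M) *ᵥ v) := by
    intro u v
    rw [sf, ← vecMul_transpose, ← dotProduct_mulVec, mulVec_mulVec, mulVec_mulVec, Matrix.mul_assoc]
  constructor
  · intro h
    refine Matrix.ext fun i j => ?_
    have h2 := h (Pi.single i 1) (Pi.single j 1)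
    rw [h1, sf] at h2
    simpa [single_one_dotProduct, mulVec_single_one, Matrix.col_apply] using h2
  · intro h u v
    rw [h1, h]
    rfl

theorem cl_Sp {m : ℕ} (hpF : (p : F) ≠ 0) : Cl F p (Matrix.symplecticGroup (Fin m) F).subtype := by
  intro x z hx hz hxz i
  set ρ := (Matrix.symplecticGroup (Fin m) F).subtype with hρ
  have r1 : (ρ x) ^ p = 1 := by rw [← map_pow, hx, map_one]
  have r2 : (ρ z) ^ p = 1 := by rw [← map_pow, hz, map_one]
  have r4 : ρ x * ρ z = ρ z * ρ x := by rw [← map_mul, hxz, map_mul]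
  have s1 : Pres (sf m F) (ρ x) := pres_sf_iff.2 x.2
  have s2 : Pres (sf m F) (ρ z) := pres_sf_iff.2 z.2
  obtain ⟨f1, f2, f3, f4, f5, f6, f7⟩ := facts (F := F) hpF r1 r2 r4
  have hG : Pres (sf m F) (1 + (ρ z - 1) * fi F p (ρ x) (ρ z) i) :=
    pres_G (biAdd_sf m) (adj_fi (biAdd_sf m) hpF s1 s2 r1 r2 r4 i) (f2 i) (f6 i) s2
  exact ⟨⟨_, pres_sf_iff.1 hG⟩, rfl⟩

/-! orthogonal groups -/

/-- the matrix of an isometry -/
abbrev isoMat {ι : Type} [Fintype ι] [DecidableEq ι] (Q : (ι → F) → F) : isometryGroup F Q →* Matrix ι ι F :=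
  (Units.coeHom (Matrix ι ι F)).comp (isometryGroup F Q).subtype

theorem isoMat_injective {ι : Type} [Fintype ι] [DecidableEq ι] (Q : (ι → F) → F) :
    Function.Injective (isoMat (F := F) Q) := by
  intro a b hab
  exact Subtype.ext (Units.ext hab)

theorem cl_iso {ι : Type} [Fintype ι] [DecidableEq ι] (Q : QuadraticForm F (ι → F)) (hpF : (p : F) ≠ 0) :
    Cl F p (isoMat (F := F) (⇑Q)) := by
  intro x z hx hz hxz i
  set ρ := isoMat (F := F) (⇑Q) with hρ
  have r1 : (ρ x) ^ p = 1 := by rw [← map_pow, hx, map_one]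
  have r2 : (ρ z) ^ p = 1 := by rw [← map_pow, hz, map_one]
  have r4 : ρ x * ρ z = ρ z * ρ x := by rw [← map_mul, hxz, map_mul]
  have q1 : ∀ u, Q (ρ x *ᵥ u) = Q u := fun u => x.2 u u
  have q2 : ∀ u, Q (ρ z *ᵥ u) = Q u := fun u => z.2 u u
  have hB : BiAdd (fun u v => Q (u + v) - Q u - Q v) :=
    ⟨fun u u' v => QuadraticMap.polar_add_left Q u u' v, fun u v v' => QuadraticMap.polar_add_right Q u v v'⟩
  have s1 : Pres (fun u v => Q (u + v) - Q u - Q v) (ρ x) := fun u v => by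
    simp only [← mulVec_add, q1]
  have s2 : Pres (fun u v => Q (u + v) - Q u - Q v) (ρ z) := fun u v => by
    simp only [← mulVec_add, q2]
  obtain ⟨f1, f2, f3, f4, f5, f6, f7⟩ := facts (F := F) hpF r1 r2 r4
  have hG : ∀ u, Q ((1 + (ρ z - 1) * fi F p (ρ x) (ρ z) i) *ᵥ u) = Q u :=
    quad_G hB (adj_fi hB hpF s1 s2 r1 r2 r4 i) (f2 i) (f6 i) q2
  set G := 1 + (ρ z - 1) * fi F p (ρ x) (ρ z) i with hGd
  have hGp : G ^ p = 1 := by rw [hGd, f5, r2, sub_self, zero_mul, add_zero]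
  obtain ⟨k, hk⟩ : ∃ k, p = k + 1 := ⟨p - 1, by have := hpr.out.pos; omega⟩
  let Gu : Matrix.GeneralLinearGroup ι F := ⟨G, G ^ k, by rw [← pow_succ', ← hk, hGp], by rw [← pow_succ, ← hk, hGp]⟩
  exact ⟨⟨Gu, fun u _ => hG u⟩, rfl⟩

end Closure

/-! ### quotients by central subgroups of order prime to `p` -/

section Quot

variable {p : ℕ} [hpr : Fact p.Prime]

theorem of_quotient {X : Type u} [Group X] [Finite X] (N : Subgroup X) [N.Normal] (hN : ¬ p ∣ Nat.card N)
    (h : Ext p (X ⧸ N)) : Ext p X := by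
  have hp : p.Prime := hpr.out
  have hcard : Nat.card X = Nat.card (X ⧸ N) * Nat.card N := Subgroup.card_eq_card_quotient_mul_card_subgroup N
  refine ⟨?_, ?_, ?_⟩
  · rw [hcard]; exact h.dvd.mul_right _
  · intro h4
    rw [hcard] at h4
    exact h.not_dvd ((Nat.Coprime.pow_left 4 ((Nat.Prime.coprime_iff_not_dvd hp).2 hN)).dvd_of_dvd_mul_right h4)
  · intro A hA
    have hAp : IsPGroup p A := IsPGroup.of_card hA
    have hinj : Function.Injective ((QuotientGroup.mk' N).comp A.subtype) := by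
      rw [← MonoidHom.ker_eq_bot_iff, eq_bot_iff]
      intro a ha
      rw [MonoidHom.mem_ker] at ha
      have h1 : (a : X) ∈ N := (QuotientGroup.eq_one_iff _).1 ha
      obtain ⟨k, hk⟩ := hAp a
      have h2' : (a : X) ^ p ^ k = 1 := congrArg (fun t : A => (t : X)) hk
      have h2 : (⟨a, h1⟩ : N) ^ p ^ k = 1 := Subtype.ext h2'
      have h3 : orderOf (⟨a, h1⟩ : N) ∣ Nat.gcd (p ^ k) (Nat.card N) :=
        Nat.dvd_gcd (orderOf_dvd_of_pow_eq_one h2) (orderOf_dvd_natCard _)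
      rw [Nat.Coprime.pow_left k ((Nat.Prime.coprime_iff_not_dvd hp).2 hN), Nat.dvd_one, orderOf_eq_one_iff] at h3
      rw [Subgroup.mem_bot]
      have h5 : (a : X) = 1 := congrArg (fun t : N => (t : X)) h3
      exact Subtype.ext h5
    have h4 : Nat.card ↥(A.map (QuotientGroup.mk' N)) = p ^ 3 := by
      rw [← hA]
      refine Nat.card_congr (Equiv.ofBijective (fun a : A => (⟨QuotientGroup.mk' N a, a, a.2, rfl⟩ :
        ↥(A.map (QuotientGroup.mk' N)))) ⟨?_, ?_⟩).symm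
      · intro a b hab
        exact hinj (congrArg Subtype.val hab)
      · rintro ⟨_, a, ha, rfl⟩
        exact ⟨⟨a, ha⟩, rfl⟩
    obtain ⟨_, ⟨a, ha, rfl⟩, _, ⟨b, hb, rfl⟩, hab⟩ := h.noncomm _ h4
    exact ⟨a, ha, b, hb, fun h5 => hab (by rw [← map_mul, h5, map_mul])⟩

end Quot

/-! ### the rows -/

section Rows

variable {F : Type v} [Field F] [Fintype F] {p : ℕ} [hpr : Fact p.Prime]

/-- the centre of `SL_n(F)` has order prime to `p` -/
theorem center_SL {n : ℕ} (h : ¬ p ∣ Fintype.card F - 1 ∨ (0 < n ∧ n < p)) :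
    ¬ p ∣ Nat.card (Subgroup.center (Matrix.SpecialLinearGroup (Fin n) F)) := by
  intro hd
  obtain ⟨c, hc⟩ := exists_prime_orderOf_dvd_card' p hd
  obtain ⟨r, hr, hr'⟩ := Matrix.SpecialLinearGroup.mem_center_iff.1 c.2
  rw [Fintype.card_fin] at hr
  have hcp : (c : Matrix.SpecialLinearGroup (Fin n) F) ^ p = 1 := by
    have h1 := pow_orderOf_eq_one c
    rw [hc] at h1
    exact congrArg Subtype.val h1
  have h2 : (Matrix.scalar (Fin n) r) ^ p = 1 := by
    rw [hr']
    exact congrArg (fun g : Matrix.SpecialLinearGroup (Fin n) F => (g : Matrix (Fin n) (Fin n) F)) hcp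
  rcases Nat.eq_zero_or_pos n with hn | hn
  · subst hn
    have : c = 1 := Subtype.ext (Subtype.ext (Subsingleton.elim _ _))
    rw [this, orderOf_one] at hc
    exact hpr.out.one_lt.ne hc
  have h3 : r ^ p = 1 := by
    rw [← map_pow] at h2
    have h4 := congrFun (congrFun h2 ⟨0, hn⟩) ⟨0, hn⟩
    simpa using h4
  have h5 : r = 1 := by
    rcases h with h | ⟨-, h⟩
    · have h0 : r ≠ 0 := fun h => by rw [h, zero_pow hpr.out.ne_zero] at h3; exact zero_ne_one h3
      exact eq_one_of_pow h3 (FiniteField.pow_card_sub_one_eq_one _ h0) h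
    · exact eq_one_of_pow h3 hr (fun hd => absurd (Nat.le_of_dvd hn hd) (by omega))
  have h6 : c = 1 := by
    apply Subtype.ext
    apply Subtype.ext
    rw [← hr', h5, map_one]
    rfl
  rw [h6, orderOf_one] at hc
  exact hpr.out.one_lt.ne hc

/-- `p` odd, prime to `q (q - 1)` -/
theorem psl {n : ℕ} (hp2 : p ≠ 2) (hpF : ¬ p ∣ Fintype.card F) (h1 : ¬ p ∣ Fintype.card F - 1) :
    ¬ Ext p (Matrix.ProjectiveSpecialLinearGroup (Fin n) F) := fun h =>
  main hp2 (cast_ne_zero hpF) (slToMat n F) (slToMat_injective n) (cl_SL (cast_ne_zero hpF) h1)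
    (of_quotient _ (center_SL (Or.inl h1)) h)

/-- `p > n` -/
theorem psl' {n : ℕ} (hp2 : p ≠ 2) (hpF : ¬ p ∣ Fintype.card F) (hn0 : 0 < n) (hn : n < p) :
    ¬ Ext p (Matrix.ProjectiveSpecialLinearGroup (Fin n) F) := fun h => by
  have := p_le hp2 (cast_ne_zero hpF) (slToMat n F) (slToMat_injective n)
    (of_quotient _ (center_SL (Or.inr ⟨hn0, hn⟩)) h)
  rw [Fintype.card_fin] at this
  omega

theorem psu {n q : ℕ} (hn : 3 ≤ n) (hF : Fintype.card F = q ^ 2) (hp2 : p ≠ 2) (hpF : ¬ p ∣ q) (h1 : ¬ p ∣ q + 1) :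
    ¬ Ext p (PSU n F q) := fun h => by
  have hpF' : (p : F) ≠ 0 := cast_ne_zero (fun h => hpF (hpr.out.dvd_of_dvd_pow (hF ▸ h)))
  refine main hp2 hpF' ((slToMat n F).comp (SU n F q).subtype) (SU_injective n q) (cl_SU hF hpF' h1)
    (of_quotient _ ?_ h)
  rw [Cfsg.Agent.S0279.result hF n hn]
  exact fun hd => h1 (hd.trans (Nat.gcd_dvd_right _ _))

theorem psu' {n q : ℕ} (hn : 3 ≤ n) (hF : Fintype.card F = q ^ 2) (hp2 : p ≠ 2) (hpF : ¬ p ∣ q) (hnp : n < p) :
    ¬ Ext p (PSU n F q) := fun h => by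
  have hpF' : (p : F) ≠ 0 := cast_ne_zero (fun h => hpF (hpr.out.dvd_of_dvd_pow (hF ▸ h)))
  have := p_le hp2 hpF' ((slToMat n F).comp (SU n F q).subtype) (SU_injective n q) (of_quotient _ (by
    rw [Cfsg.Agent.S0279.result hF n hn]
    exact fun hd => absurd (Nat.le_of_dvd (by omega) (hd.trans (Nat.gcd_dvd_left _ _))) (by omega)) h)
  rw [Fintype.card_fin] at this
  omega

theorem psp {m : ℕ} (hm : 1 ≤ m) (hp2 : p ≠ 2) (hpF : ¬ p ∣ Fintype.card F) : ¬ Ext p (PSp m F) := fun h => by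
  refine main hp2 (cast_ne_zero hpF) (Matrix.symplecticGroup (Fin m) F).subtype Subtype.val_injective
    (cl_Sp (cast_ne_zero hpF)) (of_quotient _ ?_ h)
  rw [Cfsg.Agent.S0246.result rfl m hm]
  intro hd
  have h1 := (Nat.prime_dvd_prime_iff_eq hpr.out Nat.prime_two).1 (hd.trans (Nat.gcd_dvd_left _ _))
  exact hp2 h1

theorem center_omega {ι : Type} [Fintype ι] [DecidableEq ι] (Q : QuadraticForm F (ι → F)) (hp2 : p ≠ 2)
    (hc : ∀ x ∈ Subgroup.center (Omega F (⇑Q)),
      (((x : Cfsg.isometryGroup F (⇑Q)) : Matrix.GeneralLinearGroup ι F) : Matrix ι ι F) = 1 ∨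
      (((x : Cfsg.isometryGroup F (⇑Q)) : Matrix.GeneralLinearGroup ι F) : Matrix ι ι F) = -1) :
    ¬ p ∣ Nat.card (Subgroup.center (Omega F (⇑Q))) := by
  intro hd
  obtain ⟨c, hc'⟩ := exists_prime_orderOf_dvd_card' p hd
  have h1 : c ^ 2 = 1 := by
    apply Subtype.ext
    apply Subtype.ext
    apply Subtype.ext
    apply Units.ext
    change ((((c : Omega F (⇑Q)) : Cfsg.isometryGroup F (⇑Q)) : Matrix.GeneralLinearGroup ι F) : Matrix ι ι F) ^ 2 = 1
    rcases hc c c.2 with h | h <;> rw [h] <;> simp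
  have h2 := orderOf_dvd_of_pow_eq_one h1
  rw [hc', Nat.prime_dvd_prime_iff_eq hpr.out Nat.prime_two] at h2
  exact hp2 h2

theorem pomega {ι : Type} [Fintype ι] [DecidableEq ι] (Q : QuadraticForm F (ι → F)) (hp5 : 5 ≤ p)
    (hpF : ¬ p ∣ Fintype.card F) (hQ : (QuadraticMap.polarBilin Q).Nondegenerate)
    (hn : 3 ≤ Fintype.card ι) (hs : ∃ u : ι → F, u ≠ 0 ∧ Q u = 0) : ¬ Ext p (POmega F (⇑Q)) := fun h =>
  main_comm hp5 (cast_ne_zero hpF) (isoMat (F := F) (⇑Q)) (isoMat_injective _) (cl_iso Q (cast_ne_zero hpF)) le_rfl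
    (of_quotient _ (center_omega Q (by omega) fun x hx =>
      (Cfsg.Agent.LieClassical.OrthCenter.mem_center_omega_iff hQ hn hs x).1 hx) h)

open Cfsg.Agent.LieClassical.OmegaReindex in
theorem pomega_odd {m : ℕ} (hm : 1 ≤ m) (h2 : (2 : F) ≠ 0) (hp5 : 5 ≤ p) (hpF : ¬ p ∣ Fintype.card F) :
    ¬ Ext p (POmega F (quadFormOdd m F)) := by
  rw [← coe_quadOdd]
  exact pomega _ hp5 hpF (quadOdd_nondegenerate h2)
    (by simp only [Fintype.card_sum, Fintype.card_fin, Fintype.card_unit]; omega) (quadOdd_isotropic hm)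

open Cfsg.Agent.LieClassical.OmegaReindex in
theorem pomega_plus {m : ℕ} (hm : 2 ≤ m) (hp5 : 5 ≤ p) (hpF : ¬ p ∣ Fintype.card F) :
    ¬ Ext p (POmega F (quadFormPlus m F)) := by
  rw [← coe_quadPlus]
  exact pomega _ hp5 hpF quadPlus_nondegenerate
    (by simp only [Fintype.card_sum, Fintype.card_fin]; omega) (quadPlus_isotropic (by omega))

open Cfsg.Agent.LieClassical.OmegaReindex in
theorem pomega_minus {m : ℕ} (hm : 1 ≤ m) {a b : F}
    (hab : ∀ z₁ z₂ : F, z₁ ^ 2 + a * z₁ * z₂ + b * z₂ ^ 2 = 0 → z₁ = 0 ∧ z₂ = 0) (hp5 : 5 ≤ p)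
    (hpF : ¬ p ∣ Fintype.card F) : ¬ Ext p (POmega F (quadFormMinus m F a b)) := by
  rw [← coe_quadMinus]
  exact pomega _ hp5 hpF (quadMinus_nondegenerate hab)
    (by simp only [Fintype.card_sum, Fintype.card_fin]; omega) (quadMinus_isotropic hm a b)

end Rows

end Cfsg.Agent.H92.ExtCl
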