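import Cfsg.Agent.H92.ExtP
import Mathlib.LinearAlgebra.Matrix.ToLin
import Mathlib.LinearAlgebra.Dimension.Constructions
import Mathlib.GroupTheory.Nilpotent
import Mathlib.GroupTheory.SpecificGroups.Cyclic
import Mathlib.RingTheory.Adjoin.Basic
import Mathlib.Tactic

/-!
# Faithful linear representations of a nonabelian group of order `p³` (S2215)

A nonabelian group of order `p³` (`p` odd) with a faithful representation in characteristic not `p` gives `p` nonzero
orthogonal idempotents `f_i` (`i < p`), permuted cyclically, commuting with the central element `z` of order `p`. The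
elements `1 + (z - 1) f_i` generate an elementary abelian group of order at least `p³`.
-/

set_option autoImplicit false
set_option linter.unusedSectionVars false
set_option linter.deprecated false
set_option linter.unusedVariables false

namespace Cfsg.Agent.H92.ExtLin

open Finset Matrix Cfsg.Agent.H92.ExtP

universe u v w

/-! ### nonabelian groups of order `p³` -/

section Grp

variable {P : Type u} [Group P]

/-- class two power formula -/
theorem mul_pow_of_central {b w c : P} (h : w * b = b * w * c) (hbc : c * b = b * c) (hwc : c * w = w * c) (n : ℕ) :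
    (b * w) ^ n = b ^ n * w ^ n * c ^ (n * (n - 1) / 2) := by
  have hb : Commute c b := hbc
  have hw : Commute c w := hwc
  have h1 : ∀ n : ℕ, w ^ n * b = b * w ^ n * c ^ n := by
    intro n
    induction n with
    | zero => simp
    | succ n ih =>
      calc w ^ (n + 1) * b = w ^ n * (w * b) := by rw [pow_succ]; group
        _ = w ^ n * b * w * c := by rw [h]; group
        _ = b * w ^ n * c ^ n * w * c := by rw [ih]
        _ = b * w ^ n * (c ^ n * w) * c := by group
        _ = b * w ^ n * (w * c ^ n) * c := by rw [(hw.pow_left n).eq]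
        _ = b * w ^ (n + 1) * c ^ (n + 1) := by rw [pow_succ w, pow_succ c]; group
  induction n with
  | zero => simp
  | succ n ih =>
    have h2 : (n + 1) * (n + 1 - 1) / 2 = n * (n - 1) / 2 + n := by
      rcases n with _ | n
      · simp
      · have e : (n + 1 + 1) * (n + 1) = (n + 1) * n + 2 * (n + 1) := by ring
        simp only [Nat.add_sub_cancel, e]
        omega
    rw [h2, pow_succ, ih]
    set k := n * (n - 1) / 2
    calc b ^ n * w ^ n * c ^ k * (b * w) = b ^ n * w ^ n * (c ^ k * b) * w := by group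
      _ = b ^ n * w ^ n * (b * c ^ k) * w := by rw [(hb.pow_left k).eq]
      _ = b ^ n * (w ^ n * b) * (c ^ k * w) := by group
      _ = b ^ n * (b * w ^ n * c ^ n) * (w * c ^ k) := by rw [h1, (hw.pow_left k).eq]
      _ = b ^ n * b * w ^ n * (c ^ n * w) * c ^ k := by group
      _ = b ^ n * b * w ^ n * (w * c ^ n) * c ^ k := by rw [(hw.pow_left n).eq]
      _ = b ^ (n + 1) * w ^ (n + 1) * (c ^ n * c ^ k) := by rw [pow_succ b, pow_succ w]; group
      _ = b ^ (n + 1) * w ^ (n + 1) * c ^ (k + n) := by rw [← pow_add, add_comm n k]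

theorem exists_xyz {p : ℕ} [Fact p.Prime] (hp2 : p ≠ 2) (hP : Nat.card P = p ^ 3) {a b : P} (hab : a * b ≠ b * a) :
    ∃ x y z : P, x ^ p = 1 ∧ z ^ p = 1 ∧ z ≠ 1 ∧ x * z = z * x ∧ y * z = z * y ∧ y * x = x * z * y := by
  classical
  have hp : p.Prime := Fact.out
  have hfin : Finite P := Nat.finite_of_card_ne_zero (by rw [hP]; exact pow_ne_zero _ hp.ne_zero)
  have hPp : IsPGroup p P := IsPGroup.of_card hP
  have hZd : Nat.card (Subgroup.center P) ∣ p ^ 3 := hP ▸ Subgroup.card_subgroup_dvd_card _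
  obtain ⟨k, hk3, hk⟩ := (Nat.dvd_prime_pow hp).1 hZd
  have hnt : Nontrivial P := ⟨⟨a, 1, fun h => hab (by rw [h]; simp)⟩⟩
  have hne : Nontrivial (Subgroup.center P) := hPp.center_nontrivial
  -- the quotient is not cyclic
  have hncyc : ∀ (G' : Type u) [Group G'] (f : P →* G'), IsCyclic G' → f.ker ≤ Subgroup.center P → False := by
    intro G' _ f hc hf
    exact hab ((MonoidHom.isMulCommutative_of_isCyclic_of_ker_le_center f hf).is_comm.comm a b)
  have hcardq : Nat.card (P ⧸ Subgroup.center P) * Nat.card (Subgroup.center P) = p ^ 3 := by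
    rw [← Subgroup.card_eq_card_quotient_mul_card_subgroup, hP]
  have hker : (QuotientGroup.mk' (Subgroup.center P)).ker ≤ Subgroup.center P := by
    rw [QuotientGroup.ker_mk']
  have hk1 : k = 1 := by
    have h0 : k ≠ 0 := by
      rintro rfl
      rw [pow_zero] at hk
      have : (1 : ℕ) < Nat.card (Subgroup.center P) := Finite.one_lt_card
      omega
    have h2 : k ≠ 2 := by
      rintro rfl
      have h1 : Nat.card (P ⧸ Subgroup.center P) = p := by
        rw [hk, pow_succ p 2, mul_comm] at hcardq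
        exact Nat.eq_of_mul_eq_mul_left (pow_pos hp.pos 2) hcardq
      have : IsCyclic (P ⧸ Subgroup.center P) := isCyclic_of_prime_card h1
      exact hncyc _ _ this hker
    have h3 : k ≠ 3 := by
      rintro rfl
      have h1 : Nat.card (P ⧸ Subgroup.center P) = 1 := by
        rw [hk] at hcardq
        exact Nat.eq_of_mul_eq_mul_right (pow_pos hp.pos 3) (hcardq.trans (one_mul _).symm)
      have : Subsingleton (P ⧸ Subgroup.center P) := (Nat.card_eq_one_iff_unique.1 h1).1
      have : IsCyclic (P ⧸ Subgroup.center P) := isCyclic_of_subsingleton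
      exact hncyc _ _ this hker
    omega
  rw [hk1, pow_one] at hk
  have hq2 : Nat.card (P ⧸ Subgroup.center P) = p ^ 2 := by
    rw [hk, pow_succ p 2] at hcardq
    exact Nat.eq_of_mul_eq_mul_right hp.pos hcardq
  have hcomm : ∀ u v : P, v⁻¹ * u⁻¹ * v * u ∈ Subgroup.center P := by
    intro u v
    rw [← QuotientGroup.eq_one_iff]
    have h1 := (IsPGroup.isMulCommutative_of_card_eq_prime_sq hq2).is_comm.comm
      (QuotientGroup.mk v : P ⧸ Subgroup.center P) (QuotientGroup.mk u)
    rw [QuotientGroup.mk_mul, QuotientGroup.mk_mul, QuotientGroup.mk_mul, QuotientGroup.mk_inv, QuotientGroup.mk_inv,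
      mul_assoc, h1]
    group
  have hzp : ∀ z ∈ Subgroup.center P, z ^ p = 1 := by
    intro z hz
    have h1 : (⟨z, hz⟩ : Subgroup.center P) ^ p = 1 := by rw [← hk]; exact pow_card_eq_one'
    exact congrArg Subtype.val h1
  have hpow : ∀ u : P, u ^ p ∈ Subgroup.center P := by
    intro u
    by_contra hu
    have h1 : (QuotientGroup.mk u : P ⧸ Subgroup.center P) ^ p ≠ 1 := by
      rw [← QuotientGroup.mk_pow, Ne, QuotientGroup.eq_one_iff]
      exact hu
    have h2 : orderOf (QuotientGroup.mk u : P ⧸ Subgroup.center P) = Nat.card (P ⧸ Subgroup.center P) := by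
      have h3 : orderOf (QuotientGroup.mk u : P ⧸ Subgroup.center P) ∣ p ^ 2 := hq2 ▸ orderOf_dvd_natCard _
      obtain ⟨j, hj, hj'⟩ := (Nat.dvd_prime_pow hp).1 h3
      rw [hj', hq2]
      congr 1
      by_contra hj2
      apply h1
      rw [← orderOf_dvd_iff_pow_eq_one, hj']
      exact (pow_dvd_pow p (show j ≤ 1 by omega)).trans (by rw [pow_one])
    have h4 : IsCyclic (P ⧸ Subgroup.center P) := isCyclic_of_orderOf_eq_card _ h2
    exact hncyc _ _ h4 hker
  -- from a noncentral `x` of order `p`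
  have key : ∀ x y : P, x ^ p = 1 → x * y ≠ y * x →
      ∃ x y z : P, x ^ p = 1 ∧ z ^ p = 1 ∧ z ≠ 1 ∧ x * z = z * x ∧ y * z = z * y ∧ y * x = x * z * y := by
    intro x y hx hxy
    have hz := hcomm y⁻¹ x
    refine ⟨x, y, x⁻¹ * y⁻¹⁻¹ * x * y⁻¹, hx, hzp _ hz, ?_, ?_, ?_, ?_⟩
    · intro h1
      apply hxy
      have h2 : y * x = x * y := by
        have := congrArg (fun t => x * t * y) h1
        simpa [mul_assoc] using this
      exact h2.symm
    · exact (Subgroup.mem_center_iff.1 hz x)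
    · exact (Subgroup.mem_center_iff.1 hz y)
    · group
  by_cases ha : a ^ p = 1
  · exact key a b ha hab
  by_cases hb : b ^ p = 1
  · exact key b a hb (Ne.symm hab)
  -- `b ^ p` is a power of `a ^ p`
  obtain ⟨m, hm⟩ : ∃ m : ℕ, (a ^ p) ^ m = (b ^ p)⁻¹ := by
    have h1 : (⟨a ^ p, hpow a⟩ : Subgroup.center P) ≠ 1 := fun h => ha (congrArg Subtype.val h)
    have h2 : (⟨(b ^ p)⁻¹, inv_mem (hpow b)⟩ : Subgroup.center P) ∈
        Submonoid.powers (⟨a ^ p, hpow a⟩ : Subgroup.center P) := by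
      have h3 := mem_zpowers_of_prime_card hk (g := ⟨a ^ p, hpow a⟩) (g' := ⟨(b ^ p)⁻¹, inv_mem (hpow b)⟩) h1
      exact mem_powers_iff_mem_zpowers.2 h3
    obtain ⟨m, hm⟩ := h2
    exact ⟨m, congrArg Subtype.val hm⟩
  set w := a ^ m with hw
  set c := w⁻¹ * b⁻¹ * w * b with hc
  have hcZ : c ∈ Subgroup.center P := hcomm b w
  have h1 : (b * w) ^ p = b ^ p * w ^ p * c ^ (p * (p - 1) / 2) := by
    refine mul_pow_of_central ?_ (Subgroup.mem_center_iff.1 hcZ b).symm (Subgroup.mem_center_iff.1 hcZ w).symm p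
    have h2 : w * b = b * w * (w⁻¹ * b⁻¹ * w * b) := by group
    rw [← hc] at h2
    exact h2
  have h2 : c ^ (p * (p - 1) / 2) = 1 := by
    have h3 : p ∣ p * (p - 1) / 2 := by
      obtain ⟨t, ht⟩ : 2 ∣ p - 1 := by
        rcases hp.eq_two_or_odd' with h | h
        · exact absurd h hp2
        · obtain ⟨s, hs⟩ := h
          exact ⟨s, by omega⟩
      rw [ht, show p * (2 * t) = 2 * (p * t) by ring, Nat.mul_div_cancel_left _ (by norm_num)]
      exact dvd_mul_right _ _
    obtain ⟨s, hs⟩ := h3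
    rw [hs, pow_mul, hzp c hcZ, one_pow]
  have h3 : (b * w) ^ p = 1 := by
    rw [h1, h2, mul_one, hw, ← pow_mul, mul_comm m p, pow_mul, hm, mul_inv_cancel]
  refine key (b * w) a h3 ?_
  intro h4
  apply hab
  have h5 : a * w = w * a := by rw [hw, ← pow_succ', ← pow_succ]
  have h6 : b * a * w = a * b * w := by
    calc b * a * w = b * (a * w) := mul_assoc _ _ _
      _ = b * w * a := by rw [h5]; group
      _ = a * (b * w) := h4
      _ = a * b * w := by group
  exact (mul_right_cancel h6).symm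

end Grp

/-! ### the idempotents -/

section Ring

variable (F : Type v) [Field F] {R : Type w} [Ring R] [Algebra F R] (p : ℕ)

/-- the average of the powers of `u` -/
noncomputable def av (u : R) : R := (p : F)⁻¹ • ∑ k ∈ range p, u ^ k

/-- the idempotent `av (x z^i) (1 - av z)` -/
noncomputable def fi (x z : R) (i : ℕ) : R := av F p (x * z ^ i) * (1 - av F p z)

variable {F p}

theorem mul_av {u : R} (hu : u ^ p = 1) : u * av F p u = av F p u := by
  rw [av, mul_smul_comm, mul_sum]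
  congr 1
  have h1 : ∑ k ∈ range p, u * u ^ k = ∑ k ∈ range p, u ^ (k + 1) := sum_congr rfl fun k _ => (pow_succ' u k).symm
  rw [h1]
  have h2 := sum_range_succ' (fun k => u ^ k) p
  rw [sum_range_succ, hu, pow_zero] at h2
  exact (add_right_cancel h2).symm

theorem av_mul_of_fix (hp : (p : F) ≠ 0) {u e : R} (h : u * e = e) : av F p u * e = e := by
  have h1 : ∀ k : ℕ, u ^ k * e = e := by
    intro k
    induction k with
    | zero => rw [pow_zero, one_mul]
    | succ k ih => rw [pow_succ, mul_assoc, h, ih]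
  rw [av, smul_mul_assoc, sum_mul, sum_congr rfl fun k _ => h1 k, sum_const, card_range, ← Nat.cast_smul_eq_nsmul F,
    smul_smul, inv_mul_cancel₀ hp, one_smul]

theorem av_one (hp : (p : F) ≠ 0) : av F p (1 : R) = 1 := by
  have := av_mul_of_fix (F := F) (p := p) hp (u := (1 : R)) (e := 1) (one_mul 1)
  rwa [mul_one] at this

theorem av_mul_av (hp : (p : F) ≠ 0) {u : R} (hu : u ^ p = 1) : av F p u * av F p u = av F p u :=
  av_mul_of_fix hp (mul_av hu)

theorem commute_av {u w : R} (h : Commute w u) : Commute w (av F p u) := by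
  rw [av]
  refine Commute.smul_right ?_ _
  exact Commute.sum_right _ _ _ fun k _ => h.pow_right k

/-- `z ^ k` fixes `e` and `k` is prime to `p` : `z` fixes `e` -/
theorem fix_of_pow {z e : R} (hz : z ^ p = 1) {k : ℕ} (hk : Nat.Coprime k p) (hp1 : 1 < p) (h : z ^ k * e = e) :
    z * e = e := by
  obtain ⟨m, hm⟩ := Nat.exists_mul_mod_eq_one_of_coprime hk hp1
  have h1 : ∀ m : ℕ, (z ^ k) ^ m * e = e := by
    intro m
    induction m with
    | zero => rw [pow_zero, one_mul]
    | succ m ih => rw [pow_succ, mul_assoc, h, ih]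
  have h2 : (z ^ k) ^ m = z := by
    rw [← pow_mul, ← Nat.div_add_mod (k * m) p, hm.2, pow_add, pow_mul, hz, one_pow, one_mul, pow_one]
  have := h1 m
  rwa [h2] at this

theorem semiconj_av {y u u' : R} (h : y * u = u' * y) : y * av F p u = av F p u' * y := by
  have h1 : SemiconjBy y u u' := h
  rw [av, av, mul_smul_comm, smul_mul_assoc, mul_sum, sum_mul]
  congr 1
  exact sum_congr rfl fun k _ => (h1.pow_right k).eq

variable {x y z : R}

theorem semiconj_fi (hyz : y * z = z * y) (hyx : y * x = x * z * y) (i : ℕ) :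
    y * fi F p x z i = fi F p x z (i + 1) * y := by
  have h1 : y * (x * z ^ i) = (x * z ^ (i + 1)) * y := by
    have h2 : y * z ^ i = z ^ i * y := ((show Commute y z from hyz).pow_right i).eq
    rw [← mul_assoc, hyx, mul_assoc, mul_assoc, h2, pow_succ']
    simp only [mul_assoc]
  have h2 : y * (1 - av F p z) = (1 - av F p z) * y := by
    rw [mul_sub, sub_mul, mul_one, one_mul, semiconj_av hyz]
  rw [fi, fi, ← mul_assoc, semiconj_av h1, mul_assoc, h2, mul_assoc]

theorem fi_add (hz : z ^ p = 1) (i : ℕ) : fi F p x z (i + p) = fi F p x z i := by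
  rw [fi, fi, pow_add, hz, mul_one]

end Ring

section CommRing

variable {F : Type v} [Field F] {R : Type w} [CommRing R] [Algebra F R] {p : ℕ} [hpr : Fact p.Prime]
  {x z : R}

theorem cr_av_mul_fi (hp : (p : F) ≠ 0) (hz : z ^ p = 1) (i : ℕ) : av F p z * fi F p x z i = 0 := by
  have h := av_mul_av (F := F) (p := p) hp hz
  rw [fi]
  linear_combination (-av F p (x * z ^ i)) * h

theorem cr_pow (hx : x ^ p = 1) (hz : z ^ p = 1) (i : ℕ) : (x * z ^ i) ^ p = 1 := by
  rw [mul_pow, hx, ← pow_mul, mul_comm i p, pow_mul, hz, one_pow, one_mul]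

theorem cr_fi_mul_self (hp : (p : F) ≠ 0) (hx : x ^ p = 1) (hz : z ^ p = 1) (i : ℕ) :
    fi F p x z i * fi F p x z i = fi F p x z i := by
  have h := av_mul_av (F := F) (p := p) hp hz
  have h1 := av_mul_av (F := F) (p := p) hp (cr_pow hx hz i)
  rw [fi]
  set A := av F p (x * z ^ i)
  set Z := av F p z
  linear_combination (1 - Z) ^ 2 * h1 + A * h

theorem cr_fi_mul_lt (hp : (p : F) ≠ 0) (hx : x ^ p = 1) (hz : z ^ p = 1) {i j : ℕ} (hij : i < j) (hj : j < p) :
    fi F p x z i * fi F p x z j = 0 := by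
  have h := av_mul_av (F := F) (p := p) hp hz
  have h1 := mul_av (F := F) (cr_pow hx hz i)
  have h2 := mul_av (F := F) (cr_pow hx hz j)
  set A := av F p (x * z ^ i) with hA
  set B := av F p (x * z ^ j) with hB
  set Z := av F p z with hZ
  -- `z ^ (j - i)` fixes `A * B`
  obtain ⟨k, rfl⟩ : ∃ k, j = i + k := ⟨j - i, by omega⟩
  have h3 : z ^ k * (A * B) = A * B := by
    calc z ^ k * (A * B) = z ^ k * ((x * z ^ i) * A * B) := by rw [h1]
      _ = A * ((x * z ^ (i + k)) * B) := by rw [pow_add]; ring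
      _ = A * B := by rw [h2]
  have h4 : z * (A * B) = A * B := by
    refine fix_of_pow hz ?_ hpr.out.one_lt h3
    exact (Nat.coprime_of_lt_prime (by omega) (by omega) hpr.out).symm
  have h5 : Z * (A * B) = A * B := av_mul_of_fix hp h4
  rw [fi, fi]
  linear_combination (-1 + Z) * h5

theorem cr_fi_mul (hp : (p : F) ≠ 0) (hx : x ^ p = 1) (hz : z ^ p = 1) {i j : ℕ} (hij : i ≠ j) (hi : i < p)
    (hj : j < p) : fi F p x z i * fi F p x z j = 0 := by
  rcases Nat.lt_or_gt_of_ne hij with h | h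
  · exact cr_fi_mul_lt hp hx hz h hj
  · rw [mul_comm]; exact cr_fi_mul_lt hp hx hz h hi

theorem cr_sum_fi (hp : (p : F) ≠ 0) (hz : z ^ p = 1) :
    ∑ i ∈ range p, fi F p x z i = 1 - av F p z := by
  have h := av_mul_av (F := F) (p := p) hp hz
  have h1 : ∑ i ∈ range p, av F p (x * z ^ i) = ∑ k ∈ range p, x ^ k * av F p (z ^ k) := by
    simp only [av]
    rw [← smul_sum, sum_comm]
    simp only [mul_smul_comm, mul_sum]
    rw [smul_sum]
    refine sum_congr rfl fun k _ => ?_
    congr 1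
    refine sum_congr rfl fun i _ => ?_
    rw [mul_pow, ← pow_mul, ← pow_mul, mul_comm k i]
  have h2 : ∀ k ∈ range p, x ^ k * av F p (z ^ k) * (1 - av F p z) = if k = 0 then 1 - av F p z else 0 := by
    intro k hk
    rw [mem_range] at hk
    by_cases hk0 : k = 0
    · subst hk0
      rw [if_pos rfl, pow_zero, pow_zero, av_one hp, one_mul, one_mul]
    · rw [if_neg hk0]
      have h3 : z * av F p (z ^ k) = av F p (z ^ k) := by
        refine fix_of_pow hz (Nat.coprime_of_lt_prime (by omega) hk hpr.out).symm hpr.out.one_lt (k := k) ?_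
        refine mul_av ?_
        rw [← pow_mul, mul_comm, pow_mul, hz, one_pow]
      have h4 := av_mul_of_fix (F := F) hp h3
      linear_combination (-x ^ k) * h4
  have h5 : ∑ i ∈ range p, fi F p x z i = (∑ i ∈ range p, av F p (x * z ^ i)) * (1 - av F p z) := by
    rw [sum_mul]; rfl
  rw [h5, h1, sum_mul, sum_congr rfl h2, sum_ite_eq']
  rw [if_pos (mem_range.2 hpr.out.pos)]

theorem cr_G_pow (hp : (p : F) ≠ 0) (hx : x ^ p = 1) (hz : z ^ p = 1) (i k : ℕ) :
    (1 + (z - 1) * fi F p x z i) ^ k = 1 + (z ^ k - 1) * fi F p x z i := by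
  have h := cr_fi_mul_self (F := F) hp hx hz i
  set f := fi F p x z i
  induction k with
  | zero => simp
  | succ k ih =>
    rw [pow_succ, ih, pow_succ]
    linear_combination ((z ^ k - 1) * (z - 1)) * h

end CommRing

section Transfer

variable {F : Type v} [Field F] {R : Type w} [Ring R] [Algebra F R] {p : ℕ}

theorem map_av {C : Type*} [Ring C] [Algebra F C] (φ : C →ₐ[F] R) (u : C) : φ (av F p u) = av F p (φ u) := by
  simp only [av, map_smul, map_sum, map_pow]

theorem map_fi {C : Type*} [Ring C] [Algebra F C] (φ : C →ₐ[F] R) (x z : C) (i : ℕ) :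
    φ (fi F p x z i) = fi F p (φ x) (φ z) i := by
  simp only [fi, map_mul, map_sub, map_one, map_av, map_pow]

/-- a commutative algebra containing two commuting elements -/
theorem exists_comm {x z : R} (hxz : x * z = z * x) : ∃ (C : Type w) (_ : CommRing C) (_ : Algebra F C) (φ : C →ₐ[F] R),
    Function.Injective φ ∧ ∃ x' z' : C, φ x' = x ∧ φ z' = z := by
  have hcomm : ∀ a ∈ ({x, z} : Set R), ∀ b ∈ ({x, z} : Set R), a * b = b * a := by
    rintro a (rfl | rfl) b (rfl | rfl)
    · rfl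
    · exact hxz
    · exact hxz.symm
    · rfl
  let inst := Algebra.adjoinCommRingOfComm F hcomm
  refine ⟨Algebra.adjoin F ({x, z} : Set R), inst, inferInstanceAs (Algebra F (Algebra.adjoin F ({x, z} : Set R))),
    (Algebra.adjoin F ({x, z} : Set R)).val, Subtype.val_injective,
    ⟨x, Algebra.subset_adjoin (by simp)⟩, ⟨z, Algebra.subset_adjoin (by simp)⟩, rfl, rfl⟩

variable [hpr : Fact p.Prime] {x z : R}

/-- all identities in one statement -/
theorem facts (hp : (p : F) ≠ 0) (hx : x ^ p = 1) (hz : z ^ p = 1) (hxz : x * z = z * x) :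
    (∀ i, av F p z * fi F p x z i = 0) ∧ (∀ i, fi F p x z i * fi F p x z i = fi F p x z i) ∧
    (∀ i j, i ≠ j → i < p → j < p → fi F p x z i * fi F p x z j = 0) ∧
    (∑ i ∈ range p, fi F p x z i = 1 - av F p z) ∧
    (∀ i k, (1 + (z - 1) * fi F p x z i) ^ k = 1 + (z ^ k - 1) * fi F p x z i) ∧
    (∀ i, z * fi F p x z i = fi F p x z i * z) ∧
    (∀ i j, (1 + (z - 1) * fi F p x z i) * (1 + (z - 1) * fi F p x z j) =
      (1 + (z - 1) * fi F p x z j) * (1 + (z - 1) * fi F p x z i)) := by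
  obtain ⟨C, _, _, φ, hφ, x', z', rfl, rfl⟩ := exists_comm (F := F) hxz
  have hx' : x' ^ p = 1 := hφ (by rw [map_pow, hx, map_one])
  have hz' : z' ^ p = 1 := hφ (by rw [map_pow, hz, map_one])
  refine ⟨fun i => ?_, fun i => ?_, fun i j hij hi hj => ?_, ?_, fun i k => ?_, fun i => ?_, fun i j => ?_⟩
  · rw [← map_av, ← map_fi, ← map_mul, cr_av_mul_fi hp hz', map_zero]
  · rw [← map_fi, ← map_mul, cr_fi_mul_self hp hx' hz']
  · rw [← map_fi, ← map_fi, ← map_mul, cr_fi_mul hp hx' hz' hij hi hj, map_zero]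
  · rw [← map_av, ← map_one φ, ← map_sub, ← cr_sum_fi hp hz', map_sum]
    exact sum_congr rfl fun i _ => (map_fi φ x' z' i).symm
  · rw [← map_fi, ← map_one φ, ← map_sub, ← map_mul, ← map_add, ← map_pow, cr_G_pow hp hx' hz', ← map_pow,
      ← map_sub, ← map_mul, ← map_add]
  · rw [← map_fi, ← map_mul, ← map_mul, mul_comm]
  · rw [← map_fi, ← map_fi, ← map_one φ, ← map_sub, ← map_mul, ← map_mul, ← map_add, ← map_add, ← map_mul,
      ← map_mul, mul_comm]

/-- the idempotents are not zero -/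
theorem fi_ne_zero (hp : (p : F) ≠ 0) (hx : x ^ p = 1) (hz : z ^ p = 1) (hz1 : z ≠ 1) (hxz : x * z = z * x)
    {y y' : R} (hy : y' * y = 1) (hy2 : y * y' = 1) (hyz : y * z = z * y) (hyx : y * x = x * z * y) (i : ℕ) :
    fi F p x z i ≠ 0 := by
  intro h0
  have h1 : ∀ k, fi F p x z (i + k) = 0 := by
    intro k
    induction k with
    | zero => exact h0
    | succ k ih =>
      have h2 := semiconj_fi (F := F) (p := p) hyz hyx (i + k)
      rw [ih, mul_zero] at h2
      have h3 : fi F p x z (i + k + 1) = fi F p x z (i + k + 1) * y * y' := by rw [mul_assoc, hy2, mul_one]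
      rw [← h2, zero_mul] at h3
      exact h3
  have h2 : ∀ j, fi F p x z j = 0 := by
    intro j
    have h3 : ∀ m, fi F p x z (j + m * p) = fi F p x z j := by
      intro m
      induction m with
      | zero => rw [zero_mul, add_zero]
      | succ m ih => rw [show j + (m + 1) * p = (j + m * p) + p by ring, fi_add hz, ih]
    rw [← h3 i]
    have h4 : ∃ k, j + i * p = i + k := by
      have : i ≤ i * p := Nat.le_mul_of_pos_right _ hpr.out.pos
      exact ⟨j + i * p - i, by omega⟩
    obtain ⟨k, hk⟩ := h4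
    rw [hk]; exact h1 k
  obtain ⟨-, -, -, h3, -⟩ := facts (F := F) hp hx hz hxz
  rw [sum_congr rfl fun j _ => h2 j, sum_const_zero] at h3
  have h4 : av F p z = 1 := (sub_eq_zero.1 h3.symm).symm
  have h5 := mul_av (F := F) hz
  rw [h4, mul_one] at h5
  exact hz1 h5

end Transfer

/-! ### the main statements -/

section Main

variable {X : Type u} [Group X]

/-- three commuting elements of order `p`, separated by subgroups, generate a commutative group of order `≥ p³` -/
theorem chain [Finite X] {p : ℕ} [hpr : Fact p.Prime] (hE : Ext p X) {h₀ h₁ h₂ : X}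
    (h01 : h₀ * h₁ = h₁ * h₀) (h02 : h₀ * h₂ = h₂ * h₀) (h12 : h₁ * h₂ = h₂ * h₁)
    (p0 : h₀ ^ p = 1) (p1 : h₁ ^ p = 1) (p2 : h₂ ^ p = 1) (S₁ S₂ : Subgroup X) (n0 : h₀ ≠ 1)
    (m1 : h₀ ∈ S₁) (n1 : h₁ ∉ S₁) (m2 : h₀ ∈ S₂) (m2' : h₁ ∈ S₂) (n2 : h₂ ∉ S₂) : False := by
  have hp : p.Prime := hpr.out
  set A := Subgroup.closure ({h₀, h₁, h₂} : Set X) with hA
  have hcomm : ∀ a ∈ ({h₀, h₁, h₂} : Set X), ∀ b ∈ ({h₀, h₁, h₂} : Set X), a * b = b * a := by
    rintro a (rfl | rfl | rfl) b (rfl | rfl | rfl) <;> first | rfl | assumption | (symm; assumption)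
  have hAc : ∀ a ∈ A, ∀ b ∈ A, a * b = b * a := by
    intro a ha b hb
    have h1 : A ≤ Subgroup.centralizer (A : Set X) := by
      rw [hA, Subgroup.closure_le]
      intro s hs
      rw [SetLike.mem_coe, Subgroup.mem_centralizer_iff]
      intro t ht
      have h2 : A ≤ Subgroup.centralizer ({s} : Set X) := by
        rw [hA, Subgroup.closure_le]
        intro r hr
        rw [SetLike.mem_coe, Subgroup.mem_centralizer_singleton_iff]
        exact hcomm _ hr _ hs
      exact (Subgroup.mem_centralizer_singleton_iff.1 (h2 ht))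
    exact (Subgroup.mem_centralizer_iff.1 (h1 hb) a ha)
  have g0 : h₀ ∈ A := Subgroup.subset_closure (by simp)
  have g1 : h₁ ∈ A := Subgroup.subset_closure (by simp)
  have g2 : h₂ ∈ A := Subgroup.subset_closure (by simp)
  have hexp : ∀ a ∈ A, a ^ p = 1 := by
    intro a ha
    refine Subgroup.closure_induction (p := fun a _ => a ^ p = 1) ?_ (one_pow p) ?_ ?_ ha
    · rintro a (rfl | rfl | rfl) <;> assumption
    · intro a b ha hb ha' hb'
      rw [(show Commute a b from hAc a ha b hb).mul_pow, ha', hb', one_mul]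
    · intro a _ ha'
      rw [inv_pow, ha', inv_one]
  have hAp : IsPGroup p A := fun a => ⟨1, by
    rw [pow_one]; exact Subtype.ext (hexp a.1 a.2)⟩
  -- orders
  have grow : ∀ H K : Subgroup X, K ≤ A → H < K → ∀ i, p ^ i ≤ Nat.card H → p ^ (i + 1) ≤ Nat.card K := by
    intro H K hK hHK i hi
    have hHp : IsPGroup p H := hAp.to_le (hHK.le.trans hK)
    have hKp : IsPGroup p K := hAp.to_le hK
    obtain ⟨a, ha⟩ := IsPGroup.iff_card.1 hHp
    obtain ⟨b, hb⟩ := IsPGroup.iff_card.1 hKp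
    have h1 : Nat.card H < Nat.card K := by
      by_contra hcon
      exact hHK.ne (Subgroup.eq_of_le_of_card_ge hHK.le (not_lt.1 hcon))
    rw [ha] at hi
    rw [ha, hb] at h1
    have h2 : i ≤ a := (Nat.pow_le_pow_iff_right hp.one_lt).1 hi
    have h3 : a < b := (Nat.pow_lt_pow_iff_right hp.one_lt).1 h1
    rw [hb]
    exact Nat.pow_le_pow_right hp.pos (by omega)
  have c0 : p ^ 0 ≤ Nat.card (⊥ : Subgroup X) := by simp
  have c1 := grow ⊥ (A ⊓ S₂ ⊓ S₁) (inf_le_left.trans inf_le_left) (bot_lt_iff_ne_bot.2 fun h => n0 (by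
    have : h₀ ∈ A ⊓ S₂ ⊓ S₁ := ⟨⟨g0, m2⟩, m1⟩
    rw [h] at this
    exact Subgroup.mem_bot.1 this)) 0 c0
  have c2 := grow (A ⊓ S₂ ⊓ S₁) (A ⊓ S₂) inf_le_left (lt_of_le_of_ne inf_le_left fun h => n1 (by
    have : h₁ ∈ A ⊓ S₂ := ⟨g1, m2'⟩
    rw [← h] at this
    exact this.2)) 1 c1
  have c3 := grow (A ⊓ S₂) A le_rfl (lt_of_le_of_ne inf_le_left fun h => n2 (by
    have : h₂ ∈ A := g2
    rw [← h] at this
    exact this.2)) 2 c2
  obtain ⟨a, ha, b, hb, hab⟩ := hE.exists_ne hAp c3
  exact hab (hAc a ha b hb)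

variable {F : Type v} [Field F] {R : Type w} [Ring R] [Algebra F R] {p : ℕ} [hpr : Fact p.Prime]

/-- the stabilizer of `e` -/
def stab (ρ : X →* R) (e : R) : Subgroup X where
  carrier := {g | ρ g * e = e}
  one_mem' := by simp
  mul_mem' {a b} ha hb := by
    simp only [Set.mem_setOf_eq] at ha hb ⊢
    rw [map_mul, mul_assoc, hb, ha]
  inv_mem' {a} ha := by
    simp only [Set.mem_setOf_eq] at ha ⊢
    calc ρ a⁻¹ * e = ρ a⁻¹ * (ρ a * e) := by rw [ha]
      _ = e := by rw [← mul_assoc, ← map_mul, inv_mul_cancel, map_one, one_mul]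

theorem mem_stab {ρ : X →* R} {e : R} {g : X} : g ∈ stab ρ e ↔ ρ g * e = e := Iff.rfl

/-- the closure property -/
def Cl (F : Type v) [Field F] [Algebra F R] (p : ℕ) (ρ : X →* R) : Prop :=
  ∀ x z : X, x ^ p = 1 → z ^ p = 1 → x * z = z * x → ∀ i, ∃ g : X, ρ g = 1 + (ρ z - 1) * fi F p (ρ x) (ρ z) i

/-- the elements `x y z` -/
theorem exists_triple [Finite X] (hp2 : p ≠ 2) (hE : Ext p X) : ∃ x y z : X, x ^ p = 1 ∧ z ^ p = 1 ∧ z ≠ 1 ∧
    x * z = z * x ∧ y * z = z * y ∧ y * x = x * z * y := by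
  have hp : p.Prime := hpr.out
  obtain ⟨A, hA⟩ := Sylow.exists_subgroup_card_pow_prime p hE.dvd
  obtain ⟨a, ha, b, hb, hab⟩ := hE.noncomm A hA
  obtain ⟨x, y, z, h1, h2, h3, h4, h5, h6⟩ := exists_xyz (P := A) hp2 hA (a := ⟨a, ha⟩) (b := ⟨b, hb⟩)
    (fun h => hab (congrArg Subtype.val h))
  exact ⟨x, y, z, congrArg Subtype.val h1, congrArg Subtype.val h2, fun h => h3 (Subtype.ext h),
    congrArg Subtype.val h4, congrArg Subtype.val h5, congrArg Subtype.val h6⟩

/-- the elements `g i` -/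
theorem exists_g [Finite X] (hpF : (p : F) ≠ 0) (ρ : X →* R) (hρ : Function.Injective ρ)
    {x y z : X} (h1 : x ^ p = 1) (h2 : z ^ p = 1) (h3 : z ≠ 1)
    (h4 : x * z = z * x) (h5 : y * z = z * y) (h6 : y * x = x * z * y) (hcl : Cl F p ρ) :
    ∃ (g : ℕ → X) (f : ℕ → R), (∀ i, f i ≠ 0) ∧ (∀ i j, g i * g j = g j * g i) ∧ (∀ i, g i ^ p = 1) ∧
      (∀ i j, i ≠ j → i < p → j < p → ρ (g i) * f j = f j) ∧ (∀ i, ρ (g i) * f i ≠ f i) ∧
      (∀ i, g (i + 1) = y * g i * y⁻¹) := by
  have r1 : ρ x ^ p = 1 := by rw [← map_pow, h1, map_one]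
  have r2 : ρ z ^ p = 1 := by rw [← map_pow, h2, map_one]
  have r3 : ρ z ≠ 1 := fun h => h3 (hρ (by rw [h, map_one]))
  have r4 : ρ x * ρ z = ρ z * ρ x := by rw [← map_mul, h4, map_mul]
  have r5 : ρ y * ρ z = ρ z * ρ y := by rw [← map_mul, h5, map_mul]
  have r6 : ρ y * ρ x = ρ x * ρ z * ρ y := by rw [← map_mul, h6, map_mul, map_mul]
  have r7 : ρ y⁻¹ * ρ y = 1 := by rw [← map_mul, inv_mul_cancel, map_one]
  have r8 : ρ y * ρ y⁻¹ = 1 := by rw [← map_mul, mul_inv_cancel, map_one]
  obtain ⟨f1, f2, f3, f4, f5, f6, f7⟩ := facts (F := F) hpF r1 r2 r4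
  have f8 := fi_ne_zero (F := F) hpF r1 r2 r3 r4 r7 r8 r5 r6
  choose g hg using hcl x z h1 h2 h4
  refine ⟨g, fi F p (ρ x) (ρ z), f8, fun i j => hρ ?_, fun i => hρ ?_, fun i j hij hi hj => ?_, fun i h => ?_,
    fun i => hρ ?_⟩
  · rw [map_mul, map_mul, hg, hg, f7]
  · rw [map_pow, hg, f5, r2, sub_self, zero_mul, add_zero, map_one]
  · rw [hg, add_mul, one_mul, mul_assoc, f3 i j hij hi hj, mul_zero, add_zero]
  · rw [hg, add_mul, one_mul, mul_assoc, f2, sub_mul, one_mul] at h
    have h7 : ρ z * fi F p (ρ x) (ρ z) i = fi F p (ρ x) (ρ z) i := by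
      have h8 := h
      rw [add_sub_cancel] at h8
      exact h8
    have h9 := av_mul_of_fix (F := F) hpF h7
    rw [f1] at h9
    exact f8 i h9.symm
  · have h7 : ρ (g (i + 1)) * ρ y = ρ y * ρ (g i) := by
      rw [hg, hg, add_mul, mul_add, one_mul, mul_one, mul_assoc, ← semiconj_fi r5 r6, ← mul_assoc, ← mul_assoc, sub_mul,
        mul_sub, one_mul, mul_one, r5]
    rw [map_mul, map_mul, ← h7, mul_assoc, r8, mul_one]

/-- **Theorem A.** -/
theorem main [Finite X] (hp2 : p ≠ 2) (hpF : (p : F) ≠ 0) (ρ : X →* R) (hρ : Function.Injective ρ)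
    (hcl : Cl F p ρ) : ¬ Ext p X := by
  intro hE
  obtain ⟨x, y, z, h1, h2, h3, h4, h5, h6⟩ := exists_triple hp2 hE
  obtain ⟨g, f, a1, a2, a3, a4, a5, -⟩ := exists_g hpF ρ hρ h1 h2 h3 h4 h5 h6 hcl
  have hp3 : 3 ≤ p := by
    have := hpr.out.two_le
    omega
  refine chain hE (a2 0 1) (a2 0 2) (a2 1 2) (a3 0) (a3 1) (a3 2) (stab ρ (f 1)) (stab ρ (f 2)) ?_ ?_ ?_ ?_ ?_ ?_
  · intro h
    apply a5 0
    rw [h, map_one, one_mul]
  · exact a4 0 1 (by norm_num) (by omega) (by omega)
  · exact a5 1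
  · exact a4 0 2 (by norm_num) (by omega) (by omega)
  · exact a4 1 2 (by norm_num) (by omega) (by omega)
  · exact a5 2

/-- **Theorem B.** the commutator subgroup of a group closed under the construction, `p ≥ 5` -/
theorem main_comm [Finite X] (hp5 : 5 ≤ p) (hpF : (p : F) ≠ 0) (ρ : X →* R) (hρ : Function.Injective ρ)
    (hcl : Cl F p ρ) {Y : Subgroup X} (hY : commutator X ≤ Y) : ¬ Ext p Y := by
  intro hE
  obtain ⟨x, y, z, h1, h2, h3, h4, h5, h6⟩ := exists_triple (by omega) hE
  obtain ⟨g, f, a1, a2, a3, a4, a5, a6⟩ := exists_g (x := (x : X)) (y := y) (z := z) hpF ρ hρ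
    (congrArg Subtype.val h1) (congrArg Subtype.val h2) (fun h => h3 (Subtype.ext h))
    (congrArg Subtype.val h4) (congrArg Subtype.val h5) (congrArg Subtype.val h6) hcl
  have hg : ∀ i, g (i + 1) * (g i)⁻¹ ∈ Y := by
    intro i
    apply hY
    rw [a6]
    exact Subgroup.commutator_mem_commutator (Subgroup.mem_top (y : X)) (Subgroup.mem_top (g i))
  let h : ℕ → Y := fun i => ⟨g (i + 1) * (g i)⁻¹, hg i⟩
  have c : ∀ i j, Commute (g i) (g j) := a2
  have hc : ∀ i j, Commute (g (i + 1) * (g i)⁻¹) (g (j + 1) * (g j)⁻¹) := fun i j =>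
    ((c _ _).mul_left (c _ _).inv_left).mul_right ((c _ _).mul_left (c _ _).inv_left).inv_right
  have hh : ∀ i j, h i * h j = h j * h i := fun i j => Subtype.ext (hc i j).eq
  have hp' : ∀ i, h i ^ p = 1 := fun i => Subtype.ext (by
    change (g (i + 1) * (g i)⁻¹) ^ p = 1
    rw [((c (i + 1) i).inv_right).mul_pow, inv_pow, a3, a3, inv_one, one_mul])
  -- membership
  have k0 : ∀ i j, i < p → j < p → i ≠ j → g i ∈ stab ρ (f j) := fun i j hi hj hij => a4 i j hij hi hj
  have k1 : ∀ i, g i ∉ stab ρ (f i) := fun i => a5 i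
  have k2 : ∀ i j, i + 1 < p → j < p → i ≠ j → i + 1 ≠ j → h i ∈ (stab ρ (f j)).subgroupOf Y := by
    intro i j hi hj h7 h8
    rw [Subgroup.mem_subgroupOf]
    exact mul_mem (k0 _ _ hi hj h8) (inv_mem (k0 _ _ (by omega) hj h7))
  have k3 : ∀ i, i + 1 < p → h i ∉ (stab ρ (f (i + 1))).subgroupOf Y := by
    intro i hi h7
    rw [Subgroup.mem_subgroupOf] at h7
    apply k1 (i + 1)
    have h8 : g i ∈ stab ρ (f (i + 1)) := k0 _ _ (by omega) hi (by omega)
    have := mul_mem h7 h8
    change g (i + 1) * (g i)⁻¹ * g i ∈ _ at this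
    rwa [inv_mul_cancel_right] at this
  refine chain hE (hh 0 1) (hh 0 2) (hh 1 2) (hp' 0) (hp' 1) (hp' 2) ((stab ρ (f 2)).subgroupOf Y)
    ((stab ρ (f 3)).subgroupOf Y) ?_ (k2 0 2 (by omega) (by omega) (by omega) (by omega)) (k3 1 (by omega))
    (k2 0 3 (by omega) (by omega) (by omega) (by omega)) (k2 1 3 (by omega) (by omega) (by omega) (by omega))
    (k3 2 (by omega))
  intro h7
  apply k3 0 (by omega)
  rw [h7]
  exact one_mem _

/-- **Theorem C.** the dimension bound -/
theorem p_le [Finite X] (hp2 : p ≠ 2) (hpF : (p : F) ≠ 0) {ι : Type*} [Fintype ι] [DecidableEq ι]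
    (ρ : X →* Matrix ι ι F) (hρ : Function.Injective ρ) (hE : Ext p X) : p ≤ Fintype.card ι := by
  obtain ⟨x, y, z, h1, h2, h3, h4, h5, h6⟩ := exists_triple hp2 hE
  have r1 : ρ x ^ p = 1 := by rw [← map_pow, h1, map_one]
  have r2 : ρ z ^ p = 1 := by rw [← map_pow, h2, map_one]
  have r3 : ρ z ≠ 1 := fun h => h3 (hρ (by rw [h, map_one]))
  have r4 : ρ x * ρ z = ρ z * ρ x := by rw [← map_mul, h4, map_mul]
  have r5 : ρ y * ρ z = ρ z * ρ y := by rw [← map_mul, h5, map_mul]
  have r6 : ρ y * ρ x = ρ x * ρ z * ρ y := by rw [← map_mul, h6, map_mul, map_mul]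
  have r7 : ρ y⁻¹ * ρ y = 1 := by rw [← map_mul, inv_mul_cancel, map_one]
  have r8 : ρ y * ρ y⁻¹ = 1 := by rw [← map_mul, mul_inv_cancel, map_one]
  obtain ⟨f1, f2, f3, f4, f5, f6, f7⟩ := facts (F := F) hpF r1 r2 r4
  have f8 := fi_ne_zero (F := F) hpF r1 r2 r3 r4 r7 r8 r5 r6
  have hv : ∀ i : Fin p, ∃ v : ι → F, (fi F p (ρ x) (ρ z) i) *ᵥ v ≠ 0 := by
    intro i
    by_contra hcon
    push Not at hcon
    apply f8 i
    exact Matrix.toLin'.injective (LinearMap.ext fun v => by
      rw [Matrix.toLin'_apply, hcon v, map_zero]; rfl)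
  choose v hv using hv
  have hli : LinearIndependent F (fun i : Fin p => (fi F p (ρ x) (ρ z) i) *ᵥ v i) := by
    rw [Fintype.linearIndependent_iff]
    intro c hc j
    have h7 := congrArg (fun w => (fi F p (ρ x) (ρ z) j) *ᵥ w) hc
    simp only [Matrix.mulVec_sum, Matrix.mulVec_smul, Matrix.mulVec_mulVec, Matrix.mulVec_zero] at h7
    rw [Finset.sum_eq_single j] at h7
    · rw [f2] at h7
      exact (smul_eq_zero.1 h7).resolve_right (hv j)
    · intro i _ hij
      rw [f3 j i (fun h => hij (Fin.ext h.symm)) j.2 i.2, Matrix.zero_mulVec, smul_zero]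
    · intro h; exact absurd (Finset.mem_univ j) h
  have := hli.fintype_card_le_finrank
  rwa [Fintype.card_fin, Module.finrank_fintype_fun_eq_card] at this

end Main

end Cfsg.Agent.H92.ExtLin
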