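import Mathlib.GroupTheory.Sylow
import Cfsg.Prelude.Def_Transfer

/-!
# Nonabelian Sylow `p`-subgroups of order `p³` (S2215)

`Ext p G` : `p³` is the `p`-part of the order of `G` and no subgroup of order `p³` is commutative.
-/

set_option autoImplicit false

namespace Cfsg.Agent.H92.ExtP

universe u v

/-- the Sylow `p`-subgroups of `G` are nonabelian of order `p³` -/
structure Ext (p : ℕ) (G : Type u) [Group G] : Prop where
  dvd : p ^ 3 ∣ Nat.card G
  not_dvd : ¬ p ^ 4 ∣ Nat.card G
  noncomm : ∀ A : Subgroup G, Nat.card A = p ^ 3 → ∃ a ∈ A, ∃ b ∈ A, a * b ≠ b * a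

variable {p : ℕ} {G : Type u} [Group G] {H : Type v} [Group H]

theorem Ext.congr (e : G ≃* H) (h : Ext p G) : Ext p H where
  dvd := by rw [← Nat.card_congr e.toEquiv]; exact h.dvd
  not_dvd := by rw [← Nat.card_congr e.toEquiv]; exact h.not_dvd
  noncomm A hA := by
    obtain ⟨a, ha, b, hb, hab⟩ := h.noncomm (A.comap e.toMonoidHom) (by
      rw [← hA]
      refine Nat.card_congr (e.toEquiv.subtypeEquiv fun a => ?_)
      rfl)
    exact ⟨e a, ha, e b, hb, fun h2 => hab (e.injective (by rw [map_mul, map_mul, h2]))⟩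

/-- every `p`-subgroup of order at least `p³` has order `p³` and is not commutative -/
theorem Ext.exists_ne [Finite G] [Fact p.Prime] (h : Ext p G) {A : Subgroup G} (hA : IsPGroup p A)
    (h3 : p ^ 3 ≤ Nat.card A) : ∃ a ∈ A, ∃ b ∈ A, a * b ≠ b * a := by
  have hp : p.Prime := Fact.out
  obtain ⟨k, hk⟩ := IsPGroup.iff_card.1 hA
  have h1 : k < 4 := by
    by_contra h4
    exact h.not_dvd ((pow_dvd_pow p (not_lt.1 h4)).trans (hk ▸ Subgroup.card_subgroup_dvd_card A))
  have h2 : 3 ≤ k := by
    rw [hk] at h3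
    exact (Nat.pow_le_pow_iff_right hp.one_lt).1 h3
  exact h.noncomm A (by rw [hk, show k = 3 by omega])

theorem of_sylow [Finite G] [Fact p.Prime] (S : Sylow p G) (hS : Cfsg.IsExtraspecial p ↥(S : Subgroup G))
    (hS3 : Nat.card (S : Subgroup G) = p ^ 3) : Ext p G := by
  have hp : p.Prime := Fact.out
  have h1 : Nat.card (S : Subgroup G) = p ^ (Nat.card G).factorization p := S.card_eq_multiplicity
  have h2 : (Nat.card G).factorization p = 3 := Nat.pow_right_injective hp.two_le (h1.symm.trans hS3)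
  refine ⟨?_, ?_, ?_⟩
  · rw [← hS3]; exact Subgroup.card_subgroup_dvd_card _
  · intro h4
    have := (hp.pow_dvd_iff_le_factorization Nat.card_pos.ne').1 h4
    omega
  · intro A hA
    have hAp : IsPGroup p A := IsPGroup.of_card hA
    obtain ⟨Q, hQ⟩ := hAp.exists_le_sylow
    have hQc : Nat.card (Q : Subgroup G) = p ^ 3 := by rw [Q.card_eq_multiplicity, h2]
    have hAQ : A = (Q : Subgroup G) := Subgroup.eq_of_le_of_card_ge hQ (by rw [hA, hQc])
    by_contra hcon
    push Not at hcon
    have hcomm : ∀ a b : ↥(Q : Subgroup G), a * b = b * a := fun a b =>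
      Subtype.ext (hcon a.1 (hAQ ▸ a.2) b.1 (hAQ ▸ b.2))
    have e : ↥(Q : Subgroup G) ≃* ↥(S : Subgroup G) := Q.equiv S
    have hcomm' : ∀ a b : ↥(S : Subgroup G), a * b = b * a := fun a b => by
      have := hcomm (e.symm a) (e.symm b)
      have := congrArg e this
      simpa using this
    have h3 : Subgroup.center ↥(S : Subgroup G) = ⊤ := by
      rw [eq_top_iff]
      intro a _
      exact Subgroup.mem_center_iff.2 fun b => hcomm' b a
    have h4 := hS.2
    rw [h3, Subgroup.card_top, hS3] at h4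
    have h5 : p ^ 3 = p ^ 1 := by rw [pow_one]; exact h4
    exact absurd (Nat.pow_right_injective hp.two_le h5) (by norm_num)

/-- quotient of order prime to `p`, or central kernel: the nonabelian `p`-subgroup lifts -/
theorem Ext.exists_lift [Finite G] [Finite H] [Fact p.Prime] (h : Ext p G) (f : H →* G)
    (hf : Function.Surjective f) : ∃ P : Subgroup H, IsPGroup p P ∧ p ^ 3 ≤ Nat.card P ∧
      ∃ a ∈ P, ∃ b ∈ P, f a * f b ≠ f b * f a := by
  have hp : p.Prime := Fact.out
  obtain ⟨S⟩ : Nonempty (Sylow p H) := inferInstance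
  have hS : IsPGroup p ((S : Subgroup H).map f) := S.2.map f
  have hidx : ¬ p ∣ ((S : Subgroup H).map f).index := by
    intro hd
    have h1 : ((S : Subgroup H).map f).index ∣ (S : Subgroup H).index := Subgroup.index_map_dvd _ hf
    exact S.not_dvd_index (hd.trans h1)
  have h3 : p ^ 3 ∣ Nat.card ↥((S : Subgroup H).map f) := by
    have h2 := h.dvd
    rw [← Subgroup.card_mul_index ((S : Subgroup H).map f)] at h2
    exact (Nat.Coprime.pow_left 3 ((Nat.Prime.coprime_iff_not_dvd hp).2 hidx)).dvd_of_dvd_mul_right h2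
  obtain ⟨a, ⟨a', ha', rfl⟩, b, ⟨b', hb', rfl⟩, hab⟩ := h.exists_ne hS (Nat.le_of_dvd Nat.card_pos h3)
  refine ⟨S, S.2, ?_, a', ha', b', hb', hab⟩
  refine (Nat.le_of_dvd Nat.card_pos h3).trans (Nat.le_of_dvd Nat.card_pos ?_)
  exact Subgroup.card_map_dvd _ _

end Cfsg.Agent.H92.ExtP
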