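import Cfsg.Agent.H92.PRegNum

/-!
# `E₆(q)`, `²E₆(q)`: the number theory (helper92, for S4883)

`x = q` for `E₆(q)`, `x = -q` for `²E₆(q)`.
-/

set_option autoImplicit false
set_option linter.unusedSectionVars false

namespace Cfsg.Agent.H92.PRegE6

open Cfsg.Agent.H93.PReg Cfsg.Agent.H92.PRegT Cfsg.Agent.H92.KTools Cfsg.Agent.H92.PRegNum

universe u

/-- the order polynomial -/
def P6 (x : ℤ) : ℤ := x ^ 36 * (x ^ 12 - 1) * (x ^ 9 - 1) * (x ^ 8 - 1) * (x ^ 6 - 1) * (x ^ 5 - 1) * (x ^ 2 - 1)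

theorem bound {x y P : ℤ} (hy : 2 ≤ y) (hxy : x = y ∨ x = -y) (hP : Prime P) (h : P ^ 2 ∣ P6 x)
    (hs9 : ¬ P ^ 2 ∣ x ^ 6 + x ^ 3 + 1) : P ≤ y ^ 2 + y + 1 := by
  by_contra hlt
  push Not at hlt
  have hy2 : 4 ≤ y ^ 2 := by nlinarith
  have hPx : y ^ 2 + y + 2 ≤ P := by omega
  have hy3 : 0 < y ^ 3 := pow_pos (by omega) 3
  have hP2 : (y ^ 2 + y + 2) ^ 2 ≤ P ^ 2 := pow_le_pow_left₀ (by nlinarith) hPx 2
  have n0 : ¬ P ∣ x := nd_abs (by rcases hxy with rfl | rfl <;> omega)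
    (by rcases hxy with rfl | rfl <;> rw [abs_lt] <;> constructor <;> nlinarith)
  have n1 : ¬ P ∣ x - 1 := nd_abs (by rcases hxy with rfl | rfl <;> omega)
    (by rcases hxy with rfl | rfl <;> rw [abs_lt] <;> constructor <;> nlinarith)
  have n2 : ¬ P ∣ x + 1 := nd_abs (by rcases hxy with rfl | rfl <;> omega)
    (by rcases hxy with rfl | rfl <;> rw [abs_lt] <;> constructor <;> nlinarith)
  have n3 : ¬ P ∣ x ^ 2 + x + 1 := nd_lt (by rcases hxy with rfl | rfl <;> nlinarith)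
    (by rcases hxy with rfl | rfl <;> nlinarith)
  have n6 : ¬ P ∣ x ^ 2 - x + 1 := nd_lt (by rcases hxy with rfl | rfl <;> nlinarith)
    (by rcases hxy with rfl | rfl <;> nlinarith)
  have n4 : ¬ P ∣ x ^ 2 + 1 := nd_lt (by rcases hxy with rfl | rfl <;> nlinarith)
    (by rcases hxy with rfl | rfl <;> nlinarith)
  have s5 : ¬ P ^ 2 ∣ x ^ 4 + x ^ 3 + x ^ 2 + x + 1 := nd_lt (by nlinarith [sq_nonneg (x ^ 2 + x), sq_nonneg (x + 1), sq_nonneg x])
    (lt_of_lt_of_le (by rcases hxy with rfl | rfl <;> nlinarith [hy2, hy3]) hP2)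
  have s8 : ¬ P ^ 2 ∣ x ^ 4 + 1 := nd_lt (by positivity)
    (lt_of_lt_of_le (by rcases hxy with rfl | rfl <;> nlinarith [hy2, hy3]) hP2)
  have s12 : ¬ P ^ 2 ∣ x ^ 4 - x ^ 2 + 1 := nd_lt (by nlinarith [sq_nonneg (x ^ 2 - 1), sq_nonneg (x ^ 2)])
    (lt_of_lt_of_le (by rcases hxy with rfl | rfl <;> nlinarith [hy2, hy3]) hP2)
  have N1 : ¬ P ∣ x ^ 1 - 1 := by rwa [pow_one]
  have N2 : ¬ P ∣ x ^ 2 - 1 := by
    rw [show x ^ 2 - 1 = (x - 1) * (x + 1) by ring]; exact nd_mul hP n1 n2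
  have N3 : ¬ P ∣ x ^ 3 - 1 := by
    rw [show x ^ 3 - 1 = (x - 1) * (x ^ 2 + x + 1) by ring]; exact nd_mul hP n1 n3
  have N4 : ¬ P ∣ x ^ 4 - 1 := by
    rw [show x ^ 4 - 1 = (x ^ 2 - 1) * (x ^ 2 + 1) by ring]; exact nd_mul hP N2 n4
  have N6 : ¬ P ∣ x ^ 6 - 1 := by
    rw [show x ^ 6 - 1 = (x ^ 3 - 1) * ((x + 1) * (x ^ 2 - x + 1)) by ring]; exact nd_mul hP N3 (nd_mul hP n2 n6)
  have sq : ∀ {a : ℤ}, ¬ P ∣ a → ¬ P ^ 2 ∣ a := fun ha h => ha ((dvd_pow_self P two_ne_zero).trans h)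
  have S5 : ¬ P ^ 2 ∣ x ^ 5 - 1 := by
    rw [show x ^ 5 - 1 = (x - 1) * (x ^ 4 + x ^ 3 + x ^ 2 + x + 1) by ring]; exact not_sq hP n1 s5
  have S8 : ¬ P ^ 2 ∣ x ^ 8 - 1 := by
    rw [show x ^ 8 - 1 = (x ^ 4 - 1) * (x ^ 4 + 1) by ring]; exact not_sq hP N4 s8
  have S9 : ¬ P ^ 2 ∣ x ^ 9 - 1 := by
    rw [show x ^ 9 - 1 = (x ^ 3 - 1) * (x ^ 6 + x ^ 3 + 1) by ring]; exact not_sq hP N3 hs9
  have S12 : ¬ P ^ 2 ∣ x ^ 12 - 1 := by
    rw [show x ^ 12 - 1 = ((x ^ 6 - 1) * (x ^ 2 + 1)) * (x ^ 4 - x ^ 2 + 1) by ring]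
    exact not_sq hP (nd_mul hP N6 n4) s12
  have e : P6 x = x ^ 36 * (([12, 9, 8, 6, 5, 2] : List ℕ).map fun d => x ^ d - 1).prod := by
    simp only [P6, List.map_cons, List.map_nil, List.prod_cons, List.prod_nil]; ring
  rw [e] at h
  refine not_sq hP (nd_pow hP n0 _) (not_sq_list hP _ ?_ ?_) h
  · simp only [List.mem_cons, forall_eq_or_imp, List.not_mem_nil, false_imp_iff, implies_true, and_true]
    exact ⟨S12, S9, S8, sq N6, S5, sq N2⟩
  · simp only [List.pairwise_cons, List.mem_cons, forall_eq_or_imp, List.not_mem_nil, false_imp_iff, implies_true,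
      and_true, List.Pairwise.nil]
    norm_num
    tauto

theorem sq_of {x P : ℤ} (hP : Prime P) (h5 : 5 ≤ P) (h : P ^ 2 ∣ P6 x) (h9 : P ∣ x ^ 6 + x ^ 3 + 1) :
    P ^ 2 ∣ x ^ 6 + x ^ 3 + 1 := by
  have n0 : ¬ P ∣ x := fun h0 => by
    have h1 : P ∣ x ^ 6 + x ^ 3 := dvd_add (h0.trans (dvd_pow_self x (by norm_num))) (h0.trans (dvd_pow_self x (by norm_num)))
    have h2 := dvd_sub h9 h1
    rw [add_sub_cancel_left] at h2
    exact hP.not_dvd_one h2
  have N3 : ¬ P ∣ x ^ 3 - 1 := fun h0 => by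
    have h2 := dvd_sub h9 (h0.mul_right (x ^ 3 + 2))
    rw [show x ^ 6 + x ^ 3 + 1 - (x ^ 3 - 1) * (x ^ 3 + 2) = 3 by ring] at h2
    exact absurd (Int.le_of_dvd (by norm_num) h2) (by omega)
  have N1 : ¬ P ∣ x ^ 1 - 1 := fun h0 => N3 (by
    rw [show x ^ 3 - 1 = (x ^ 1 - 1) * (x ^ 2 + x + 1) by ring]; exact h0.mul_right _)
  have h99 : P ∣ x ^ 9 - 1 := by
    rw [show x ^ 9 - 1 = (x ^ 6 + x ^ 3 + 1) * (x ^ 3 - 1) by ring]; exact h9.mul_right _
  have key : ∀ d : ℕ, (Nat.gcd 9 d = 1 ∨ Nat.gcd 9 d = 3) → ¬ P ∣ x ^ d - 1 := by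
    intro d hd h0
    have h1 := dvd_gcd_pow h99 h0
    rcases hd with hd | hd <;> rw [hd] at h1
    · exact N1 h1
    · exact N3 h1
  have e : P6 x = (x ^ 36 * (x ^ 12 - 1) * (x ^ 3 - 1) * (x ^ 8 - 1) * (x ^ 6 - 1) * (x ^ 5 - 1) * (x ^ 2 - 1)) *
      (x ^ 6 + x ^ 3 + 1) := by unfold P6; ring
  rw [e] at h
  by_contra hcon
  refine not_sq hP ?_ hcon h
  exact nd_mul hP (nd_mul hP (nd_mul hP (nd_mul hP (nd_mul hP (nd_mul hP (nd_pow hP n0 _) (key 12 (by decide))) N3)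
    (key 8 (by decide))) (key 6 (by decide))) (key 5 (by decide))) (key 2 (by decide))

theorem w9 (x : ℤ) : ∃ M : ℤ, P6 x = (x ^ 6 + x ^ 3 + 1) * M ∧ (x ^ 6 + x ^ 3 + 1) ∣ M - 9 :=
  ⟨x ^ 36 * (x ^ 12 - 1) * (x ^ 3 - 1) * (x ^ 8 - 1) * (x ^ 6 - 1) * (x ^ 5 - 1) * (x ^ 2 - 1), by unfold P6; ring,
    ⟨-9 + 9 * x ^ 3 - 9 * x ^ 9 + 9 * x ^ 12 - 9 * x ^ 18 + 9 * x ^ 21 - 9 * x ^ 27 + 9 * x ^ 30 - 8 * x ^ 36 - x ^ 38 + 7 * x ^ 39 + x ^ 41 + x ^ 43 + x ^ 44 - 6 * x ^ 45 - x ^ 46 - x ^ 47 + 5 * x ^ 48 - x ^ 49 + x ^ 50 + x ^ 51 + x ^ 52 - x ^ 53 - 4 * x ^ 54 - x ^ 55 - x ^ 56 + 3 * x ^ 57 + x ^ 58 + x ^ 59 + x ^ 61 - 2 * x ^ 63 - x ^ 64 + x ^ 66, by ring⟩⟩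

theorem w12 (x : ℤ) : ∃ M : ℤ, P6 x = (x ^ 2 + x + 1) * (x ^ 4 - x ^ 2 + 1) * M ∧ (x ^ 4 - x ^ 2 + 1) ∣ M - 12 :=
  ⟨x ^ 36 * (x ^ 6 - 1) * (x ^ 2 + 1) * (x ^ 9 - 1) * (x ^ 8 - 1) * ((x - 1) * (x ^ 3 + 1)) * (x ^ 5 - 1) * (x ^ 2 - 1),
    by unfold P6; ring, ⟨-12 - 12 * x ^ 2 + 12 * x ^ 6 + 12 * x ^ 8 - 12 * x ^ 12 - 12 * x ^ 14 + 12 * x ^ 18 + 12 * x ^ 20 - 12 * x ^ 24 - 12 * x ^ 26 + 12 * x ^ 30 + 12 * x ^ 32 - 11 * x ^ 36 - x ^ 37 - 11 * x ^ 38 - 2 * x ^ 40 + x ^ 41 + 9 * x ^ 42 + x ^ 43 + 10 * x ^ 44 + x ^ 45 + 3 * x ^ 46 - x ^ 47 - 6 * x ^ 48 - 9 * x ^ 50 - x ^ 51 - 2 * x ^ 52 - x ^ 53 + 3 * x ^ 54 + 6 * x ^ 56 - x ^ 57 + 3 * x ^ 58 + x ^ 59 - 2 * x ^ 60 + x ^ 61 - 3 * x ^ 62 + x ^ 63 - 2 * x ^ 64 + x ^ 66 - x ^ 67 + x ^ 68, by ring⟩⟩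

variable {S : Type u} [Group S] [Finite S]

theorem mod9 {g m : ℕ} {x : ℤ} (hg : 0 < g) (hm0 : 0 < m) (hcard : (g : ℤ) * Nat.card S = P6 x)
    (hm : ((g * m : ℕ) : ℤ) = x ^ 6 + x ^ 3 + 1) : Nat.card S / m ≡ 9 [MOD m] := by
  obtain ⟨M, h1, h2⟩ := w9 x
  have hg' : (g : ℤ) ≠ 0 := by exact_mod_cast hg.ne'
  refine modEq_of_int (M := M) hm0 ?_ ?_
  · apply mul_left_cancel₀ hg'
    rw [hcard, h1, ← hm]; push_cast; ring
  · refine dvd_trans ?_ h2
    rw [← hm]; push_cast; exact dvd_mul_left _ _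

theorem three_of {g p : ℕ} (hg : g = 1 ∨ g = 3) (hp : p.Prime) (h5 : 5 ≤ p) : ¬ p ∣ g := by
  rcases hg with rfl | rfl
  · exact fun h => hp.one_lt.ne' (Nat.dvd_one.1 h)
  · exact fun h => absurd (Nat.le_of_dvd (by norm_num) h) (by omega)

/-- the prime does not divide `Φ₉` -/
theorem caseA {q g f m p : ℕ} {x : ℤ} (hq : 2 ≤ q) (hx : x = q ∨ x = -q) (hg : g = 1 ∨ g = 3) (hm0 : 0 < m)
    (hcard : (g : ℤ) * Nat.card S = P6 x) (hm : ((g * m : ℕ) : ℤ) = x ^ 6 + x ^ 3 + 1) (h9 : Iso S m m)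
    (hout : Nat.card (Cfsg.Out S) = 2 * g * f) (hp : p.Prime) (h5 : 5 ≤ p) (hd : p ^ 2 ∣ Nat.card S) (hpm : ¬ p ∣ m)
    (hi : (q ^ 2 + q) * (9 * (2 * g * f)) < m - 1) : MO (Reg p) p S := by
  have hg0 : 0 < g := by rcases hg with rfl | rfl <;> norm_num
  have hP : Prime (p : ℤ) := Nat.prime_iff_prime_int.1 hp
  have hd' : (p : ℤ) ^ 2 ∣ P6 x := by
    rw [← hcard]
    exact dvd_mul_of_dvd_right (by exact_mod_cast hd) _
  have h99 : ¬ (p : ℤ) ∣ x ^ 6 + x ^ 3 + 1 := by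
    rw [← hm]
    intro h
    have h' : p ∣ g * m := by exact_mod_cast h
    exact ((Nat.Prime.dvd_mul hp).1 h').elim (three_of hg hp h5) hpm
  have hb : p ≤ q ^ 2 + q + 1 := by
    have := bound (y := (q : ℤ)) (by exact_mod_cast hq) hx hP hd' fun h => h99 ((dvd_pow_self _ two_ne_zero).trans h)
    exact_mod_cast this
  have hb' : p - 1 ≤ q ^ 2 + q := by omega
  exact reg_of_torus hpm (h9.mo' (mod9 hg0 hm0 hcard hm) hout.le dvd_rfl
    (lt_of_le_of_lt (Nat.mul_le_mul_right _ hb') hi))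

theorem mod12 {g N3 N12 t : ℕ} {x : ℤ} (hg : g = 1 ∨ g = 3) (hcard : (g : ℤ) * Nat.card S = P6 x)
    (hN3 : (N3 : ℤ) = x ^ 2 + x + 1) (hN12 : (N12 : ℤ) = x ^ 4 - x ^ 2 + 1) (hN3' : 0 < N3) (hN12' : 0 < N12)
    (h3 : Nat.Coprime 3 N12)
    (h1 : N3 * N12 ∣ g * t) (h2 : t ∣ N3 * N12) (hcox : Iso S t N12) :
    ∃ w, w ≤ 12 ∧ Nat.card S / t ≡ w [MOD N12] ∧ ∃ s, t = s * N12 ∧ N3 ≤ g * s := by
  obtain ⟨T, hT⟩ := hcox
  have hg0 : 0 < g := by rcases hg with rfl | rfl <;> norm_num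
  obtain ⟨s, hs⟩ := hT.dvd
  rw [mul_comm] at hs
  subst hs
  have h4 : N3 ∣ g * s := Nat.dvd_of_mul_dvd_mul_right hN12' (by rwa [← mul_assoc] at h1)
  obtain ⟨k, hk⟩ : s ∣ N3 := Nat.dvd_of_mul_dvd_mul_right hN12' h2
  have hs0 : 0 < s := Nat.pos_of_ne_zero (by rintro rfl; omega)
  have hk0 : 0 < k := Nat.pos_of_ne_zero (by rintro rfl; omega)
  have hkg : k ∣ g := by
    rw [hk, mul_comm g s] at h4
    exact Nat.dvd_of_mul_dvd_mul_left hs0 h4
  have ht0 : 0 < s * N12 := Nat.mul_pos hs0 hN12'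
  obtain ⟨M, hM1, hM2⟩ := w12 x
  have hle : N3 ≤ g * s := Nat.le_of_dvd (Nat.mul_pos hg0 hs0) h4
  have hcase : k = g ∨ (k = 1 ∧ g = 3) := by
    rcases hg with rfl | rfl
    · exact Or.inl (Nat.dvd_one.1 hkg)
    · rcases (Nat.dvd_prime Nat.prime_three).1 hkg with h | h
      · exact Or.inr ⟨h, rfl⟩
      · exact Or.inl h
  rcases hcase with rfl | ⟨rfl, rfl⟩
  · refine ⟨12, le_rfl, modEq_of_int (M := M) ht0 ?_ ?_, s, rfl, hle⟩
    · have hk' : (k : ℤ) ≠ 0 := by exact_mod_cast hk0.ne'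
      apply mul_left_cancel₀ hk'
      rw [hcard, hM1, ← hN12, ← hN3, hk]; push_cast; ring
    · rw [hN12]; exact_mod_cast hM2
  · -- `3 |S| = t M`
    have h5 : s * N12 ∣ Nat.card S := by rw [← hT.card]; exact Subgroup.card_subgroup_dvd_card T
    obtain ⟨u, hu⟩ := h5
    refine ⟨4, by norm_num, modEq_of_int (M := (u : ℤ)) ht0 (by rw [hu]; push_cast; ring) ?_, s, rfl, hle⟩
    have h6 : 3 * (u : ℤ) = M := by
      have h7 : ((s * N12 : ℕ) : ℤ) ≠ 0 := by exact_mod_cast ht0.ne'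
      apply mul_left_cancel₀ h7
      have h8 : ((s * N12 : ℕ) : ℤ) * M = P6 x := by
        rw [hM1, ← hN12, ← hN3, hk]; push_cast; ring
      rw [h8, ← hcard, hu]; push_cast; ring
    have h7 : (N12 : ℤ) ∣ 3 * ((u : ℤ) - 4) := by
      rw [← hN12, ← h6] at hM2
      rwa [show 3 * ((u : ℤ) - 4) = 3 * (u : ℤ) - 12 by ring]
    have h8 : IsCoprime (N12 : ℤ) 3 := by
      have := Nat.isCoprime_iff_coprime.2 h3.symm
      exact_mod_cast this
    exact_mod_cast h8.dvd_of_dvd_mul_left h7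

/-- the prime divides `Φ₉` -/
theorem caseB {g f N3 N12 t p : ℕ} {x : ℤ} (hg : g = 1 ∨ g = 3)
    (hcard : (g : ℤ) * Nat.card S = P6 x)
    (hN3 : (N3 : ℤ) = x ^ 2 + x + 1) (hN12 : (N12 : ℤ) = x ^ 4 - x ^ 2 + 1)
    (h1 : N3 * N12 ∣ g * t) (h2 : t ∣ N3 * N12) (hcox : Iso S t N12)
    (hout : Nat.card (Cfsg.Out S) = 2 * g * f) (hp : p.Prime) (h5 : 5 ≤ p) (hpm : (p : ℤ) ∣ x ^ 6 + x ^ 3 + 1)
    (hi : (p - 1) * (24 * g ^ 2 * f) < N3 * (N12 - 1)) : MO (Reg p) p S := by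
  have hg0 : 0 < g := by rcases hg with rfl | rfl <;> norm_num
  have hP : Prime (p : ℤ) := Nat.prime_iff_prime_int.1 hp
  have hN12' : 0 < N12 := Nat.pos_of_ne_zero (by rintro rfl; simp at hi)
  have hN3' : 0 < N3 := Nat.pos_of_ne_zero (by rintro rfl; simp at hi)
  have h3 : Nat.Coprime 3 N12 := by
    rw [Nat.Prime.coprime_iff_not_dvd Nat.prime_three]
    intro h
    have h4 : ((N12 : ℤ) : ZMod 3) = 0 := by
      have := (ZMod.natCast_eq_zero_iff N12 3).2 h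
      exact_mod_cast this
    rw [hN12] at h4
    push_cast at h4
    generalize (x : ZMod 3) = y at h4; revert h4; revert y; decide
  obtain ⟨w, hw, hmod, s, hs, hle⟩ := mod12 hg hcard hN3 hN12 hN3' hN12' h3 h1 h2 hcox
  have hpt : ¬ p ∣ N3 * N12 := by
    intro h
    have h6 : (p : ℤ) ∣ (x ^ 2 + x + 1) * (x ^ 4 - x ^ 2 + 1) := by
      rw [← hN3, ← hN12]; exact_mod_cast h
    rcases hP.dvd_or_dvd h6 with h7 | h7
    · have h8 := dvd_sub hpm (h7.mul_right (x ^ 4 - x ^ 3 + 2 * x - 2))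
      rw [show x ^ 6 + x ^ 3 + 1 - (x ^ 2 + x + 1) * (x ^ 4 - x ^ 3 + 2 * x - 2) = 3 by ring] at h8
      exact absurd (Int.le_of_dvd (by norm_num) h8) (by omega)
    · have h8 : (p : ℤ) ∣ 1 := by
        have h9 := dvd_add (hpm.mul_right (-x ^ 3)) (h7.mul_right (1 + x ^ 2 + x ^ 3 + x ^ 5))
        rwa [show (x ^ 6 + x ^ 3 + 1) * (-x ^ 3) + (x ^ 4 - x ^ 2 + 1) * (1 + x ^ 2 + x ^ 3 + x ^ 5) = 1 by ring] at h9
      exact hP.not_dvd_one h8
  have hpt' : ¬ p ∣ t := fun h => hpt (h.trans h2)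
  have ho : Nat.card (Cfsg.Out S) ≤ 2 * g * f := hout.le
  refine (hcox.mo hmod ho dvd_rfl (by rw [hs]; exact dvd_mul_left _ _) dvd_rfl (n := p) ?_).mono
    (fun k hk hpk => hpt' (hpk.trans hk.1)) le_rfl
  rw [hs, Nat.mul_div_cancel _ hN12']
  have h6 : s * N12 - s = s * (N12 - 1) := by rw [Nat.mul_sub_one]
  rw [h6]
  have h7 : (p - 1) * (w * (2 * g * f)) * g ≤ (p - 1) * (24 * g ^ 2 * f) := by
    calc (p - 1) * (w * (2 * g * f)) * g ≤ (p - 1) * (12 * (2 * g * f)) * g := by gcongr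
      _ = (p - 1) * (24 * g ^ 2 * f) := by ring
  have h8 : N3 * (N12 - 1) ≤ s * (N12 - 1) * g := by
    calc N3 * (N12 - 1) ≤ g * s * (N12 - 1) := by gcongr
      _ = _ := by ring
  exact lt_of_mul_lt_mul_right (lt_of_le_of_lt h7 (lt_of_lt_of_le hi h8)) (Nat.zero_le g)

theorem nsq {p n : ℕ} (hp : p.Prime) (hn : Squarefree n) : ¬ (p : ℤ) ^ 2 ∣ (n : ℤ) := by
  intro h
  have h' : p ^ 2 ∣ n := by exact_mod_cast h
  rw [pow_two] at h'
  exact (Nat.squarefree_iff_prime_squarefree.1 hn) p hp h'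

theorem card_eq {g c : ℕ} {x : ℤ} (hg : 0 < g) (hcard : (g : ℤ) * Nat.card S = P6 x) (h : (g : ℤ) * c = P6 x) :
    Nat.card S = c := by
  have hg' : (g : ℤ) ≠ 0 := by exact_mod_cast hg.ne'
  have := mul_left_cancel₀ hg' (hcard.trans h.symm)
  exact_mod_cast this

/-- `E₆(2)` -/
theorem e6_two {m : ℕ} (hcard : (1 : ℤ) * Nat.card S = P6 2) (hm : ((1 * m : ℕ) : ℤ) = 2 ^ 6 + 2 ^ 3 + 1)
    (h9 : Iso S m m) (hout : Nat.card (Cfsg.Out S) = 2) : Row S := by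
  have hm' : m = 73 := by
    have : (m : ℤ) = 73 := by rw [one_mul] at hm; rw [hm]; norm_num
    exact_mod_cast this
  subst hm'
  have hc : Nat.card S = 214841575522005575270400 := card_eq (g := 1) one_pos (by exact_mod_cast hcard) (by norm_num [P6])
  have t9 : MO {k | k ∣ 73 ∧ k ≠ 1} 4 S :=
    h9.mo' (mod9 (g := 1) (x := 2) one_pos (by norm_num) (by exact_mod_cast hcard) hm) hout.le dvd_rfl (by norm_num)
  intro p hp h5 hd
  have hP : Prime (p : ℤ) := Nat.prime_iff_prime_int.1 hp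
  have hd' : (p : ℤ) ^ 2 ∣ P6 2 := by rw [← hcard, one_mul]; exact_mod_cast hd
  have hb : p ≤ 7 := by
    have := bound (y := 2) le_rfl (Or.inl rfl) hP hd' (by
      have := nsq hp (show Squarefree 73 by decide +kernel)
      norm_num; exact this)
    norm_num at this
    exact_mod_cast this
  have hne : ¬ p ∣ 73 := fun h => by
    have := (Nat.prime_dvd_prime_iff_eq hp (by norm_num)).1 h
    omega
  have h7 : p = 5 ∨ p = 7 := by
    interval_cases p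
    · exact Or.inl rfl
    · exact absurd hp (by norm_num)
    · exact Or.inr rfl
  have hL : ∀ k ∈ ({1, 2, 3} : Finset ℕ), HasOrd S k := ords hc _ (by
    simp only [Finset.mem_insert, Finset.mem_singleton, forall_eq_or_imp, forall_eq]
    norm_num)
  rcases h7 with rfl | rfl
  · exact reg_add hne t9 {1, 2, 3} hL (by decide) (by decide) (by decide)
  · exact reg_add hne t9 {1, 2, 3} hL (by decide) (by decide) (by decide)

/-- `E₆(4)` -/
theorem e6_four {m : ℕ} (hcard : (3 : ℤ) * Nat.card S = P6 4) (hm : ((3 * m : ℕ) : ℤ) = 4 ^ 6 + 4 ^ 3 + 1)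
    (h9 : Iso S m m) (hout : Nat.card (Cfsg.Out S) = 12) : Row S := by
  have hm' : m = 1387 := by
    have : (3 * m : ℕ) = 4161 := by
      have : ((3 * m : ℕ) : ℤ) = ((4161 : ℕ) : ℤ) := by rw [hm]; norm_num
      exact_mod_cast this
    omega
  subst hm'
  have hc : Nat.card S = 28509570260447546701277873018380921822248960000 := card_eq (g := 3) (by norm_num) (by exact_mod_cast hcard) (by norm_num [P6])
  have t9 : MO {k | k ∣ 1387 ∧ k ≠ 1} 13 S :=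
    h9.mo' (mod9 (g := 3) (x := 4) (by norm_num) (by norm_num) (by exact_mod_cast hcard) hm) hout.le dvd_rfl
      (by norm_num)
  intro p hp h5 hd
  have hP : Prime (p : ℤ) := Nat.prime_iff_prime_int.1 hp
  have hd' : (p : ℤ) ^ 2 ∣ P6 4 := by
    rw [← hcard]
    exact dvd_mul_of_dvd_right (by exact_mod_cast hd) _
  have hb : p ≤ 21 := by
    have := bound (y := 4) (by norm_num) (Or.inl rfl) hP hd' (by
      have := nsq hp (show Squarefree 4161 by decide +kernel)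
      norm_num; exact this)
    norm_num at this
    exact_mod_cast this
  have h7 : p ≤ 13 ∨ p = 17 := by
    by_cases h13 : p ≤ 13
    · exact Or.inl h13
    · interval_cases p
      · exact absurd hp (by norm_num)
      · exact absurd hp (by norm_num)
      · exact absurd hp (by norm_num)
      · exact Or.inr rfl
      · exact absurd hp (by norm_num)
      · rw [hc] at hd; exact absurd hd (by norm_num)
      · exact absurd hp (by norm_num)
      · exact absurd hp (by norm_num)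
  have hne : ¬ p ∣ 1387 := fun h => by
    rw [show 1387 = 19 * 73 by norm_num] at h
    rcases (Nat.Prime.dvd_mul hp).1 h with h | h
    · have := (Nat.prime_dvd_prime_iff_eq hp (by norm_num)).1 h
      omega
    · have := (Nat.prime_dvd_prime_iff_eq hp (by norm_num)).1 h
      omega
  rcases h7 with h13 | rfl
  · exact (reg_of_torus hne t9).mono (fun _ h => h) h13
  · exact reg_add hne t9 {1, 2, 3, 5} (ords hc _ (by
      simp only [Finset.mem_insert, Finset.mem_singleton, forall_eq_or_imp, forall_eq]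
      norm_num)) (by decide) (by decide) (by decide)

/-- `²E₆(2)` -/
theorem te6_two (hcard : (3 : ℤ) * Nat.card S = P6 (-2)) : Row S := by
  have hc : Nat.card S = 76532479683774853939200 := card_eq (g := 3) (by norm_num) (by exact_mod_cast hcard) (by unfold P6; decide +kernel)
  intro p hp h5 hd
  have hP : Prime (p : ℤ) := Nat.prime_iff_prime_int.1 hp
  have hd' : (p : ℤ) ^ 2 ∣ P6 (-2) := by
    rw [← hcard]
    exact dvd_mul_of_dvd_right (by exact_mod_cast hd) _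
  have hb : p ≤ 7 := by
    have := bound (y := 2) (by norm_num) (Or.inr rfl) hP hd' (by
      have := nsq hp (show Squarefree 57 by decide +kernel)
      norm_num; exact this)
    norm_num at this
    exact_mod_cast this
  have h7 : p = 5 ∨ p = 7 := by
    interval_cases p
    · exact Or.inl rfl
    · exact absurd hp (by norm_num)
    · exact Or.inr rfl
  rcases h7 with rfl | rfl
  · exact reg_ords {1, 2, 3, 7, 11} (ords hc _ (by
      simp only [Finset.mem_insert, Finset.mem_singleton, forall_eq_or_imp, forall_eq]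
      norm_num)) (by decide) (by decide)
  · exact reg_ords {1, 2, 3, 5, 11, 13, 17} (ords hc _ (by
      simp only [Finset.mem_insert, Finset.mem_singleton, forall_eq_or_imp, forall_eq]
      norm_num)) (by decide) (by decide)

theorem gcd3_cases (n : ℕ) : (Nat.gcd 3 n = 1 ∧ ¬ 3 ∣ n) ∨ (Nat.gcd 3 n = 3 ∧ 3 ∣ n) := by
  by_cases h : 3 ∣ n
  · exact Or.inr ⟨Nat.gcd_eq_left h, h⟩
  · exact Or.inl ⟨(Nat.Prime.coprime_iff_not_dvd Nat.prime_three).2 h, h⟩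

/-- the general case of `E₆(q)` -/
theorem e6_gen {q g f m N3 N12 t : ℕ} (hq : 3 ≤ q) (hg : g = 1 ∨ g = 3)
    (hcard : (g : ℤ) * Nat.card S = P6 q) (hout : Nat.card (Cfsg.Out S) = 2 * g * f)
    (hm : ((g * m : ℕ) : ℤ) = (q : ℤ) ^ 6 + (q : ℤ) ^ 3 + 1) (h9 : Iso S m m)
    (hN3 : (N3 : ℤ) = (q : ℤ) ^ 2 + (q : ℤ) + 1) (hN12 : (N12 : ℤ) = (q : ℤ) ^ 4 - (q : ℤ) ^ 2 + 1)
    (h1 : N3 * N12 ∣ g * t) (h2 : t ∣ N3 * N12) (hcox : Iso S t N12)
    (hiA : (q ^ 2 + q) * (18 * g ^ 2 * f) + g < q ^ 6 + q ^ 3 + 1) (hiB : 24 * g ^ 2 * f < q ^ 2 * (q + 1)) :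
    Row S := by
  intro p hp h5 hd
  have hm' : g * m = q ^ 6 + q ^ 3 + 1 := by exact_mod_cast hm
  have hm0 : 0 < m := Nat.pos_of_ne_zero (by rintro rfl; simp at hm')
  have hP : Prime (p : ℤ) := Nat.prime_iff_prime_int.1 hp
  have hd' : (p : ℤ) ^ 2 ∣ P6 q := by
    rw [← hcard]
    exact dvd_mul_of_dvd_right (by exact_mod_cast hd) _
  have hg0 : 0 < g := by rcases hg with rfl | rfl <;> norm_num
  by_cases hpm : p ∣ m
  · have h99 : (p : ℤ) ∣ (q : ℤ) ^ 6 + (q : ℤ) ^ 3 + 1 := by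
      rw [← hm]; exact_mod_cast hpm.mul_left g
    have h98 := sq_of hP (by exact_mod_cast h5) hd' h99
    refine caseB hg hcard hN3 hN12 h1 h2 hcox hout hp h5 h99 ?_
    have h97 : p ^ 2 ≤ q ^ 6 + q ^ 3 + 1 := Nat.le_of_dvd (by positivity) (by exact_mod_cast h98)
    have h96 : p ≤ q ^ 3 := by
      by_contra hlt
      push Not at hlt
      have : (q ^ 3 + 1) ^ 2 ≤ p ^ 2 := Nat.pow_le_pow_left hlt 2
      have hq3 : 0 < q ^ 3 := by positivity
      nlinarith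
    have hN3' : N3 = q ^ 2 + q + 1 := by exact_mod_cast hN3
    have hN12' : N12 - 1 + q ^ 2 = q ^ 4 := by
      have : N12 + q ^ 2 = q ^ 4 + 1 := by
        have : ((N12 + q ^ 2 : ℕ) : ℤ) = ((q ^ 4 + 1 : ℕ) : ℤ) := by push_cast; rw [hN12]; ring
        exact_mod_cast this
      have h3 : q ^ 2 ≤ q ^ 4 := Nat.pow_le_pow_right (by omega) (by norm_num)
      omega
    obtain ⟨a, rfl⟩ : ∃ a, q = a + 1 := ⟨q - 1, by omega⟩
    have ha : 0 < a := by omega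
    have e1 : N12 - 1 = (a + 1) ^ 2 * (a * (a + 1 + 1)) := by
      have : N12 - 1 + (a + 1) ^ 2 = (a + 1) ^ 2 * (a * (a + 1 + 1)) + (a + 1) ^ 2 := by rw [hN12']; ring
      omega
    rw [e1, hN3']
    have h95 : p - 1 ≤ a * ((a + 1) ^ 2 + (a + 1) + 1) := by
      have : (a + 1) ^ 3 = a * ((a + 1) ^ 2 + (a + 1) + 1) + 1 := by ring
      omega
    calc (p - 1) * (24 * g ^ 2 * f) ≤ a * ((a + 1) ^ 2 + (a + 1) + 1) * (24 * g ^ 2 * f) := by gcongr
      _ < a * ((a + 1) ^ 2 + (a + 1) + 1) * ((a + 1) ^ 2 * (a + 1 + 1)) := by gcongr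
      _ = _ := by ring
  · refine caseA (q := q) (by omega) (Or.inl rfl) hg hm0 hcard hm h9 hout hp h5 hd hpm ?_
    have h3 : (q ^ 2 + q) * (9 * (2 * g * f)) * g + g < m * g := by
      rw [mul_comm m g, hm']
      calc _ = (q ^ 2 + q) * (18 * g ^ 2 * f) + g := by ring
        _ < _ := hiA
    have h4 : ((q ^ 2 + q) * (9 * (2 * g * f)) + 1) * g < m * g := by
      calc _ = (q ^ 2 + q) * (9 * (2 * g * f)) * g + g := by ring
        _ < _ := h3
    have h5 := lt_of_mul_lt_mul_right h4 (Nat.zero_le g)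
    omega

/-- **the row of `E₆(q)`** -/
theorem e6_row {q ℓ f m N3 N12 t : ℕ} (hℓ : ℓ.Prime) (hf : 1 ≤ f) (hq : q = ℓ ^ f)
    (hcard : (Nat.gcd 3 (q - 1) : ℤ) * Nat.card S = P6 q)
    (hout : Nat.card (Cfsg.Out S) = 2 * Nat.gcd 3 (q - 1) * f)
    (hm : ((Nat.gcd 3 (q - 1) * m : ℕ) : ℤ) = (q : ℤ) ^ 6 + (q : ℤ) ^ 3 + 1) (h9 : Iso S m m)
    (hN3 : (N3 : ℤ) = (q : ℤ) ^ 2 + (q : ℤ) + 1) (hN12 : (N12 : ℤ) = (q : ℤ) ^ 4 - (q : ℤ) ^ 2 + 1)
    (h1 : N3 * N12 ∣ Nat.gcd 3 (q - 1) * t) (h2 : t ∣ N3 * N12) (hcox : Iso S t N12) : Row S := by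
  have hq2 := two_le_of hℓ hf hq
  have hfq : 2 ^ f ≤ q := by rw [hq]; exact Nat.pow_le_pow_left hℓ.two_le f
  have hf1 := lt_two_pow' f
  rcases gcd3_cases (q - 1) with ⟨hg, hn⟩ | ⟨hg, hn⟩
  · rw [hg] at hcard hout hm h1
    by_cases hq3 : q = 2
    · subst hq3
      have hf' : f = 1 := by omega
      subst hf'
      exact e6_two (by exact_mod_cast hcard) (by exact_mod_cast hm) h9 hout
    · refine e6_gen (by omega) (Or.inl rfl) hcard hout hm h9 hN3 hN12 h1 h2 hcox ?_ ?_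
      · have hq3 : 3 ≤ q := by omega
        have h27 : 27 ≤ q ^ 3 := by
          calc 27 = 3 ^ 3 := by norm_num
            _ ≤ q ^ 3 := Nat.pow_le_pow_left hq3 3
        have : f + 1 ≤ q := hf1.trans hfq
        nlinarith
      · by_cases hf2 : f = 1
        · subst hf2
          have : 3 ≤ q := by omega
          nlinarith
        · have h4 : 4 ≤ q := by
            refine le_trans ?_ hfq
            calc 4 = 2 ^ 2 := by norm_num
              _ ≤ 2 ^ f := Nat.pow_le_pow_right (by norm_num) (by omega)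
          have : f + 1 ≤ q := hf1.trans hfq
          nlinarith
  · rw [hg] at hcard hout hm h1
    by_cases hq4 : q = 4
    · subst hq4
      have hf' : f = 2 := by
        have h3 : f ≤ 2 := by
          by_contra hlt
          push Not at hlt
          have : 2 ^ 3 ≤ 2 ^ f := Nat.pow_le_pow_right (by norm_num) hlt
          omega
        have h4 : f ≠ 1 := by
          rintro rfl
          rw [pow_one] at hq
          rw [← hq] at hℓ
          exact absurd hℓ (by norm_num)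
        omega
      subst hf'
      exact e6_four (by exact_mod_cast hcard) (by exact_mod_cast hm) h9 hout
    · have h7 : 7 ≤ q := by omega
      refine e6_gen (by omega) (Or.inr rfl) hcard hout hm h9 hN3 hN12 h1 h2 hcox ?_ ?_
      · have h343 : 343 ≤ q ^ 3 := by
          calc 343 = 7 ^ 3 := by norm_num
            _ ≤ q ^ 3 := Nat.pow_le_pow_left h7 3
        have : f + 1 ≤ q := hf1.trans hfq
        nlinarith
      · rcases Nat.lt_or_ge f 4 with hf4 | hf4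
        · have h10 : f = 1 ∨ 10 ≤ q := by
            by_cases h : f = 1
            · exact Or.inl h
            · right
              by_contra hlt
              push Not at hlt
              have h8 : q = 7 := by
                have : 3 ∣ q - 1 := hn
                interval_cases q <;> omega
              subst h8
              have : ℓ ^ 2 ∣ 7 := by rw [hq]; exact pow_dvd_pow ℓ (by omega)
              have h9 : ℓ ≤ 2 := by
                by_contra h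
                push Not at h
                have h11 := Nat.le_of_dvd (by norm_num) this
                nlinarith
              have : ℓ = 2 := by have := hℓ.two_le; omega
              subst this
              have h12 : 2 ∣ 7 := (dvd_pow_self 2 two_ne_zero).trans (by assumption)
              omega
          rcases h10 with rfl | h10
          · nlinarith
          · have : 216 * f ≤ 648 := by omega
            nlinarith
        · have h1 := four_mul_le hf4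
          have h2 : 16 ≤ q := by
            refine le_trans ?_ hfq
            calc 16 = 2 ^ 4 := by norm_num
              _ ≤ 2 ^ f := Nat.pow_le_pow_right (by norm_num) hf4
          nlinarith

end Cfsg.Agent.H92.PRegE6
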