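import Cfsg.Agent.H92.PRegNum

/-!
# `E₇(q)`: the number theory (helper92, for S4883)
-/

set_option autoImplicit false
set_option linter.unusedSectionVars false
set_option maxHeartbeats 4000000
set_option maxRecDepth 100000

namespace Cfsg.Agent.H92.PRegE7

open Cfsg.Agent.H93.PReg Cfsg.Agent.H92.PRegT Cfsg.Agent.H92.KTools Cfsg.Agent.H92.PRegNum

universe u

/-- the order polynomial -/
def P7 (x : ℤ) : ℤ := x ^ 63 * (x ^ 18 - 1) * (x ^ 14 - 1) * (x ^ 12 - 1) * (x ^ 10 - 1) * (x ^ 8 - 1) * (x ^ 6 - 1) *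
  (x ^ 2 - 1)

theorem bound {x P : ℤ} (hx : 2 ≤ x) (hP : Prime P) (h : P ^ 2 ∣ P7 x) : P ≤ x ^ 3 + x ^ 2 := by
  by_contra hlt
  push Not at hlt
  obtain ⟨a, rfl⟩ : ∃ a, x = a + 2 := ⟨x - 2, by ring⟩
  have ha : 0 ≤ a := by omega
  set B : ℤ := (a + 2) ^ 3 + (a + 2) ^ 2 + 1 with hB
  have hPx : B ≤ P := by rw [hB]; linarith
  have hP2 : B ^ 2 ≤ P ^ 2 := pow_le_pow_left₀ (by rw [hB]; positivity) hPx 2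
  have nd : ∀ c : ℤ, 0 < c → 0 < B - c → ¬ P ∣ c := fun c h1 h2 => nd_lt h1 (lt_of_lt_of_le (by linarith) hPx)
  have nq : ∀ c : ℤ, 0 < c → 0 < B ^ 2 - c → ¬ P ^ 2 ∣ c := fun c h1 h2 =>
    nd_lt h1 (lt_of_lt_of_le (by linarith) hP2)
  have n0 : ¬ P ∣ a + 2 := nd _ (by positivity) (by rw [hB]; ring_nf; positivity)
  have n1 : ¬ P ∣ (a + 2) - 1 := nd _ (by ring_nf; positivity) (by rw [hB]; ring_nf; positivity)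
  have n2 : ¬ P ∣ (a + 2) + 1 := nd _ (by ring_nf; positivity) (by rw [hB]; ring_nf; positivity)
  have n3 : ¬ P ∣ (a + 2) ^ 2 + (a + 2) + 1 := nd _ (by ring_nf; positivity) (by rw [hB]; ring_nf; positivity)
  have n6 : ¬ P ∣ (a + 2) ^ 2 - (a + 2) + 1 := nd _ (by ring_nf; positivity) (by rw [hB]; ring_nf; positivity)
  have n4 : ¬ P ∣ (a + 2) ^ 2 + 1 := nd _ (by ring_nf; positivity) (by rw [hB]; ring_nf; positivity)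
  have nn2 : ¬ P ∣ 2 := nd _ (by norm_num) (by rw [hB]; ring_nf; positivity)
  have s5 : ¬ P ^ 2 ∣ 1 + (a + 2) + (a + 2) ^ 2 + (a + 2) ^ 3 + (a + 2) ^ 4 :=
    nq _ (by ring_nf; positivity) (by rw [hB]; ring_nf; positivity)
  have s10 : ¬ P ^ 2 ∣ 1 - (a + 2) + (a + 2) ^ 2 - (a + 2) ^ 3 + (a + 2) ^ 4 :=
    nq _ (by ring_nf; positivity) (by rw [hB]; ring_nf; positivity)
  have s8 : ¬ P ^ 2 ∣ 1 + (a + 2) ^ 4 :=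
    nq _ (by ring_nf; positivity) (by rw [hB]; ring_nf; positivity)
  have s12 : ¬ P ^ 2 ∣ 1 - (a + 2) ^ 2 + (a + 2) ^ 4 :=
    nq _ (by ring_nf; positivity) (by rw [hB]; ring_nf; positivity)
  have s7 : ¬ P ^ 2 ∣ 1 + (a + 2) + (a + 2) ^ 2 + (a + 2) ^ 3 + (a + 2) ^ 4 + (a + 2) ^ 5 + (a + 2) ^ 6 :=
    nq _ (by ring_nf; positivity) (by rw [hB]; ring_nf; positivity)
  have s14 : ¬ P ^ 2 ∣ 1 - (a + 2) + (a + 2) ^ 2 - (a + 2) ^ 3 + (a + 2) ^ 4 - (a + 2) ^ 5 + (a + 2) ^ 6 :=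
    nq _ (by ring_nf; positivity) (by rw [hB]; ring_nf; positivity)
  have s9 : ¬ P ^ 2 ∣ 1 + (a + 2) ^ 3 + (a + 2) ^ 6 :=
    nq _ (by ring_nf; positivity) (by rw [hB]; ring_nf; positivity)
  have s18 : ¬ P ^ 2 ∣ 1 - (a + 2) ^ 3 + (a + 2) ^ 6 :=
    nq _ (by ring_nf; positivity) (by rw [hB]; ring_nf; positivity)
  clear_value B
  generalize a + 2 = x at *
  have N2 : ¬ P ∣ x ^ 2 - 1 := by
    rw [show x ^ 2 - 1 = (x - 1) * (x + 1) by ring]; exact nd_mul hP n1 n2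
  have N4 : ¬ P ∣ x ^ 4 - 1 := by
    rw [show x ^ 4 - 1 = (x ^ 2 - 1) * (x ^ 2 + 1) by ring]; exact nd_mul hP N2 n4
  have N6 : ¬ P ∣ x ^ 6 - 1 := by
    rw [show x ^ 6 - 1 = (x ^ 2 - 1) * ((x ^ 2 + x + 1) * (x ^ 2 - x + 1)) by ring]; exact nd_mul hP N2 (nd_mul hP n3 n6)
  have sq : ∀ {a : ℤ}, ¬ P ∣ a → ¬ P ^ 2 ∣ a := fun ha h => ha ((dvd_pow_self P two_ne_zero).trans h)
  have two : ∀ {m : ℕ} {b c : ℤ}, b ∣ x ^ m - 1 → c ∣ x ^ m + 1 → P ∣ b → P ∣ c → False := fun hb hc h1 h2 => by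
    have h3 := dvd_sub (h2.trans hc) (h1.trans hb)
    rw [show ∀ y : ℤ, y + 1 - (y - 1) = 2 from fun y => by ring] at h3
    exact nn2 h3
  have S8 : ¬ P ^ 2 ∣ x ^ 8 - 1 := by
    rw [show x ^ 8 - 1 = (x ^ 4 - 1) * (1 + x ^ 4) by ring]; exact not_sq hP N4 s8
  have S10 : ¬ P ^ 2 ∣ x ^ 10 - 1 := by
    rw [show x ^ 10 - 1 = (x ^ 2 - 1) * ((1 + x + x ^ 2 + x ^ 3 + x ^ 4) * (1 - x + x ^ 2 - x ^ 3 + x ^ 4)) by ring]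
    exact not_sq hP N2 (not_sq2 hP (two (m := 5) ⟨x - 1, by ring⟩ ⟨x + 1, by ring⟩) s5 s10)
  have S12 : ¬ P ^ 2 ∣ x ^ 12 - 1 := by
    rw [show x ^ 12 - 1 = ((x ^ 6 - 1) * (x ^ 2 + 1)) * (1 - x ^ 2 + x ^ 4) by ring]
    exact not_sq hP (nd_mul hP N6 n4) s12
  have S14 : ¬ P ^ 2 ∣ x ^ 14 - 1 := by
    rw [show x ^ 14 - 1 = (x ^ 2 - 1) * ((1 + x + x ^ 2 + x ^ 3 + x ^ 4 + x ^ 5 + x ^ 6) * (1 - x + x ^ 2 - x ^ 3 + x ^ 4 - x ^ 5 + x ^ 6)) by ring]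
    exact not_sq hP N2 (not_sq2 hP (two (m := 7) ⟨x - 1, by ring⟩ ⟨x + 1, by ring⟩) s7 s14)
  have S18 : ¬ P ^ 2 ∣ x ^ 18 - 1 := by
    rw [show x ^ 18 - 1 = (x ^ 6 - 1) * ((1 + x ^ 3 + x ^ 6) * (1 - x ^ 3 + x ^ 6)) by ring]
    exact not_sq hP N6 (not_sq2 hP (two (m := 9) ⟨x ^ 3 - 1, by ring⟩ ⟨x ^ 3 + 1, by ring⟩) s9 s18)
  have e : P7 x = x ^ 63 * (([18, 14, 12, 10, 8, 6, 2] : List ℕ).map fun d => x ^ d - 1).prod := by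
    simp only [P7, List.map_cons, List.map_nil, List.prod_cons, List.prod_nil]; ring
  rw [e] at h
  refine not_sq hP (nd_pow hP n0 _) (not_sq_list hP _ ?_ ?_) h
  · simp only [List.mem_cons, forall_eq_or_imp, List.not_mem_nil, false_imp_iff, implies_true, and_true]
    exact ⟨S18, S14, S12, S10, S8, sq N6, sq N2⟩
  · simp only [List.pairwise_cons, List.mem_cons, forall_eq_or_imp, List.not_mem_nil, false_imp_iff, implies_true,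
      and_true, List.Pairwise.nil]
    norm_num
    tauto

theorem w7 (x : ℤ) : ∃ M : ℤ, P7 x = ((x - 1) * (1 + x + x ^ 2 + x ^ 3 + x ^ 4 + x ^ 5 + x ^ 6)) * M ∧ (1 + x + x ^ 2 + x ^ 3 + x ^ 4 + x ^ 5 + x ^ 6) ∣ M - 14 :=
  ⟨x ^ 63 * (x ^ 18 - 1) * ((x ^ 7 + 1)) * (x ^ 12 - 1) * (x ^ 10 - 1) * (x ^ 8 - 1) * (x ^ 6 - 1) * (x ^ 2 - 1), by unfold P7; ring, ⟨-14 + 14 * x - 14 * x ^ 7 + 14 * x ^ 8 - 14 * x ^ 14 + 14 * x ^ 15 - 14 * x ^ 21 + 14 * x ^ 22 - 14 * x ^ 28 + 14 * x ^ 29 - 14 * x ^ 35 + 14 * x ^ 36 - 14 * x ^ 42 + 14 * x ^ 43 - 14 * x ^ 49 + 14 * x ^ 50 - 14 * x ^ 56 + 14 * x ^ 57 - 13 * x ^ 63 + 13 * x ^ 64 - x ^ 65 + x ^ 66 - x ^ 69 - 11 * x ^ 70 + 12 * x ^ 71 - 2 * x ^ 72 + 2 * x ^ 73 - 2 * x ^ 76 - 8 * x ^ 77 + 10 * x ^ 78 - 2 * x ^ 79 + 2 * x ^ 80 - 2 * x ^ 83 - 6 * x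 ^ 84 + 8 * x ^ 85 - 2 * x ^ 86 + x ^ 87 + x ^ 88 - 2 * x ^ 90 - 6 * x ^ 91 + 8 * x ^ 92 - 2 * x ^ 93 + x ^ 95 + x ^ 96 - 2 * x ^ 97 - 6 * x ^ 98 + 8 * x ^ 99 - 2 * x ^ 100 + 2 * x ^ 103 - 2 * x ^ 104 - 4 * x ^ 105 + 6 * x ^ 106 - 2 * x ^ 107 + 2 * x ^ 110 - 2 * x ^ 111 - 2 * x ^ 112 + 3 * x ^ 113 - x ^ 114 + x ^ 117 - x ^ 118 - x ^ 119 + x ^ 120, by ring⟩⟩

theorem w9 (x : ℤ) : ∃ M : ℤ, P7 x = ((x - 1) * (1 + x ^ 3 + x ^ 6)) * M ∧ (1 + x ^ 3 + x ^ 6) ∣ M - 18 :=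
  ⟨x ^ 63 * ((x ^ 9 + 1) * (x ^ 2 + x + 1)) * (x ^ 14 - 1) * (x ^ 12 - 1) * (x ^ 10 - 1) * (x ^ 8 - 1) * (x ^ 6 - 1) * (x ^ 2 - 1), by unfold P7; ring, ⟨-18 + 18 * x ^ 3 - 18 * x ^ 9 + 18 * x ^ 12 - 18 * x ^ 18 + 18 * x ^ 21 - 18 * x ^ 27 + 18 * x ^ 30 - 18 * x ^ 36 + 18 * x ^ 39 - 18 * x ^ 45 + 18 * x ^ 48 - 18 * x ^ 54 + 18 * x ^ 57 - 17 * x ^ 63 + x ^ 64 + 16 * x ^ 66 - 2 * x ^ 67 - x ^ 71 - 15 * x ^ 72 + 3 * x ^ 73 + x ^ 74 + 14 * x ^ 75 - 4 * x ^ 76 + x ^ 77 + x ^ 78 + 2 * x ^ 79 - 2 * x ^ 80 - 13 * x ^ 81 + 3 * x ^ 82 + 2 * x ^ 83 + 12 * x ^ 84 - 5 * x ^ 85 + x ^ 86 + 2 * x ^ 88 - 4 * x ^ 89 - 10 * x ^ 90 + 2 * x ^ 91 + 2 * x ^ 92 + 8 * x ^ 93 - 4 * x ^ 94 + 2 * x ^ 95 + x ^ 97 - 5 * x ^ 98 - 6 * x ^ 99 + 2 * x ^ 100 + 3 * x ^ 101 + 5 * x ^ 102 - 2 * x ^ 103 + 2 * x ^ 104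 + x ^ 105 + x ^ 106 - 4 * x ^ 107 - 4 * x ^ 108 + x ^ 109 + 3 * x ^ 110 + 3 * x ^ 111 - x ^ 112 - 2 * x ^ 116 - 2 * x ^ 117 + x ^ 119 + x ^ 120, by ring⟩⟩

theorem coprime_7_9 {x P : ℤ} (hP : Prime P) (h1 : P ∣ 1 + x + x ^ 2 + x ^ 3 + x ^ 4 + x ^ 5 + x ^ 6) (h2 : P ∣ 1 + x ^ 3 + x ^ 6) : False := by
  have h9 := dvd_add (h1.mul_right (1 - x + x ^ 3 - x ^ 4 + x ^ 5)) (h2.mul_right (-x ^ 3 - x ^ 5))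
  rw [show (1 + x + x ^ 2 + x ^ 3 + x ^ 4 + x ^ 5 + x ^ 6) * (1 - x + x ^ 3 - x ^ 4 + x ^ 5) + (1 + x ^ 3 + x ^ 6) * (-x ^ 3 - x ^ 5) = 1 by ring] at h9
  exact hP.not_dvd_one h9

end Cfsg.Agent.H92.PRegE7
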