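import Cfsg.Agent.H92.PRegNum

/-!
# `E₈(q)`: the number theory (helper92, for S4883)
-/

set_option autoImplicit false
set_option linter.unusedSectionVars false

namespace Cfsg.Agent.H92.PRegE8

open Cfsg.Agent.H93.PReg Cfsg.Agent.H92.PRegT Cfsg.Agent.H92.KTools Cfsg.Agent.H92.PRegNum

universe u

/-- the order polynomial -/
def P8 (x : ℤ) : ℤ := x ^ 120 * (x ^ 30 - 1) * (x ^ 24 - 1) * (x ^ 20 - 1) * (x ^ 18 - 1) * (x ^ 14 - 1) *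
  (x ^ 12 - 1) * (x ^ 8 - 1) * (x ^ 2 - 1)

theorem lt_of_sub_pos {a b : ℤ} (h : 0 < b - a) : a < b := by linarith

set_option maxHeartbeats 4000000 in
theorem bound {x P : ℤ} (hx : 2 ≤ x) (hP : Prime P) (h : P ^ 2 ∣ P8 x) : P ≤ x ^ 4 + x ^ 3 + x ^ 2 + x + 1 := by
  by_contra hlt
  push Not at hlt
  obtain ⟨a, rfl⟩ : ∃ a, x = a + 2 := ⟨x - 2, by ring⟩
  have ha : 0 ≤ a := by omega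
  set B : ℤ := (a + 2) ^ 4 + (a + 2) ^ 3 + (a + 2) ^ 2 + (a + 2) + 2 with hB
  have hPx : B ≤ P := by rw [hB]; linarith
  have hP2 : B ^ 2 ≤ P ^ 2 := pow_le_pow_left₀ (by rw [hB]; positivity) hPx 2
  have nd : ∀ c : ℤ, 0 < c → 0 < B - c → ¬ P ∣ c := fun c h1 h2 => nd_lt h1 (lt_of_lt_of_le (by linarith) hPx)
  have nq : ∀ c : ℤ, 0 < c → 0 < B ^ 2 - c → ¬ P ^ 2 ∣ c := fun c h1 h2 =>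
    nd_lt h1 (lt_of_lt_of_le (by linarith) hP2)
  have n0 : ¬ P ∣ a + 2 := nd _ (by positivity) (by rw [hB]; ring_nf; positivity)
  have n1 : ¬ P ∣ (a + 2) - 1 := nd _ (by ring_nf; positivity) (by rw [hB]; ring_nf; positivity)
  have n2 : ¬ P ∣ (a + 2) + 1 := nd _ (by ring_nf; positivity) (by rw [hB]; ring_nf; positivity)
  have n3 : ¬ P ∣ (a + 2) ^ 2 + (a + 2) + 1 := nd _ (by ring_nf; positivity) (by rw [hB]; ring_nf; positivity)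
  have n6 : ¬ P ∣ (a + 2) ^ 2 - (a + 2) + 1 := nd _ (by ring_nf; positivity) (by rw [hB]; ring_nf; positivity)
  have n4 : ¬ P ∣ (a + 2) ^ 2 + 1 := nd _ (by ring_nf; positivity) (by rw [hB]; ring_nf; positivity)
  have n5 : ¬ P ∣ (a + 2) ^ 4 + (a + 2) ^ 3 + (a + 2) ^ 2 + (a + 2) + 1 :=
    nd _ (by ring_nf; positivity) (by rw [hB]; ring_nf; positivity)
  have n10 : ¬ P ∣ (a + 2) ^ 4 - (a + 2) ^ 3 + (a + 2) ^ 2 - (a + 2) + 1 :=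
    nd _ (by ring_nf; positivity) (by rw [hB]; ring_nf; positivity)
  have n8 : ¬ P ∣ (a + 2) ^ 4 + 1 := nd _ (by ring_nf; positivity) (by rw [hB]; ring_nf; positivity)
  have n12 : ¬ P ∣ (a + 2) ^ 4 - (a + 2) ^ 2 + 1 := nd _ (by ring_nf; positivity) (by rw [hB]; ring_nf; positivity)
  have nn2 : ¬ P ∣ 2 := nd _ (by norm_num) (by rw [hB]; ring_nf; positivity)
  have s7 : ¬ P ^ 2 ∣ 1 + (a + 2) + (a + 2) ^ 2 + (a + 2) ^ 3 + (a + 2) ^ 4 + (a + 2) ^ 5 + (a + 2) ^ 6 :=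
    nq _ (by ring_nf; positivity) (by rw [hB]; ring_nf; positivity)
  have s14 : ¬ P ^ 2 ∣ 1 - (a + 2) + (a + 2) ^ 2 - (a + 2) ^ 3 + (a + 2) ^ 4 - (a + 2) ^ 5 + (a + 2) ^ 6 :=
    nq _ (by ring_nf; positivity) (by rw [hB]; ring_nf; positivity)
  have s9 : ¬ P ^ 2 ∣ 1 + (a + 2) ^ 3 + (a + 2) ^ 6 :=
    nq _ (by ring_nf; positivity) (by rw [hB]; ring_nf; positivity)
  have s18 : ¬ P ^ 2 ∣ 1 - (a + 2) ^ 3 + (a + 2) ^ 6 :=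
    nq _ (by ring_nf; positivity) (by rw [hB]; ring_nf; positivity)
  have s15 : ¬ P ^ 2 ∣ 1 - (a + 2) + (a + 2) ^ 3 - (a + 2) ^ 4 + (a + 2) ^ 5 - (a + 2) ^ 7 + (a + 2) ^ 8 :=
    nq _ (by ring_nf; positivity) (by rw [hB]; ring_nf; positivity)
  have s30 : ¬ P ^ 2 ∣ 1 + (a + 2) - (a + 2) ^ 3 - (a + 2) ^ 4 - (a + 2) ^ 5 + (a + 2) ^ 7 + (a + 2) ^ 8 :=
    nq _ (by ring_nf; positivity) (by rw [hB]; ring_nf; positivity)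
  have s24 : ¬ P ^ 2 ∣ 1 - (a + 2) ^ 4 + (a + 2) ^ 8 :=
    nq _ (by ring_nf; positivity) (by rw [hB]; ring_nf; positivity)
  have s20 : ¬ P ^ 2 ∣ 1 - (a + 2) ^ 2 + (a + 2) ^ 4 - (a + 2) ^ 6 + (a + 2) ^ 8 :=
    nq _ (by ring_nf; positivity) (by rw [hB]; ring_nf; positivity)
  clear_value B
  generalize a + 2 = x at *
  have N2 : ¬ P ∣ x ^ 2 - 1 := by
    rw [show x ^ 2 - 1 = (x - 1) * (x + 1) by ring]; exact nd_mul hP n1 n2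
  have N4 : ¬ P ∣ x ^ 4 - 1 := by
    rw [show x ^ 4 - 1 = (x ^ 2 - 1) * (x ^ 2 + 1) by ring]; exact nd_mul hP N2 n4
  have N6 : ¬ P ∣ x ^ 6 - 1 := by
    rw [show x ^ 6 - 1 = (x ^ 2 - 1) * ((x ^ 2 + x + 1) * (x ^ 2 - x + 1)) by ring]; exact nd_mul hP N2 (nd_mul hP n3 n6)
  have N8 : ¬ P ∣ x ^ 8 - 1 := by
    rw [show x ^ 8 - 1 = (x ^ 4 - 1) * (x ^ 4 + 1) by ring]; exact nd_mul hP N4 n8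
  have N10 : ¬ P ∣ x ^ 10 - 1 := by
    rw [show x ^ 10 - 1 = (x ^ 2 - 1) * ((x ^ 4 + x ^ 3 + x ^ 2 + x + 1) * (x ^ 4 - x ^ 3 + x ^ 2 - x + 1)) by ring]
    exact nd_mul hP N2 (nd_mul hP n5 n10)
  have N12 : ¬ P ∣ x ^ 12 - 1 := by
    rw [show x ^ 12 - 1 = (x ^ 6 - 1) * ((x ^ 2 + 1) * (x ^ 4 - x ^ 2 + 1)) by ring]
    exact nd_mul hP N6 (nd_mul hP n4 n12)
  have sq : ∀ {a : ℤ}, ¬ P ∣ a → ¬ P ^ 2 ∣ a := fun ha h => ha ((dvd_pow_self P two_ne_zero).trans h)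
  have two : ∀ {m : ℕ} {b c : ℤ}, b ∣ x ^ m - 1 → c ∣ x ^ m + 1 → P ∣ b → P ∣ c → False := fun hb hc h1 h2 => by
    have h3 := dvd_sub (h2.trans hc) (h1.trans hb)
    rw [show ∀ y : ℤ, y + 1 - (y - 1) = 2 from fun y => by ring] at h3
    exact nn2 h3
  have S14 : ¬ P ^ 2 ∣ x ^ 14 - 1 := by
    rw [show x ^ 14 - 1 = (x ^ 2 - 1) * ((1 + x + x ^ 2 + x ^ 3 + x ^ 4 + x ^ 5 + x ^ 6) * (1 - x + x ^ 2 - x ^ 3 + x ^ 4 - x ^ 5 + x ^ 6)) by ring]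
    exact not_sq hP N2 (not_sq2 hP (two (m := 7) ⟨x - 1, by ring⟩ ⟨x + 1, by ring⟩) s7 s14)
  have S18 : ¬ P ^ 2 ∣ x ^ 18 - 1 := by
    rw [show x ^ 18 - 1 = (x ^ 6 - 1) * ((1 + x ^ 3 + x ^ 6) * (1 - x ^ 3 + x ^ 6)) by ring]
    exact not_sq hP N6 (not_sq2 hP (two (m := 9) ⟨x ^ 3 - 1, by ring⟩ ⟨x ^ 3 + 1, by ring⟩) s9 s18)
  have S20 : ¬ P ^ 2 ∣ x ^ 20 - 1 := by
    rw [show x ^ 20 - 1 = ((x ^ 10 - 1) * (x ^ 2 + 1)) * (1 - x ^ 2 + x ^ 4 - x ^ 6 + x ^ 8) by ring]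
    exact not_sq hP (nd_mul hP N10 n4) s20
  have S24 : ¬ P ^ 2 ∣ x ^ 24 - 1 := by
    rw [show x ^ 24 - 1 = ((x ^ 12 - 1) * (x ^ 4 + 1)) * (1 - x ^ 4 + x ^ 8) by ring]
    exact not_sq hP (nd_mul hP N12 n8) s24
  have S30 : ¬ P ^ 2 ∣ x ^ 30 - 1 := by
    rw [show x ^ 30 - 1 = ((x ^ 10 - 1) * ((x ^ 2 + x + 1) * (x ^ 2 - x + 1))) * ((1 - x + x ^ 3 - x ^ 4 + x ^ 5 - x ^ 7 + x ^ 8) * (1 + x - x ^ 3 - x ^ 4 - x ^ 5 + x ^ 7 + x ^ 8)) by ring]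
    exact not_sq hP (nd_mul hP N10 (nd_mul hP n3 n6)) (not_sq2 hP (two (m := 15)
      ⟨(x ^ 5 - 1) * (x ^ 2 + x + 1), by ring⟩ ⟨(x ^ 5 + 1) * (x ^ 2 - x + 1), by ring⟩) s15 s30)
  have e : P8 x = x ^ 120 * (([30, 24, 20, 18, 14, 12, 8, 2] : List ℕ).map fun d => x ^ d - 1).prod := by
    simp only [P8, List.map_cons, List.map_nil, List.prod_cons, List.prod_nil]; ring
  rw [e] at h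
  refine not_sq hP (nd_pow hP n0 _) (not_sq_list hP _ ?_ ?_) h
  · simp only [List.mem_cons, forall_eq_or_imp, List.not_mem_nil, false_imp_iff, implies_true, and_true]
    exact ⟨S30, S24, S20, S18, S14, sq N12, sq N8, sq N2⟩
  · simp only [List.pairwise_cons, List.mem_cons, forall_eq_or_imp, List.not_mem_nil, false_imp_iff, implies_true,
      and_true, List.Pairwise.nil]
    norm_num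
    tauto

set_option maxHeartbeats 4000000
set_option maxRecDepth 100000

theorem w24 (x : ℤ) : ∃ M : ℤ, P8 x = (1 - x ^ 4 + x ^ 8) * M ∧ (1 - x ^ 4 + x ^ 8) ∣ M - 24 :=
  ⟨x ^ 120 * (x ^ 30 - 1) * ((x ^ 12 - 1) * (x ^ 4 + 1)) * (x ^ 20 - 1) * (x ^ 18 - 1) * (x ^ 14 - 1) * (x ^ 12 - 1) * (x ^ 8 - 1) * (x ^ 2 - 1), by unfold P8; ring, ⟨-24 - 24 * x ^ 4 + 24 * x ^ 12 + 24 * x ^ 16 - 24 * x ^ 24 - 24 * x ^ 28 + 24 * x ^ 36 + 24 * x ^ 40 - 24 * x ^ 48 - 24 * x ^ 52 + 24 * x ^ 60 + 24 * x ^ 64 - 24 * x ^ 72 - 24 * x ^ 76 + 24 * x ^ 84 + 24 * x ^ 88 - 24 * x ^ 96 - 24 * x ^ 100 + 24 * x ^ 108 + 24 * x ^ 112 - 23 * x ^ 120 - x ^ 122 - 22 * x ^ 124 - 2 * x ^ 126 + 19 * x ^ 132 + 4 * x ^ 134 + 18 * x ^ 136 + 4 * x ^ 138 + 2 * x ^ 140 - x ^ 142 - 14 * x ^ 144 - 3 * x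 ^ 146 - 18 * x ^ 148 - 5 * x ^ 152 + 15 * x ^ 156 - 4 * x ^ 158 + 19 * x ^ 160 - 2 * x ^ 162 + 5 * x ^ 166 - 18 * x ^ 168 + 4 * x ^ 170 - 12 * x ^ 172 - 4 * x ^ 174 + 6 * x ^ 176 - 4 * x ^ 178 + 12 * x ^ 180 + 4 * x ^ 182 + 6 * x ^ 184 + 5 * x ^ 186 - 2 * x ^ 190 - 5 * x ^ 192 - 4 * x ^ 194 - 9 * x ^ 196 - 5 * x ^ 200 + 6 * x ^ 204 - 3 * x ^ 206 + 10 * x ^ 208 - x ^ 210 + 2 * x ^ 212 + 4 * x ^ 214 - 6 * x ^ 216 + 4 * x ^ 218 - 5 * x ^ 220 - 2 * x ^ 226 + 2 * x ^ 228 - x ^ 230 + x ^ 232, by ring⟩⟩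

theorem w30 (x : ℤ) : ∃ M : ℤ, P8 x = (1 + x - x ^ 3 - x ^ 4 - x ^ 5 + x ^ 7 + x ^ 8) * M ∧ (1 + x - x ^ 3 - x ^ 4 - x ^ 5 + x ^ 7 + x ^ 8) ∣ M - 30 :=
  ⟨x ^ 120 * ((x ^ 15 - 1) * ((x ^ 5 + 1) * (x ^ 2 - x + 1))) * (x ^ 24 - 1) * (x ^ 20 - 1) * (x ^ 18 - 1) * (x ^ 14 - 1) * (x ^ 12 - 1) * (x ^ 8 - 1) * (x ^ 2 - 1), by unfold P8; ring, ⟨-30 + 30 * x - 30 * x ^ 2 - 30 * x ^ 5 + 30 * x ^ 6 - 30 * x ^ 7 + 30 * x ^ 15 - 30 * x ^ 16 + 30 * x ^ 17 + 30 * x ^ 20 - 30 * x ^ 21 + 30 * x ^ 22 - 30 * x ^ 30 + 30 * x ^ 31 - 30 * x ^ 32 - 30 * x ^ 35 + 30 * x ^ 36 - 30 * x ^ 37 + 30 * x ^ 45 - 30 * x ^ 46 + 30 * x ^ 47 + 30 * x ^ 50 - 30 * x ^ 51 + 30 * x ^ 52 - 30 * x ^ 60 + 30 * x ^ 61 - 30 * x ^ 62 - 30 * x ^ 65 + 30 * x ^ 66 - 30 * x ^ 67 + 30 * x ^ 75 - 30 * x ^ 76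 + 30 * x ^ 77 + 30 * x ^ 80 - 30 * x ^ 81 + 30 * x ^ 82 - 30 * x ^ 90 + 30 * x ^ 91 - 30 * x ^ 92 - 30 * x ^ 95 + 30 * x ^ 96 - 30 * x ^ 97 + 30 * x ^ 105 - 30 * x ^ 106 + 30 * x ^ 107 + 30 * x ^ 110 - 30 * x ^ 111 + 30 * x ^ 112 - 29 * x ^ 120 + 28 * x ^ 121 - 28 * x ^ 122 - 2 * x ^ 124 - 26 * x ^ 125 + 25 * x ^ 126 - 26 * x ^ 127 - x ^ 128 - 2 * x ^ 129 + 3 * x ^ 130 - 4 * x ^ 131 + 3 * x ^ 132 - 2 * x ^ 133 + 28 * x ^ 135 - 27 * x ^ 136 + 26 * x ^ 137 + x ^ 138 + 2 * x ^ 139 + 23 * x ^ 140 - 20 * x ^ 141 + 22 * x ^ 142 + 2 * x ^ 143 + 4 * x ^ 144 - 4 * x ^ 145 + 6 * x ^ 146 - 4 * x ^ 147 + 4 * x ^ 148 - 25 * x ^ 150 + 26 * x ^ 151 - 26 * x ^ 152 + 2 * x ^ 153 - 3 * x ^ 154 - 20 * x ^ 155 + 16 * x ^ 156 - 18 * x ^ 157 - 4 * x ^ 158 - 4 * x ^ 159 + 4 * x ^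 160 - 8 * x ^ 161 + 4 * x ^ 162 - 6 * x ^ 163 + x ^ 164 + 18 * x ^ 165 - 21 * x ^ 166 + 22 * x ^ 167 - 6 * x ^ 168 + 6 * x ^ 169 + 14 * x ^ 170 - 12 * x ^ 171 + 15 * x ^ 172 + 2 * x ^ 173 + 6 * x ^ 174 - 6 * x ^ 175 + 12 * x ^ 176 - 6 * x ^ 177 + 6 * x ^ 178 + 2 * x ^ 179 - 15 * x ^ 180 + 18 * x ^ 181 - 16 * x ^ 182 + 6 * x ^ 183 - 6 * x ^ 184 - 8 * x ^ 185 + 9 * x ^ 186 - 12 * x ^ 187 + x ^ 188 - 6 * x ^ 189 + 4 * x ^ 190 - 8 * x ^ 191 + 4 * x ^ 192 - 4 * x ^ 193 - 4 * x ^ 194 + 12 * x ^ 195 - 14 * x ^ 196 + 10 * x ^ 197 - 3 * x ^ 198 + 2 * x ^ 199 + 4 * x ^ 200 - 4 * x ^ 201 + 5 * x ^ 202 + 4 * x ^ 204 - 4 * x ^ 205 + 6 * x ^ 206 - 4 * x ^ 207 + 4 * x ^ 208 + 2 * x ^ 209 - 8 * x ^ 210 + 10 * x ^ 211 - 7 * x ^ 212 + 2 * x ^ 213 + x ^ 214 - 4 * x ^ 215 + 3 *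 x ^ 216 - 2 * x ^ 217 - 2 * x ^ 219 + 3 * x ^ 220 - 4 * x ^ 221 + 3 * x ^ 222 - 2 * x ^ 223 - x ^ 224 + 4 * x ^ 225 - 5 * x ^ 226 + 4 * x ^ 227 - 2 * x ^ 228 + 2 * x ^ 230 - 2 * x ^ 231 + x ^ 232, by ring⟩⟩

theorem w15 (x : ℤ) : ∃ M : ℤ, P8 x = (1 - x + x ^ 3 - x ^ 4 + x ^ 5 - x ^ 7 + x ^ 8) * M ∧ (1 - x + x ^ 3 - x ^ 4 + x ^ 5 - x ^ 7 + x ^ 8) ∣ M - 30 :=
  ⟨x ^ 120 * ((x ^ 15 + 1) * ((x ^ 5 - 1) * (x ^ 2 + x + 1))) * (x ^ 24 - 1) * (x ^ 20 - 1) * (x ^ 18 - 1) * (x ^ 14 - 1) * (x ^ 12 - 1) * (x ^ 8 - 1) * (x ^ 2 - 1), by unfold P8; ring, ⟨-30 - 30 * x - 30 * x ^ 2 + 30 * x ^ 5 + 30 * x ^ 6 + 30 * x ^ 7 - 30 * x ^ 15 - 30 * x ^ 16 - 30 * x ^ 17 + 30 * x ^ 20 + 30 * x ^ 21 + 30 * x ^ 22 - 30 * x ^ 30 - 30 * x ^ 31 - 30 * x ^ 32 + 30 * x ^ 35 + 30 * x ^ 36 +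 30 * x ^ 37 - 30 * x ^ 45 - 30 * x ^ 46 - 30 * x ^ 47 + 30 * x ^ 50 + 30 * x ^ 51 + 30 * x ^ 52 - 30 * x ^ 60 - 30 * x ^ 61 - 30 * x ^ 62 + 30 * x ^ 65 + 30 * x ^ 66 + 30 * x ^ 67 - 30 * x ^ 75 - 30 * x ^ 76 - 30 * x ^ 77 + 30 * x ^ 80 + 30 * x ^ 81 + 30 * x ^ 82 - 30 * x ^ 90 - 30 * x ^ 91 - 30 * x ^ 92 + 30 * x ^ 95 + 30 * x ^ 96 + 30 * x ^ 97 - 30 * x ^ 105 - 30 * x ^ 106 - 30 * x ^ 107 + 30 * x ^ 110 + 30 * x ^ 111 + 30 * x ^ 112 - 29 * x ^ 120 - 28 * x ^ 121 - 28 * x ^ 122 - 2 * x ^ 124 + 26 * x ^ 125 + 25 * x ^ 126 + 26 * x ^ 127 - x ^ 128 + 2 * x ^ 129 + 3 * x ^ 130 + 4 * x ^ 131 + 3 * x ^ 132 + 2 * x ^ 133 - 28 * x ^ 135 - 27 * x ^ 136 - 26 * x ^ 137 + x ^ 138 - 2 * x ^ 139 + 23 * x ^ 140 + 20 * x ^ 141 + 22 * x ^ 142 - 2 * x ^ 143 + 4 * x ^ 144 + 4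 * x ^ 145 + 6 * x ^ 146 + 4 * x ^ 147 + 4 * x ^ 148 - 25 * x ^ 150 - 26 * x ^ 151 - 26 * x ^ 152 - 2 * x ^ 153 - 3 * x ^ 154 + 20 * x ^ 155 + 16 * x ^ 156 + 18 * x ^ 157 - 4 * x ^ 158 + 4 * x ^ 159 + 4 * x ^ 160 + 8 * x ^ 161 + 4 * x ^ 162 + 6 * x ^ 163 + x ^ 164 - 18 * x ^ 165 - 21 * x ^ 166 - 22 * x ^ 167 - 6 * x ^ 168 - 6 * x ^ 169 + 14 * x ^ 170 + 12 * x ^ 171 + 15 * x ^ 172 - 2 * x ^ 173 + 6 * x ^ 174 + 6 * x ^ 175 + 12 * x ^ 176 + 6 * x ^ 177 + 6 * x ^ 178 - 2 * x ^ 179 - 15 * x ^ 180 - 18 * x ^ 181 - 16 * x ^ 182 - 6 * x ^ 183 - 6 * x ^ 184 + 8 * x ^ 185 + 9 * x ^ 186 + 12 * x ^ 187 + x ^ 188 + 6 * x ^ 189 + 4 * x ^ 190 + 8 * x ^ 191 + 4 * x ^ 192 + 4 * x ^ 193 - 4 * x ^ 194 - 12 * x ^ 195 - 14 * x ^ 196 - 10 * x ^ 197 - 3 * x ^ 198 - 2 * x ^ 199 + 4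 * x ^ 200 + 4 * x ^ 201 + 5 * x ^ 202 + 4 * x ^ 204 + 4 * x ^ 205 + 6 * x ^ 206 + 4 * x ^ 207 + 4 * x ^ 208 - 2 * x ^ 209 - 8 * x ^ 210 - 10 * x ^ 211 - 7 * x ^ 212 - 2 * x ^ 213 + x ^ 214 + 4 * x ^ 215 + 3 * x ^ 216 + 2 * x ^ 217 + 2 * x ^ 219 + 3 * x ^ 220 + 4 * x ^ 221 + 3 * x ^ 222 + 2 * x ^ 223 - x ^ 224 - 4 * x ^ 225 - 5 * x ^ 226 - 4 * x ^ 227 - 2 * x ^ 228 + 2 * x ^ 230 + 2 * x ^ 231 + x ^ 232, by ring⟩⟩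

end Cfsg.Agent.H92.PRegE8
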