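import Cfsg.Agent.H92.PRegT

/-!
# Number-theoretic tools for the exceptional rows of S4883 (helper92)
-/

set_option autoImplicit false

namespace Cfsg.Agent.H92.PRegNum

open Cfsg.Agent.H93.PReg Cfsg.Agent.H92.PRegT Cfsg.Agent.H92.KTools

universe u

theorem modEq_of_int {c t N w : ℕ} {M : ℤ} (ht : 0 < t) (h1 : (c : ℤ) = t * M) (h2 : (N : ℤ) ∣ M - w) :
    c / t ≡ w [MOD N] := by
  have ht' : (0 : ℤ) < t := by exact_mod_cast ht
  have hM : 0 ≤ M := by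
    by_contra hneg
    push Not at hneg
    have : (c : ℤ) < 0 := by rw [h1]; exact mul_neg_of_pos_of_neg ht' hneg
    omega
  obtain ⟨m, rfl⟩ := Int.eq_ofNat_of_zero_le hM
  have h3 : c = t * m := by exact_mod_cast h1
  rw [h3, Nat.mul_div_cancel_left _ ht]
  exact ((Nat.modEq_iff_dvd).2 (by
    have := (dvd_neg (α := ℤ)).2 h2
    simpa using this))

/-! ### divisibility in `ℤ` -/

theorem not_sq {P a b : ℤ} (hP : Prime P) (ha : ¬ P ∣ a) (hb : ¬ P ^ 2 ∣ b) : ¬ P ^ 2 ∣ a * b := fun h =>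
  hb (hP.pow_dvd_of_dvd_mul_left 2 ha h)

theorem not_sq2 {P a b : ℤ} (hP : Prime P) (hab : P ∣ a → P ∣ b → False) (ha : ¬ P ^ 2 ∣ a) (hb : ¬ P ^ 2 ∣ b) :
    ¬ P ^ 2 ∣ a * b := by
  by_cases h : P ∣ a
  · rw [mul_comm]
    exact not_sq hP (fun h2 => hab h h2) ha
  · exact not_sq hP h hb

theorem nd_lt {P a : ℤ} (ha : 0 < a) (h : a < P) : ¬ P ∣ a := fun hd => absurd (Int.le_of_dvd ha hd) (not_le.2 h)

theorem nd_mul {P a b : ℤ} (hP : Prime P) (ha : ¬ P ∣ a) (hb : ¬ P ∣ b) : ¬ P ∣ a * b := fun h =>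
  (hP.dvd_or_dvd h).elim ha hb

theorem nd_pow {P a : ℤ} (hP : Prime P) (ha : ¬ P ∣ a) (n : ℕ) : ¬ P ∣ a ^ n := fun h => ha (hP.dvd_of_dvd_pow h)

theorem nd_abs {P a : ℤ} (ha : a ≠ 0) (h : |a| < P) : ¬ P ∣ a := fun hd =>
  nd_lt (abs_pos.2 ha) h ((dvd_abs P a).2 hd)

theorem dvd_gcd_pow {P x : ℤ} {m n : ℕ} (hm : P ∣ x ^ m - 1) (hn : P ∣ x ^ n - 1) : P ∣ x ^ Nat.gcd m n - 1 := by
  have key : ∀ k : ℕ, P ∣ x ^ k - 1 ↔ (Ideal.Quotient.mk (Ideal.span {P}) x) ^ k = 1 := by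
    intro k
    rw [← Ideal.mem_span_singleton, ← Ideal.Quotient.eq_zero_iff_mem, map_sub, map_pow, map_one, sub_eq_zero]
  rw [key] at hm hn ⊢
  exact pow_gcd_eq_one.2 ⟨hm, hn⟩

theorem not_sq_list {P x : ℤ} (hP : Prime P) (L : List ℕ) (h1 : ∀ d ∈ L, ¬ P ^ 2 ∣ x ^ d - 1)
    (h2 : L.Pairwise fun d d' => ¬ P ∣ x ^ Nat.gcd d d' - 1) : ¬ P ^ 2 ∣ (L.map fun d => x ^ d - 1).prod := by
  induction L with
  | nil =>
    rw [List.map_nil, List.prod_nil]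
    exact fun h => hP.not_dvd_one ((dvd_pow_self P two_ne_zero).trans h)
  | cons d L ih =>
    rw [List.map_cons, List.prod_cons]
    rw [List.pairwise_cons] at h2
    refine not_sq2 hP (fun h3 h4 => ?_) (h1 d (by simp)) (ih (fun e he => h1 e (by simp [he])) h2.2)
    rw [Prime.dvd_prod_iff hP] at h4
    obtain ⟨a, ha, hPa⟩ := h4
    obtain ⟨e, he, rfl⟩ := List.mem_map.1 ha
    exact h2.1 e he (dvd_gcd_pow h3 hPa)

/-- from a torus -/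
theorem reg_of_torus {S : Type u} [Group S] {m n p : ℕ} (hm : ¬ p ∣ m) (h : MO {k | k ∣ m ∧ k ≠ 1} n S) :
    MO (Reg p) n S := h.mono (fun _ hk hd => hm (hd.trans hk.1)) le_rfl

/-- adding element orders to a torus -/
theorem reg_add {S : Type u} [Group S] {m n p : ℕ} (hm : ¬ p ∣ m) (h : MO {k | k ∣ m ∧ k ≠ 1} n S)
    (L : Finset ℕ) (hL : ∀ k ∈ L, HasOrd S k) (hL2 : ∀ k ∈ L, ¬ p ∣ k) (hL3 : ∀ k ∈ L, k ∣ m → k = 1)
    {n' : ℕ} (hn : n' ≤ n + L.card) : MO (Reg p) n' S := by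
  have h1 := MO.of_finset (A := {k | ¬ p ∣ k ∧ (k ∣ m → k = 1)}) L hL fun k hk => ⟨hL2 k hk, hL3 k hk⟩
  refine (MO.add ?_ h h1).mono ?_ hn
  · rw [Set.disjoint_left]
    intro k hk hk2
    exact hk.2 (hk2.2 hk.1)
  · rintro k (hk | hk)
    · exact fun hd => hm (hd.trans hk.1)
    · exact hk.1

/-- two tori and some element orders -/
theorem reg_add2 {S : Type u} [Group S] {m₁ m₂ n₁ n₂ p : ℕ} (h12 : m₁.Coprime m₂) (hm₁ : ¬ p ∣ m₁) (hm₂ : ¬ p ∣ m₂)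
    (h₁ : MO {k | k ∣ m₁ ∧ k ≠ 1} n₁ S) (h₂ : MO {k | k ∣ m₂ ∧ k ≠ 1} n₂ S)
    (L : Finset ℕ) (hL : ∀ k ∈ L, HasOrd S k) (hL2 : ∀ k ∈ L, ¬ p ∣ k) (hL3 : ∀ k ∈ L, k ∣ m₁ → k = 1)
    (hL4 : ∀ k ∈ L, k ∣ m₂ → k = 1) {n' : ℕ} (hn : n' ≤ n₁ + n₂ + L.card) : MO (Reg p) n' S := by
  have h1 := MO.of_finset (A := {k | ¬ p ∣ k ∧ (k ∣ m₁ → k = 1) ∧ (k ∣ m₂ → k = 1)}) L hL
    fun k hk => ⟨hL2 k hk, hL3 k hk, hL4 k hk⟩
  refine (MO.add ?_ (MO.add ?_ h₁ h₂) h1).mono ?_ hn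
  · rw [Set.disjoint_left]
    rintro k (hk | hk) hk2
    · exact hk.2 (hk2.2.1 hk.1)
    · exact hk.2 (hk2.2.2 hk.1)
  · rw [Set.disjoint_left]
    intro k hk hk2
    exact hk.2 (Nat.dvd_one.1 (h12 ▸ Nat.dvd_gcd hk.1 hk2.1))
  · rintro k ((hk | hk) | hk)
    · exact fun hd => hm₁ (hd.trans hk.1)
    · exact fun hd => hm₂ (hd.trans hk.1)
    · exact hk.1

/-- only element orders -/
theorem reg_ords {S : Type u} [Group S] {p : ℕ} (L : Finset ℕ) (hL : ∀ k ∈ L, HasOrd S k) (hL2 : ∀ k ∈ L, ¬ p ∣ k)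
    {n : ℕ} (hn : n ≤ L.card) : MO (Reg p) n S :=
  (MO.of_finset (A := Reg p) L hL hL2).mono (fun _ h => h) hn

/-- `1` and prime divisors of the order are element orders -/
theorem ords {S : Type u} [Group S] [Finite S] {n : ℕ} (hn : Nat.card S = n) (L : Finset ℕ)
    (hL : ∀ k ∈ L, k = 1 ∨ k.Prime ∧ k ∣ n) : ∀ k ∈ L, HasOrd S k := by
  intro k hk
  rcases hL k hk with rfl | ⟨h1, h2⟩
  · exact hasOrd_one S
  · exact hasOrd_prime h1 (hn ▸ h2)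

/-- the congruence for a torus of order `Nf` or `Nf / g` -/
theorem mod_gen {S : Type u} [Group S] [Finite S] {g Nf t N N' w : ℕ} {M : ℤ} (hg : g = 1 ∨ g.Prime)
    (hcard : (g : ℤ) * Nat.card S = Nf * M) (hNf : 0 < Nf) (hM : (N : ℤ) ∣ M - w) (hgw : g ∣ w)
    (hco : Nat.Coprime g N) (h1 : Nf ∣ g * t) (h2 : t ∣ Nf) (hiso : Iso S t N') :
    ∃ w', w' ≤ w ∧ Nat.card S / t ≡ w' [MOD N] := by
  obtain ⟨T, hT⟩ := hiso
  obtain ⟨k, hk⟩ := h2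
  have ht0 : 0 < t := Nat.pos_of_ne_zero (by rintro rfl; omega)
  have hk0 : 0 < k := Nat.pos_of_ne_zero (by rintro rfl; omega)
  have hkg : k ∣ g := by
    rw [hk, mul_comm g t] at h1
    exact Nat.dvd_of_mul_dvd_mul_left ht0 h1
  have hcase : k = g ∨ (k = 1 ∧ g.Prime) := by
    rcases hg with rfl | hg
    · exact Or.inl (Nat.dvd_one.1 hkg)
    · rcases (Nat.dvd_prime hg).1 hkg with h | h
      · exact Or.inr ⟨h, hg⟩
      · exact Or.inl h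
  rcases hcase with rfl | ⟨rfl, hg'⟩
  · refine ⟨w, le_rfl, modEq_of_int (M := M) ht0 ?_ hM⟩
    have hk' : (k : ℤ) ≠ 0 := by exact_mod_cast hk0.ne'
    apply mul_left_cancel₀ hk'
    rw [hcard, hk]; push_cast; ring
  · have h5 : t ∣ Nat.card S := by rw [← hT.card]; exact Subgroup.card_subgroup_dvd_card T
    obtain ⟨u, hu⟩ := h5
    obtain ⟨w', rfl⟩ := hgw
    have hg0 : 0 < g := hg'.pos
    refine ⟨w', Nat.le_mul_of_pos_left w' hg0, modEq_of_int (M := (u : ℤ)) ht0 (by rw [hu]; push_cast; ring) ?_⟩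
    have h6 : (g : ℤ) * u = M := by
      have h7 : (t : ℤ) ≠ 0 := by exact_mod_cast ht0.ne'
      apply mul_left_cancel₀ h7
      rw [mul_one] at hk
      rw [hk] at hcard
      rw [← hcard, hu]; push_cast; ring
    have h7 : (N : ℤ) ∣ g * ((u : ℤ) - w') := by
      rw [← h6] at hM
      rw [mul_sub]
      exact_mod_cast hM
    have h8 : IsCoprime (N : ℤ) g := Nat.isCoprime_iff_coprime.2 hco.symm
    exact h8.dvd_of_dvd_mul_left h7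

/-! ### the exponent `f` -/

theorem two_le_of {q ℓ f : ℕ} (hℓ : ℓ.Prime) (hf : 1 ≤ f) (hq : q = ℓ ^ f) : 2 ≤ q := by
  rw [hq]
  calc 2 ≤ ℓ := hℓ.two_le
    _ = ℓ ^ 1 := (pow_one ℓ).symm
    _ ≤ ℓ ^ f := Nat.pow_le_pow_right hℓ.pos hf

/-- `q = 2^f` or `3^f ≤ q`, `q` odd -/
theorem two_or_three {q ℓ f : ℕ} (hℓ : ℓ.Prime) (hq : q = ℓ ^ f) : (ℓ = 2 ∧ q = 2 ^ f) ∨ (ℓ ≠ 2 ∧ 3 ^ f ≤ q ∧ Odd q) := by
  rcases hℓ.eq_two_or_odd' with rfl | h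
  · exact Or.inl ⟨rfl, hq⟩
  · refine Or.inr ⟨?_, ?_, ?_⟩
    · rintro rfl; exact absurd h (by decide)
    · rw [hq]
      refine Nat.pow_le_pow_left ?_ f
      have := hℓ.two_le
      rcases h with ⟨k, rfl⟩
      omega
    · rw [hq]; exact h.pow

theorem lt_two_pow' (f : ℕ) : f + 1 ≤ 2 ^ f := Nat.lt_two_pow_self

theorem four_mul_le {f : ℕ} (hf : 4 ≤ f) : 4 * f ≤ 2 ^ f := by
  induction f, hf using Nat.le_induction with
  | base => norm_num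
  | succ n hn ih => rw [pow_succ]; omega

theorem eight_mul_le {f : ℕ} (hf : 3 ≤ f) : 8 * f ≤ 3 * 2 ^ f := by
  induction f, hf using Nat.le_induction with
  | base => norm_num
  | succ n hn ih => rw [pow_succ]; omega

theorem nine_mul_le {f : ℕ} (hf : 2 ≤ f) : 9 * f ≤ 2 * 3 ^ f := by
  induction f, hf using Nat.le_induction with
  | base => norm_num
  | succ n hn ih => rw [pow_succ]; omega

end Cfsg.Agent.H92.PRegNum
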